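import Groth.Agent.EtLimLib.Hpull

/-!
# `pushJoin` and `comparePull` in terms of the composition isomorphisms
-/

set_option autoImplicit false
set_option linter.unusedSectionVars false
set_option linter.style.haveILetI false
set_option backward.isDefEq.respectTransparency false
set_option backward.isDefEq.respectTransparency.types false
set_option maxHeartbeats 1000000

universe u

open CategoryTheory CategoryTheory.Limits AlgebraicGeometry Opposite Abelian

noncomputable section

namespace Groth.Agent.EtLimLib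

variable {A B C : Scheme.{u}} (g : B ⟶ A) (f : C ⟶ B) (h : C ⟶ A) (w : f ≫ g = h)

theorem pushComp_hom_eq (G : EtCoh.Ab C) :
    (EtCoh.pushComp g f).hom.app G = pushJoin g f (f ≫ g) rfl G := by
  refine ObjectProperty.hom_ext _ (NatTrans.ext (funext fun W => ?_))
  obtain ⟨W⟩ := W
  refine Eq.trans (b := G.obj.map ((MorphismProperty.Over.pullbackComp (P := EtCoh.etaleMP) (Q := ⊤) f g).hom.app W).op) rfl ?_
  show _ = G.obj.map (bcSpInv g f (f ≫ g) rfl W).op
  congr 2
  refine bc_ext _ (pullback.hom_ext ?_ ?_)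
  · refine Eq.trans ?_ ((congrArg (· ≫ pullback.fst W.hom g) (bcSpInv_fst g f (f ≫ g) rfl W)).trans
      (pullback.lift_fst _ _ _)).symm
    simp [EtCoh.bc, MorphismProperty.Over.pullbackComp]
    refine (Category.id_comp _).trans ?_
    exact pullbackLeftPullbackSndIso_inv_fst W.hom g f
  · refine Eq.trans ?_ ((congrArg (· ≫ pullback.snd W.hom g) (bcSpInv_fst g f (f ≫ g) rfl W)).trans
      (pullback.lift_snd _ _ _)).symm
    simp [EtCoh.bc, MorphismProperty.Over.pullbackComp]
    refine (Category.id_comp _).trans ?_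
    exact pullbackLeftPullbackSndIso_inv_fst_snd W.hom g f

theorem pushCongr_rfl {X Y : Scheme.{u}} (q : X ⟶ Y) (G : EtCoh.Ab X) :
    (EtCoh.pushCongr (rfl : q = q)).hom.app G = 𝟙 _ := by
  refine ObjectProperty.hom_ext _ (NatTrans.ext (funext fun W => ?_))
  obtain ⟨W⟩ := W
  refine Eq.trans (b := G.obj.map
    ((MorphismProperty.Over.pullbackCongr (P := EtCoh.etaleMP) (Q := ⊤) (rfl : q = q)).inv.app W).op) rfl ?_
  rw [show (MorphismProperty.Over.pullbackCongr (P := EtCoh.etaleMP) (Q := ⊤) (rfl : q = q)).inv.app W = 𝟙 _ from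
    bc_ext q (by simp [MorphismProperty.Over.pullbackCongr, EtCoh.bc]; exact Category.id_comp _), op_id, CategoryTheory.Functor.map_id]
  rfl

theorem pushComp_congr_eq (G : EtCoh.Ab C) :
    (EtCoh.pushComp g f).hom.app G ≫ (EtCoh.pushCongr w).hom.app G = pushJoin g f h w G := by
  subst w
  rw [pushComp_hom_eq, pushCongr_rfl]
  exact Category.comp_id _

theorem pushSp_eq (G : EtCoh.Ab C) :
    (pushSp g f h w).app G = (EtCoh.pushCongr w.symm).hom.app G ≫ (EtCoh.pushComp g f).inv.app G := by
  subst w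
  haveI : Mono (pushJoin g f (f ≫ g) rfl G) := mono_of_mono_fac (pushJoin_pushSp g f (f ≫ g) rfl G)
  rw [← cancel_mono (pushJoin g f (f ≫ g) rfl G), pushSp_pushJoin, pushCongr_rfl, ← pushComp_hom_eq, Category.assoc,
    Iso.inv_hom_id_app]
  exact (Category.comp_id _).symm

theorem comparePull_eq (F : EtCoh.Ab A) :
    (comparePull g f h w).app F = (EtCore.pullCongr w.symm).hom.app F ≫ (EtCore.pullComp f g).hom.app F := by
  subst w
  rw [show (EtCore.pullCongr (rfl : f ≫ g = f ≫ g)).hom.app F = 𝟙 _ from rfl, Category.id_comp]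
  apply ((EtCoh.pullPushAdj (f ≫ g)).homEquiv _ _).injective
  refine (Equiv.apply_symm_apply _ _).trans ?_
  rw [Adjunction.homEquiv_unit]
  refine Eq.trans ?_ (Adjunction.unit_leftAdjointUniq_hom_app (EtCoh.pullPushAdj (f ≫ g))
    (((EtCoh.pullPushAdj g).comp (EtCoh.pullPushAdj f)).ofNatIsoRight (EtCoh.pushComp g f)) F).symm
  rw [← pushComp_hom_eq]
  simp only [Adjunction.ofNatIsoRight, Adjunction.mkOfHomEquiv, Adjunction.comp]
  simp

end Groth.Agent.EtLimLib
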