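import Groth.Agent.EtLimLib.General
import Groth.Agent.EtLimLib.Bridge

/-!
# The system of inverse images of a sheaf on one stage

`Sys.after` restricts a system to the stages after `i₀`; `constSys` is the system of inverse images
of a sheaf on the stage `i₀`.
-/

set_option autoImplicit false
set_option linter.unusedSectionVars false
set_option linter.style.haveILetI false
set_option backward.isDefEq.respectTransparency false
set_option backward.isDefEq.respectTransparency.types false
set_option maxHeartbeats 1000000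

universe u

open CategoryTheory CategoryTheory.Limits AlgebraicGeometry Opposite

noncomputable section

namespace Groth.Agent.EtLimLib

theorem isIso_comparePull {A B C : Scheme.{u}} (g : B ⟶ A) (f : C ⟶ B) (h : C ⟶ A) (w : f ≫ g = h) (F : EtCoh.Ab A) :
    IsIso ((comparePull g f h w).app F) := by
  rw [comparePull_eq]
  haveI : IsIso ((EtCore.pullCongr w.symm).hom.app F) :=
    inferInstanceAs (IsIso ((EtCore.pullCongr w.symm).app F).hom)
  haveI : IsIso ((EtCore.pullComp f g).hom.app F) := inferInstanceAs (IsIso ((EtCore.pullComp f g).app F).hom)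
  infer_instance

theorem comparePull_transpose {A B C : Scheme.{u}} (g : B ⟶ A) (f : C ⟶ B) (h : C ⟶ A) (w : f ≫ g = h)
    (F : EtCoh.Ab A) :
    (comparePull g f h w).app F ≫ ((EtCoh.pullPushAdj f).homEquiv _ _).symm
      (((EtCoh.pullPushAdj g).homEquiv _ _).symm
        ((EtCoh.pullPushAdj h).unit.app F ≫ (pushSp g f h w).app ((EtCoh.pull h).obj F))) = 𝟙 _ := by
  apply ((EtCoh.pullPushAdj h).homEquiv _ _).injective
  rw [Adjunction.homEquiv_naturality_right, Adjunction.homEquiv_id]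
  rw [show (EtCoh.pullPushAdj h).homEquiv _ _ ((comparePull g f h w).app F) = _ from Equiv.apply_symm_apply _ _]
  rw [Category.assoc, Category.assoc, ← pushJoin_natural g f h w, ← Functor.map_comp_assoc]
  let ψ := ((EtCoh.pullPushAdj g).homEquiv _ _).symm
    ((EtCoh.pullPushAdj h).unit.app F ≫ (pushSp g f h w).app ((EtCoh.pull h).obj F))
  have e1 : (EtCoh.pullPushAdj f).unit.app ((EtCoh.pull g).obj F) ≫
      (EtCoh.push f).map (((EtCoh.pullPushAdj f).homEquiv _ _).symm ψ) = ψ :=
    ((EtCoh.pullPushAdj f).homEquiv_unit _ _ _).symm.trans (Equiv.apply_symm_apply _ _)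
  refine (congrArg (fun a => (EtCoh.pullPushAdj g).unit.app F ≫ (EtCoh.push g).map a ≫ pushJoin g f h w _) e1).trans ?_
  rw [← Category.assoc]
  have e2 : (EtCoh.pullPushAdj g).unit.app F ≫ (EtCoh.push g).map ψ =
      (EtCoh.pullPushAdj h).unit.app F ≫ (pushSp g f h w).app ((EtCoh.pull h).obj F) :=
    ((EtCoh.pullPushAdj g).homEquiv_unit _ _ _).symm.trans (Equiv.apply_symm_apply _ _)
  rw [e2, Category.assoc, pushSp_pushJoin]
  exact Category.comp_id _

variable {ι : Type u} [Preorder ι] [IsDirected ι (· ≤ ·)]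

instance isDirected_after (i₀ : ι) : IsDirected {j : ι // i₀ ≤ j} (· ≤ ·) where
  directed a b := by
    obtain ⟨m, hm, hm'⟩ := directed_of (α := ι) (· ≤ ·) a.1 b.1
    exact ⟨⟨m, a.2.trans hm⟩, hm, hm'⟩

instance nonempty_after (i₀ : ι) : Nonempty {j : ι // i₀ ≤ j} := ⟨⟨i₀, le_refl i₀⟩⟩

theorem monotone_after (i₀ : ι) : Monotone (Subtype.val : {j : ι // i₀ ≤ j} → ι) := fun _ _ h => h

/-- The system of the stages after `i₀`. -/
def Sys.after (S : Sys ι) (i₀ : ι) : Sys {j : ι // i₀ ≤ j} :=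
  haveI : (monotone_after i₀).functor.Final := (Monotone.final_functor_iff _).2 fun j => by
    obtain ⟨m, hm, hm'⟩ := directed_of (α := ι) (· ≤ ·) i₀ j
    exact ⟨⟨m, hm⟩, hm'⟩
  { Xs := (monotone_after i₀).functor.op ⋙ S.Xs
    aff := fun a b h => S.aff _
    qc := fun a => S.qc _
    qs := fun a => S.qs _
    c := S.c.whisker (monotone_after i₀).functor.op
    hc := (Functor.Initial.isLimitWhiskerEquiv (monotone_after i₀).functor.op S.c).symm S.hc }

variable [Nonempty ι] (S : Sys ι) {i₀ : ι} (hb : ∀ i, i₀ ≤ i) (F₀ : EtCoh.Ab (S.X i₀))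

/-- The transition maps of the inverse images. -/
def constφ {i j : ι} (h : i ≤ j) :
    (EtCoh.pull (S.t (hb i))).obj F₀ ⟶ (EtCoh.push (S.t h)).obj ((EtCoh.pull (S.t (hb j))).obj F₀) :=
  ((EtCoh.pullPushAdj (S.t (hb i))).homEquiv _ _).symm
    ((EtCoh.pullPushAdj (S.t (hb j))).unit.app F₀ ≫ (pushSp (S.t (hb i)) (S.t h) (S.t (hb j)) (S.t_t _ _)).app _)

theorem unit_constφ {i j : ι} (h : i ≤ j) :
    (EtCoh.pullPushAdj (S.t (hb i))).unit.app F₀ ≫ (EtCoh.push (S.t (hb i))).map (constφ S hb F₀ h) =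
      (EtCoh.pullPushAdj (S.t (hb j))).unit.app F₀ ≫
        (pushSp (S.t (hb i)) (S.t h) (S.t (hb j)) (S.t_t _ _)).app _ :=
  ((EtCoh.pullPushAdj (S.t (hb i))).homEquiv_unit _ _ _).symm.trans (Equiv.apply_symm_apply _ _)

/-- The system of inverse images of a sheaf of the first stage. -/
def constSys : SysSh S where
  F i := (EtCoh.pull (S.t (hb i))).obj F₀
  φ i j h := constφ S hb F₀ h
  cocycle i j k h h' := by
    apply ((EtCoh.pullPushAdj (S.t (hb i))).homEquiv _ _).injective
    rw [Adjunction.homEquiv_naturality_right, Adjunction.homEquiv_naturality_right]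
    rw [show (EtCoh.pullPushAdj (S.t (hb i))).homEquiv _ _ (constφ S hb F₀ h) = _ from Equiv.apply_symm_apply _ _,
      show (EtCoh.pullPushAdj (S.t (hb i))).homEquiv _ _ (constφ S hb F₀ (h.trans h')) = _ from
        Equiv.apply_symm_apply _ _]
    simp only [Category.assoc]
    have hn := (pushSp (S.t (hb i)) (S.t h) (S.t (hb j)) (S.t_t _ _)).naturality (constφ S hb F₀ h')
    refine Eq.trans ?_ (congrArg (fun a => (EtCoh.pullPushAdj (S.t (hb j))).unit.app F₀ ≫ a) hn)
    rw [← Category.assoc ((EtCoh.pullPushAdj (S.t (hb j))).unit.app F₀), unit_constφ, Category.assoc]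
    exact congrArg (fun a => (EtCoh.pullPushAdj (S.t (hb k))).unit.app F₀ ≫ a)
      (pushSp_assoc (S.t (hb i)) (S.t h) (S.t h') (S.t (hb j)) (S.t (h.trans h')) (S.t (hb k)) (S.t_t _ _)
        (S.t_t h h') (S.t_t _ _) (S.t_t _ _) ((EtCoh.pull (S.t (hb k))).obj F₀)).symm
  refl i W s := by
    have e : constφ S hb F₀ (le_refl i) = (selfMap S i).app ((EtCoh.pull (S.t (hb i))).obj F₀) := by
      apply ((EtCoh.pullPushAdj (S.t (hb i))).homEquiv _ _).injective
      refine (Equiv.apply_symm_apply _ _).trans ?_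
      rw [Adjunction.homEquiv_unit]
      refine congrArg (fun a => (EtCoh.pullPushAdj (S.t (hb i))).unit.app F₀ ≫ a) ?_
      refine ObjectProperty.hom_ext _ (NatTrans.ext (funext fun V => ?_))
      show ((EtCoh.pull (S.t (hb i))).obj F₀).obj.map _ = ((EtCoh.pull (S.t (hb i))).obj F₀).obj.map _
      congr 2
      refine bc_ext _ ?_
      rw [bcSp_fst]
      exact congrArg (fun a => a ≫ pullback.fst _ _) (rfl : (prSelf S i _).left = _).symm
    rw [e]
    rfl

/-- The inverse image on the limit, under the system. -/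
def fromCocone : CoconeSh (constSys S hb F₀) ((EtCoh.pull (S.u i₀)).obj F₀) where
  ψ i := ((EtCoh.pullPushAdj (S.t (hb i))).homEquiv _ _).symm
    ((EtCoh.pullPushAdj (S.u i₀)).unit.app F₀ ≫ (pushSp (S.t (hb i)) (S.u i) (S.u i₀) (S.u_t _)).app _)
  comm i j h := by
    apply ((EtCoh.pullPushAdj (S.t (hb i))).homEquiv _ _).injective
    rw [Adjunction.homEquiv_naturality_right, Adjunction.homEquiv_naturality_right, Equiv.apply_symm_apply]
    rw [show (EtCoh.pullPushAdj (S.t (hb i))).homEquiv _ _ ((constSys S hb F₀).φ h) = _ from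
      Equiv.apply_symm_apply _ _]
    simp only [Category.assoc]
    let ψj := ((EtCoh.pullPushAdj (S.t (hb j))).homEquiv _ _).symm
      ((EtCoh.pullPushAdj (S.u i₀)).unit.app F₀ ≫ (pushSp (S.t (hb j)) (S.u j) (S.u i₀) (S.u_t _)).app _)
    have hn := (pushSp (S.t (hb i)) (S.t h) (S.t (hb j)) (S.t_t _ _)).naturality ψj
    refine Eq.trans ?_ (congrArg (fun a => (EtCoh.pullPushAdj (S.t (hb j))).unit.app F₀ ≫ a) hn)
    have e2 : (EtCoh.pullPushAdj (S.t (hb j))).unit.app F₀ ≫ (EtCoh.push (S.t (hb j))).map ψj =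
        (EtCoh.pullPushAdj (S.u i₀)).unit.app F₀ ≫ (pushSp (S.t (hb j)) (S.u j) (S.u i₀) (S.u_t _)).app _ :=
      ((EtCoh.pullPushAdj (S.t (hb j))).homEquiv_unit _ _ _).symm.trans (Equiv.apply_symm_apply _ _)
    rw [← Category.assoc ((EtCoh.pullPushAdj (S.t (hb j))).unit.app F₀), e2, Category.assoc]
    exact congrArg (fun a => (EtCoh.pullPushAdj (S.u i₀)).unit.app F₀ ≫ a)
      (pushSp_assoc (S.t (hb i)) (S.t h) (S.u j) (S.t (hb j)) (S.u i) (S.u i₀) (S.t_t _ _)
        (S.u_t h) (S.u_t _) (S.u_t _) ((EtCoh.pull (S.u i₀)).obj F₀)).symm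

theorem comparePull_fromCocone (i : ι) :
    (comparePull (S.t (hb i)) (S.u i) (S.u i₀) (S.u_t _)).app F₀ ≫ (fromCocone S hb F₀).mate _ i = 𝟙 _ :=
  comparePull_transpose _ _ _ _ _

theorem comparePull_constSys {i j : ι} (h : i ≤ j) :
    (comparePull (S.t (hb i)) (S.t h) (S.t (hb j)) (S.t_t _ _)).app F₀ ≫ (constSys S hb F₀).mate h = 𝟙 _ :=
  comparePull_transpose _ _ _ _ _

/-- The constant diagram under the system. -/
def constDiag : PullDiag (constSys S hb F₀) where
  G := (Functor.const ι).obj ((EtCoh.pull (S.u i₀)).obj F₀)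
  η := (fromCocone S hb F₀).ψ
  isIso i := by
    haveI := isIso_comparePull (S.t (hb i)) (S.u i) (S.u i₀) (S.u_t _) F₀
    exact IsIso.of_isIso_fac_left (comparePull_fromCocone S hb F₀ i)
  comm i j h := by
    refine Eq.trans (congrArg (fun a => (fromCocone S hb F₀).ψ i ≫ a) ?_) ((fromCocone S hb F₀).comm h)
    show (EtCoh.push (S.u i)).map (𝟙 _) ≫ _ = _
    rw [CategoryTheory.Functor.map_id]
    exact Category.id_comp _

theorem cocone_constDiag :
    (constDiag S hb F₀).cocone (constCocone ι ((EtCoh.pull (S.u i₀)).obj F₀)) = fromCocone S hb F₀ := by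
  have h : ∀ i, ((constDiag S hb F₀).cocone (constCocone ι ((EtCoh.pull (S.u i₀)).obj F₀))).ψ i =
      (fromCocone S hb F₀).ψ i := fun i => by
    show (fromCocone S hb F₀).ψ i ≫ (EtCoh.push (S.u i)).map (𝟙 _) = _
    rw [CategoryTheory.Functor.map_id]
    exact Category.comp_id _
  generalize (constDiag S hb F₀).cocone (constCocone ι ((EtCoh.pull (S.u i₀)).obj F₀)) = κ at h ⊢
  generalize fromCocone S hb F₀ = κ' at h ⊢
  obtain ⟨a, _⟩ := κ
  obtain ⟨b, _⟩ := κ'
  obtain rfl : a = b := funext h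
  rfl

theorem isColim_fromCocone : IsColim (fromCocone S hb F₀) := by
  haveI : IsConnected ι := IsFiltered.isConnected ι
  rw [← cocone_constDiag]
  exact isColim_cocone (constDiag S hb F₀) (isColimitConstCocone ι ((EtCoh.pull (S.u i₀)).obj F₀))

end Groth.Agent.EtLimLib
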