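import Groth.Agent.EtLimLib.PushSys
import Groth.Prelude.Def_EtLim

/-!
# Systems coming from a sheaf on all schemes

`LimAdapted Φ S`: sections of `Φ` over affine étale schemes of the stages commute with the limit.
-/

set_option autoImplicit false
set_option linter.unusedSectionVars false
set_option linter.style.haveILetI false
set_option backward.isDefEq.respectTransparency false
set_option backward.isDefEq.respectTransparency.types false
set_option maxHeartbeats 1000000

universe u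

open CategoryTheory CategoryTheory.Limits AlgebraicGeometry Opposite

noncomputable section

namespace Groth.Agent.EtLimLib

variable (Φ : Sheaf Scheme.etaleTopology.{u} AddCommGrpCat.{u + 1})

/-- The restriction of a sheaf on all schemes to a small étale site. -/
abbrev bigRestr (X : Scheme.{u}) : EtCoh.Ab X :=
  ((Scheme.Etale.forget X ⋙ Over.forget X).sheafPushforwardContinuous _ _ Scheme.etaleTopology).obj Φ

/-- The functoriality of `bigRestr`. -/
def bigPush {X Y : Scheme.{u}} (f : X ⟶ Y) : bigRestr Φ Y ⟶ (EtCoh.push f).obj (bigRestr Φ X) :=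
  ObjectProperty.homMk (Functor.whiskerRight (NatTrans.op (EtLim.bcProj f)) Φ.obj)

theorem bigPush_app {X Y : Scheme.{u}} (f : X ⟶ Y) (W : Y.Etale) (s : EtCoh.sect (bigRestr Φ Y) W) :
    (bigPush Φ f).hom.app (op W) s = Φ.obj.map (pullback.fst W.hom f).op s := rfl

theorem bigRestr_map {X : Scheme.{u}} {V W : X.Etale} (g : V ⟶ W) (s : EtCoh.sect (bigRestr Φ X) W) :
    (bigRestr Φ X).obj.map g.op s = Φ.obj.map g.left.op s := rfl

theorem Φ_map_map {A B C : Scheme.{u}} (a : A ⟶ B) (b : B ⟶ C) (c : A ⟶ C) (h : a ≫ b = c)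
    (s : Φ.obj.obj (op C)) : Φ.obj.map a.op (Φ.obj.map b.op s) = Φ.obj.map c.op s := by
  subst h
  rw [op_comp, Functor.map_comp_apply]

variable {ι : Type u} [Preorder ι] [Nonempty ι] [IsDirected ι (· ≤ ·)] (S : Sys ι)

/-- The system of restrictions to the stages. -/
def bigSys : SysSh S where
  F i := bigRestr Φ (S.X i)
  φ i j h := bigPush Φ (S.t h)
  cocycle i j k h h' := by
    refine ObjectProperty.hom_ext _ (NatTrans.ext (funext fun W => ?_))
    refine ConcreteCategory.hom_ext _ _ fun s => ?_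
    obtain ⟨W⟩ := W
    show (bigRestr Φ (S.X k)).obj.map (bcSp (S.t h) (S.t h') (S.t (h.trans h')) (S.t_t h h') W).op
        ((bigPush Φ (S.t (h.trans h'))).hom.app (op W) s) =
      (bigPush Φ (S.t h')).hom.app (op (S.at' h W)) ((bigPush Φ (S.t h)).hom.app (op W) s)
    exact (Φ_map_map Φ (bcSp (S.t h) (S.t h') (S.t (h.trans h')) (S.t_t h h') W).left _ _
      (bcSp_fst (S.t h) (S.t h') (S.t (h.trans h')) (S.t_t h h') W) s).trans (Φ_map_map Φ _ _ _ rfl s).symm
  refl i W s := rfl

/-- The restriction to the limit, under the system. -/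
def bigCocone : CoconeSh (bigSys Φ S) (bigRestr Φ S.c.pt) where
  ψ i := bigPush Φ (S.u i)
  comm i j h := by
    refine ObjectProperty.hom_ext _ (NatTrans.ext (funext fun W => ?_))
    refine ConcreteCategory.hom_ext _ _ fun s => ?_
    obtain ⟨W⟩ := W
    show (bigRestr Φ S.c.pt).obj.map (bcSp (S.t h) (S.u j) (S.u i) (S.u_t h) W).op
        ((bigPush Φ (S.u i)).hom.app (op W) s) =
      (bigPush Φ (S.u j)).hom.app (op (S.at' h W)) ((bigPush Φ (S.t h)).hom.app (op W) s)
    exact (Φ_map_map Φ (bcSp (S.t h) (S.u j) (S.u i) (S.u_t h) W).left _ _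
      (bcSp_fst (S.t h) (S.u j) (S.u i) (S.u_t h) W) s).trans (Φ_map_map Φ _ _ _ rfl s).symm

/-- Sections over affine étale schemes of the stages commute with the limit. -/
structure LimAdapted : Prop where
  surj : ∀ (l : ι) (U : (S.X l).Etale), IsAffine U.left →
    ∀ a : Φ.obj.obj (op ((EtCoh.bc (S.u l)).obj U).left), ∃ (l' : ι) (h' : l ≤ l') (b : Φ.obj.obj (op (S.at' h' U).left)),
      Φ.obj.map (toAt S h' U ≫ pullback.fst (S.at' h' U).hom (S.u l')).op b = a
  inj : ∀ (l : ι) (U : (S.X l).Etale), IsAffine U.left → ∀ a : Φ.obj.obj (op U.left),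
    Φ.obj.map (pullback.fst U.hom (S.u l)).op a = 0 → ∃ (l' : ι) (h' : l ≤ l'), Φ.obj.map (S.pr h' U).op a = 0

theorem isColim_bigCocone (hΦ : LimAdapted Φ S) : IsColim (bigCocone Φ S) := by
  constructor
  · intro i W s x hx
    obtain ⟨V, g, v, e, hv⟩ := (mem_agree_iff _ _ _ _).1 hx
    obtain ⟨l, hl, U, hU, m, hm, b, p, hp, hb⟩ := exists_refine S W g v
    have h0 : (bigCocone Φ S).app ((bigSys Φ S).resTo m hm s) = 0 := by
      refine ((bigCocone Φ S).app_resTo m hm s).trans ?_
      rw [← hb, op_comp, Functor.map_comp_apply]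
      refine (congrArg ((bigRestr Φ S.c.pt).obj.map b.op) e).trans ?_
      rw [map_zero]
      exact map_zero _
    obtain ⟨l', h', hz⟩ := hΦ.inj l U hU _ h0
    refine ⟨l', hl.trans h', ?_⟩
    have hm' := comp_w hm (S.pr_w h' U)
    have hz' : (bigSys Φ S).resTo (S.pr h' U ≫ m) hm' s = 0 := by
      rw [← (bigSys Φ S).resTo_resTo m hm (S.pr h' U) (S.pr_w h' U) (S.pr h' U ≫ m) hm' rfl s, resTo_pr]
      exact hz
    have hxp : (bcTo (S.pr h' U ≫ m) hm').left (toAt S h' U p) = x := by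
      rw [← bcTo_comp m hm (S.pr h' U) (S.pr_w h' U) hm']
      show ((bcTo (S.pr h' U) (S.pr_w h' U)).left ≫ (bcTo m hm).left) (toAt S h' U p) = x
      rw [Scheme.Hom.comp_apply, ← Scheme.Hom.comp_apply (toAt S h' U), toAt_bcTo, ← hb, ← hv, ← hp]
      exact Scheme.Hom.comp_apply b.left g.left p
    rw [← hxp, atPt_bcTo]
    refine (HensH0.mem_agree_map_iff ((bigSys Φ S).F l') (mkHom (S.pr h' U ≫ m) hm') ((bigSys Φ S).res (hl.trans h') s)
      0 (pullback.fst (S.at' h' U).hom (S.u l') (toAt S h' U p))).1 ?_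
    refine (mem_agree_iff _ _ _ _).2 ⟨_, 𝟙 _, pullback.fst (S.at' h' U).hom (S.u l') (toAt S h' U p), ?_, rfl⟩
    exact congrArg _ (hz'.trans (map_zero _).symm)
  · intro V t v
    obtain ⟨k⟩ := ‹Nonempty ι›
    let g : V ⟶ (EtCoh.bc (S.u k)).obj (EtCoh.top (S.X k)) := (EtCore.bcTopIsTerminal (S.u k)).from V
    obtain ⟨l, hl, U, hU, m, hm, b, p, hp, -⟩ := exists_refine S (EtCoh.top (S.X k)) g v
    obtain ⟨l', h', s, hs⟩ := hΦ.surj l U hU (Φ.obj.map b.left.op t)
    have hid : (bcTo (S.pr h' U) (S.pr_w h' U)).left ≫ toAt S h' U = 𝟙 _ := by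
      apply pullback.hom_ext
      · apply pullback.hom_ext
        · simp [toAt, bcTo, Sys.pr]
        · simp [toAt, bcTo, Sys.pr]
          exact pullback.condition.symm
      · simp [toAt, bcTo]
    refine ⟨l', S.at' h' U, s, bcTo (S.pr h' U) (S.pr_w h' U) ≫ b, toAt S h' U p, ?_,
      (mem_agree_iff _ _ _ _).2 ⟨_, 𝟙 _, toAt S h' U p, congrArg _ ?_, rfl⟩⟩
    · show ((bcTo (S.pr h' U) (S.pr_w h' U)).left ≫ b.left) (toAt S h' U p) = v
      rw [Scheme.Hom.comp_apply, ← Scheme.Hom.comp_apply (toAt S h' U), toAt_bcTo]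
      exact hp
    · have e : Φ.obj.map ((bcTo (S.pr h' U) (S.pr_w h' U)).left).op
          (Φ.obj.map (toAt S h' U ≫ pullback.fst (S.at' h' U).hom (S.u l')).op s) =
          Φ.obj.map ((bcTo (S.pr h' U) (S.pr_w h' U)).left).op (Φ.obj.map b.left.op t) := congrArg _ hs
      rw [← Functor.map_comp_apply, ← op_comp, reassoc_of% hid, ← Functor.map_comp_apply, ← op_comp] at e
      exact e

theorem HofPush_map_eq {X Y : Scheme.{u}} (f : X ⟶ Y) [PreservesFiniteLimits (EtCoh.pull f)] {A : EtCoh.Ab Y}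
    {B : EtCoh.Ab X} (a : A ⟶ (EtCoh.push f).obj B) (n : ℕ) (x : EtCoh.H Y A n) :
    EtLim.HofPush f B n (Sheaf.H.map a n x) =
      EtLim.HpullThen f A (((EtCoh.pullPushAdj f).homEquiv _ _).symm a) n x := by
  rw [Adjunction.homEquiv_counit]
  exact (HpullThen_natural f ((EtCoh.pull f).map a ≫ (EtCoh.pullPushAdj f).counit.app B)
    ((EtCoh.pullPushAdj f).counit.app B) a (𝟙 _) (Category.comp_id _) n x).symm.trans (Abelian.Ext.comp_mk₀_id _)

end Groth.Agent.EtLimLib
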