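import Groth.Agent.EtLimLib.Stage
import Mathlib.CategoryTheory.Presentable.Directed

/-!
# Limits over cofiltered categories as limits over directed preorders
-/

set_option autoImplicit false
set_option linter.unusedSectionVars false
set_option linter.style.haveILetI false
set_option backward.isDefEq.respectTransparency false
set_option backward.isDefEq.respectTransparency.types false

universe u

open CategoryTheory CategoryTheory.Limits AlgebraicGeometry Opposite

noncomputable section

namespace Groth.Agent.EtLimLib

/-- A cofiltered system with a limit gives a system over a directed order with the same limit. -/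
theorem exists_sys_of_cofiltered {I : Type u} [SmallCategory I] [IsCofiltered I] (D : I ⥤ Scheme.{u})
    [∀ {i j : I} (a : i ⟶ j), IsAffineHom (D.map a)]
    [∀ i, CompactSpace (D.obj i)] [∀ i, QuasiSeparatedSpace (D.obj i)] (c : Cone D) (hc : IsLimit c) :
    ∃ (α : Type u) (_ : Preorder α) (_ : IsDirected α (· ≤ ·)) (_ : Nonempty α) (S : Sys α) (e : α → I),
      S.c.pt = c.pt ∧ ∀ a, S.X a = D.obj (e a) := by
  obtain ⟨α, _, _, _, F, _⟩ := IsFiltered.exists_directed.{u} Iᵒᵖ
  let G : αᵒᵖ ⥤ I := F.op ⋙ unopUnop I
  haveI : (unopUnop I).Initial := inferInstance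
  haveI : G.Initial := inferInstanceAs (F.op ⋙ unopUnop I).Initial
  exact ⟨α, inferInstance, inferInstance, inferInstance,
    { Xs := G ⋙ D, aff := fun a b h => inferInstanceAs (IsAffineHom (D.map (G.map h))),
      qc := fun a => inferInstanceAs (CompactSpace (D.obj (G.obj a))),
      qs := fun a => inferInstanceAs (QuasiSeparatedSpace (D.obj (G.obj a))),
      c := c.whisker G, hc := (Functor.Initial.isLimitWhiskerEquiv G c).symm hc },
    fun a => (F.obj a).unop, rfl, fun a => rfl⟩

end Groth.Agent.EtLimLib
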