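import Groth.Agent.EtLimLib.PushSys

/-!
# Direct images to the stages of torsion sheaves are torsion
-/

set_option autoImplicit false
set_option linter.unusedSectionVars false
set_option linter.style.haveILetI false
set_option backward.isDefEq.respectTransparency false
set_option backward.isDefEq.respectTransparency.types false

universe u

open CategoryTheory CategoryTheory.Limits AlgebraicGeometry Opposite

noncomputable section

namespace Groth.Agent.EtLimLib

/-- A section of a torsion sheaf over a quasi-compact étale scheme has finite order. -/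
theorem isOfFinAddOrder_of_isTorsion {X : Scheme.{u}} {F : EtCoh.Ab X} (hF : EtCoh.IsTorsion F) (U : X.Etale)
    [CompactSpace U.left] (s : EtCoh.sect F U) : IsOfFinAddOrder s := by
  classical
  choose V g hv hord using fun x => hF U s x
  choose v hv using hv
  obtain ⟨T, hT⟩ := isCompact_univ.elim_finite_subcover (fun x : U.left => Set.range (g x).left)
    (fun x => by
      haveI := EtPtsLib.etale_left (g x)
      exact (g x).left.isOpenMap.isOpen_range)
    (fun x _ => Set.mem_iUnion.2 ⟨x, v x, hv x⟩)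
  let n := ∏ x ∈ T, addOrderOf (F.obj.map (g x).op s)
  have hn : 0 < n := Finset.prod_pos fun x _ => (hord x).addOrderOf_pos
  refine isOfFinAddOrder_iff_nsmul_eq_zero.2 ⟨n, hn, eq_of_map_eq F _ 0 fun p => ?_⟩
  obtain ⟨x, hxT, q, hq⟩ := Set.mem_iUnion₂.1 (hT (Set.mem_univ p))
  refine ⟨V x, g x, q, ?_, hq⟩
  rw [map_zero]
  refine (map_nsmul (F.obj.map (g x).op).hom n s).trans ?_
  exact addOrderOf_dvd_iff_nsmul_eq_zero.1 (Finset.dvd_prod_of_mem _ hxT)

theorem isTorsion_push_u {ι : Type u} [Preorder ι] [Nonempty ι] [IsDirected ι (· ≤ ·)] (S : Sys ι)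
    {F : EtCoh.Ab S.c.pt} (hF : EtCoh.IsTorsion F) (i : ι) : EtCoh.IsTorsion ((EtCoh.push (S.u i)).obj F) := by
  intro U s x
  obtain ⟨_, ⟨(O : U.left.Opens), hO, rfl⟩, hx, -⟩ :=
    U.left.isBasis_affineOpens.exists_subset_of_mem_open (Set.mem_univ x) isOpen_univ
  haveI : IsAffine O.toScheme := hO
  haveI : CompactSpace (EtPtsLib.openSub U O).left := inferInstanceAs (CompactSpace ↥O.toScheme)
  haveI : QuasiSeparatedSpace (EtPtsLib.openSub U O).left := inferInstanceAs (QuasiSeparatedSpace ↥O.toScheme)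
  haveI := (S.qcqs_bc (EtPtsLib.openSub U O)).1
  exact ⟨EtPtsLib.openSub U O, EtPtsLib.openIncl U O, ⟨⟨x, hx⟩, rfl⟩,
    isOfFinAddOrder_of_isTorsion hF ((EtCoh.bc (S.u i)).obj (EtPtsLib.openSub U O)) _⟩

end Groth.Agent.EtLimLib
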