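import Groth.Agent.EtLimLib.System
import Groth.Agent.CohColim.General
import Groth.Agent.S0101
import Groth.Prelude.Def_EtLim

/-!
# The restriction map `EtLim.HpullThen`

Naturality, compatibility with connecting maps, the degree `0` formula and transitivity.
-/

set_option autoImplicit false
set_option linter.unusedSectionVars false
set_option linter.style.haveILetI false
set_option backward.isDefEq.respectTransparency false
set_option backward.isDefEq.respectTransparency.types false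
set_option maxHeartbeats 1000000

universe u

open CategoryTheory CategoryTheory.Limits AlgebraicGeometry Opposite Abelian

noncomputable section

namespace Groth.Agent.EtLimLib

section Pull


variable {X Y : Scheme.{u}} (f : X ⟶ Y) [PreservesFiniteLimits (EtCoh.pull f)]

theorem HpullThen_apply {F : EtCoh.Ab Y} {M : EtCoh.Ab X} (α : (EtCoh.pull f).obj F ⟶ M) (n : ℕ)
    (x : EtCoh.H Y F n) :
    EtLim.HpullThen f F α n x = ((Ext.mk₀ (EtCore.pullConst f ℤ).inv).comp
      (x.mapExactFunctor (EtCoh.pull f)) (zero_add n)).comp (Ext.mk₀ α) (add_zero n) := rfl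

theorem HpullThen_natural {F F' : EtCoh.Ab Y} {M M' : EtCoh.Ab X} (α : (EtCoh.pull f).obj F ⟶ M)
    (α' : (EtCoh.pull f).obj F' ⟶ M') (a : F ⟶ F') (b : M ⟶ M') (h : α ≫ b = (EtCoh.pull f).map a ≫ α')
    (n : ℕ) (x : EtCoh.H Y F n) :
    Sheaf.H.map b n (EtLim.HpullThen f F α n x) = EtLim.HpullThen f F' α' n (Sheaf.H.map a n x) := by
  show (EtLim.HpullThen f F α n x).comp (Ext.mk₀ b) (add_zero n) =
    EtLim.HpullThen f F' α' n (x.comp (Ext.mk₀ a) (add_zero n))
  rw [HpullThen_apply, HpullThen_apply, Ext.mapExactFunctor_comp, Ext.mapExactFunctor_mk₀,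
    ← Ext.comp_assoc_of_third_deg_zero, CohColim.comp_mk₀_natural h]

theorem HpullThen_extClass {P : ShortComplex (EtCoh.Ab Y)} (hP : P.ShortExact) {Q : ShortComplex (EtCoh.Ab X)}
    (hQ : Q.ShortExact) (φ : P.map (EtCoh.pull f) ⟶ Q) {n : ℕ} (y : EtCoh.H Y P.X₃ n) :
    EtLim.HpullThen f P.X₁ φ.τ₁ (n + 1) (y.comp hP.extClass rfl) =
      (EtLim.HpullThen f P.X₃ φ.τ₃ n y).comp hQ.extClass rfl := by
  rw [HpullThen_apply, HpullThen_apply, Ext.mapExactFunctor_comp, Ext.mapExactFunctor_extClass,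
    ← Ext.comp_assoc _ _ _ (zero_add n) rfl (by omega : 0 + n + 1 = n + 1)]
  exact CohColim.comp_extClass_natural (hP.map_of_exact (EtCoh.pull f)) hQ φ rfl
    ((Ext.mk₀ (EtCore.pullConst f ℤ).inv).comp (y.mapExactFunctor (EtCoh.pull f)) (zero_add n))

theorem equiv₀_HpullThen {F : EtCoh.Ab Y} {M : EtCoh.Ab X} (α : (EtCoh.pull f).obj F ⟶ M)
    (x : EtCoh.H Y F 0) :
    Sheaf.H.equiv₀ M (EtCore.topIsTerminal X) (EtLim.HpullThen f F α 0 x) =
      M.obj.map (EtCore.bcTopIso f).inv.op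
        (((EtCoh.pullPushAdj f).homEquiv _ _ α).hom.app (op (EtCoh.top Y))
          (Sheaf.H.equiv₀ F (EtCore.topIsTerminal Y) x)) := by
  obtain ⟨a, rfl⟩ := (Ext.mk₀_bijective _ _).2 x
  rw [HpullThen_apply, Ext.mapExactFunctor_mk₀, Ext.mk₀_comp_mk₀, Ext.mk₀_comp_mk₀]
  let adjX := EtCore.constAdj X
  let adj₁ := ((EtCore.constAdj Y).comp (EtCoh.pullPushAdj f)).ofNatIsoRight (EtCore.pushGsecIso f)
  let C : AddCommGrpCat.{u + 1} := AddCommGrpCat.of (ULift.{u + 1} ℤ)
  have key : ∀ b : (EtCoh.pull f).obj (EtCoh.const Y ℤ) ⟶ M,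
      adjX.homEquiv C M ((EtCore.pullConst f ℤ).inv ≫ b) =
        (EtCore.constAdj Y).homEquiv C _ ((EtCoh.pullPushAdj f).homEquiv _ _ b) ≫
          (EtCore.pushGsecIso f).hom.app M := by
    intro b
    rw [Adjunction.homEquiv_unit, Functor.map_comp, ← Category.assoc]
    have e1 : adjX.unit.app C ≫ (EtCore.gsec X).map ((EtCore.pullConst f ℤ).inv) = adj₁.unit.app C :=
      Adjunction.unit_leftAdjointUniq_hom_app adjX adj₁ C
    rw [e1]
    show adj₁.unit.app C ≫ (EtCore.gsec X).map b = _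
    refine (adj₁.homEquiv_unit C M b).symm.trans ?_
    refine (Adjunction.homEquiv_ofNatIsoRight_apply _ _ _).trans ?_
    rw [Adjunction.comp_homEquiv]
    rfl
  have h := key ((EtCoh.pull f).map a ≫ α)
  rw [Adjunction.homEquiv_naturality_left] at h
  show Sheaf.H.equiv₀ M _ (Ext.mk₀ (((EtCore.pullConst f ℤ).inv ≫ (EtCoh.pull f).map a) ≫ α)) = _
  rw [Category.assoc]
  have e0 : ∀ {Z : Scheme.{u}} {K L : EtCoh.Ab Z} (q : K ⟶ L), Ext.addEquiv₀ (Ext.mk₀ q) = q :=
    fun q => Ext.addEquiv₀.apply_symm_apply q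
  simp only [Sheaf.H.equiv₀, AddEquiv.trans_apply, e0]
  refine (congrArg (fun q => AddCommGrpCat.uliftZMultiplesAddEquiv _ q) ?_).trans (b := AddCommGrpCat.uliftZMultiplesAddEquiv _
    ((EtCore.constAdj Y).homEquiv C _ (a ≫ (EtCoh.pullPushAdj f).homEquiv _ _ α) ≫ (EtCore.pushGsecIso f).hom.app M)) ?_
  · exact h
  · rfl

theorem HpullThen_eq_map {F : EtCoh.Ab Y} {M : EtCoh.Ab X} (α : (EtCoh.pull f).obj F ⟶ M) (n : ℕ)
    (x : EtCoh.H Y F n) :
    EtLim.HpullThen f F α n x = Sheaf.H.map α n (EtLim.HpullThen f F (𝟙 _) n x) := by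
  show EtLim.HpullThen f F α n x = (EtLim.HpullThen f F (𝟙 _) n x).comp (Ext.mk₀ α) (add_zero n)
  rw [HpullThen_apply, HpullThen_apply, Ext.comp_mk₀_id]

/-- A class coming from the quotient dies once it lifts to the middle term. -/
theorem HpullThen_eq_zero_of_lift {P : ShortComplex (EtCoh.Ab Y)} (hP : P.ShortExact)
    {Q : ShortComplex (EtCoh.Ab X)} (hQ : Q.ShortExact) (φ : P.map (EtCoh.pull f) ⟶ Q) {n : ℕ}
    (y : EtCoh.H Y P.X₃ n) (z : EtCoh.H X Q.X₂ n)
    (e : EtLim.HpullThen f P.X₃ φ.τ₃ n y = Sheaf.H.map Q.g n z) :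
    EtLim.HpullThen f P.X₁ φ.τ₁ (n + 1) (y.comp hP.extClass rfl) = 0 := by
  rw [HpullThen_extClass f hP hQ φ y, e]
  show (Ext.comp z (Ext.mk₀ Q.g) (add_zero n)).comp _ _ = 0
  rw [Ext.comp_assoc_of_second_deg_zero, hQ.comp_extClass, Ext.comp_zero]

/-- A class coming from the quotient with zero image comes from the middle term after restriction. -/
theorem exists_lift_of_HpullThen_eq_zero {P : ShortComplex (EtCoh.Ab Y)} (hP : P.ShortExact)
    {Q : ShortComplex (EtCoh.Ab X)} (hQ : Q.ShortExact) (φ : P.map (EtCoh.pull f) ⟶ Q) {n : ℕ}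
    (y : EtCoh.H Y P.X₃ n) (e : EtLim.HpullThen f P.X₁ φ.τ₁ (n + 1) (y.comp hP.extClass rfl) = 0) :
    ∃ w : EtCoh.H X Q.X₂ n, Sheaf.H.map Q.g n w = EtLim.HpullThen f P.X₃ φ.τ₃ n y :=
  Ext.covariant_sequence_exact₃ _ hQ _ (rfl : n + 1 = n + 1) ((HpullThen_extClass f hP hQ φ y).symm.trans e)

/-- Classes come from below through connecting maps. -/
theorem exists_preimage_extClass {P : ShortComplex (EtCoh.Ab Y)} (hP : P.ShortExact)
    {Q : ShortComplex (EtCoh.Ab X)} (hQ : Q.ShortExact) (φ : P.map (EtCoh.pull f) ⟶ Q) {n : ℕ}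
    (y : EtCoh.H Y P.X₃ n) (ξ : EtCoh.H X Q.X₁ (n + 1)) (η : EtCoh.H X Q.X₃ n)
    (hη : η.comp hQ.extClass rfl = ξ) (e : EtLim.HpullThen f P.X₃ φ.τ₃ n y = η) :
    ∃ x : EtCoh.H Y P.X₁ (n + 1), EtLim.HpullThen f P.X₁ φ.τ₁ (n + 1) x = ξ :=
  ⟨y.comp hP.extClass rfl, by rw [HpullThen_extClass f hP hQ φ y, e, hη]⟩

end Pull

section Comp

variable {A B C : Scheme.{u}} (g : B ⟶ A) (f : C ⟶ B) (h : C ⟶ A) (w : f ≫ g = h)

theorem pushJoin_natural {G G' : EtCoh.Ab C} (a : G ⟶ G') :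
    (EtCoh.push g).map ((EtCoh.push f).map a) ≫ pushJoin g f h w G' =
      pushJoin g f h w G ≫ (EtCoh.push h).map a := by
  refine ObjectProperty.hom_ext _ (NatTrans.ext (funext fun W => ?_))
  exact (a.hom.naturality _).symm

/-- The comparison of inverse images along a composite. -/
def comparePull : EtCoh.pull h ⟶ EtCoh.pull g ⋙ EtCoh.pull f where
  app F := ((EtCoh.pullPushAdj h).homEquiv _ _).symm ((EtCoh.pullPushAdj g).unit.app F ≫
    (EtCoh.push g).map ((EtCoh.pullPushAdj f).unit.app ((EtCoh.pull g).obj F)) ≫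
    pushJoin g f h w ((EtCoh.pull f).obj ((EtCoh.pull g).obj F)))
  naturality F F' a := by
    apply ((EtCoh.pullPushAdj h).homEquiv _ _).injective
    rw [Adjunction.homEquiv_naturality_left, Adjunction.homEquiv_naturality_right, Equiv.apply_symm_apply,
      Equiv.apply_symm_apply]
    show a ≫ (EtCoh.pullPushAdj g).unit.app F' ≫ _ =
      (_ ≫ _ ≫ _) ≫ (EtCoh.push h).map ((EtCoh.pull f).map ((EtCoh.pull g).map a))
    rw [Category.assoc, Category.assoc, ← pushJoin_natural g f h w, ← Category.assoc]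
    have hn : a ≫ (EtCoh.pullPushAdj g).unit.app F' =
        (EtCoh.pullPushAdj g).unit.app F ≫ (EtCoh.push g).map ((EtCoh.pull g).map a) :=
      (EtCoh.pullPushAdj g).unit.naturality a
    rw [hn, Category.assoc, ← Functor.map_comp_assoc, ← Functor.map_comp_assoc]
    have hm : (EtCoh.pull g).map a ≫ (EtCoh.pullPushAdj f).unit.app ((EtCoh.pull g).obj F') =
        (EtCoh.pullPushAdj f).unit.app ((EtCoh.pull g).obj F) ≫
          (EtCoh.push f).map ((EtCoh.pull f).map ((EtCoh.pull g).map a)) :=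
      (EtCoh.pullPushAdj f).unit.naturality ((EtCoh.pull g).map a)
    rw [hm]

variable [PreservesFiniteLimits (EtCoh.pull g)] [PreservesFiniteLimits (EtCoh.pull f)]
  [PreservesFiniteLimits (EtCoh.pull h)]

theorem HpullThen_comparePull : ∀ (n : ℕ) (F : EtCoh.Ab A) (x : EtCoh.H A F n),
    EtLim.HpullThen h F ((comparePull g f h w).app F) n x =
      EtLim.HpullThen f _ (𝟙 _) n (EtLim.HpullThen g F (𝟙 _) n x) := by
  intro n
  induction n with
  | zero =>
    intro F x
    apply (Sheaf.H.equiv₀ _ (EtCore.topIsTerminal C)).injective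
    refine (equiv₀_HpullThen h ((comparePull g f h w).app F) x).trans ?_
    refine Eq.trans ?_ (equiv₀_HpullThen f (𝟙 _) _).symm
    rw [equiv₀_HpullThen g (𝟙 _) x]
    generalize (Sheaf.H.equiv₀ F (EtCore.topIsTerminal A)) x = s
    rw [Adjunction.homEquiv_id, Adjunction.homEquiv_id]
    let u := (EtCoh.pullPushAdj f).unit.app ((EtCoh.pull g).obj F)
    let G := (EtCoh.pull f).obj ((EtCoh.pull g).obj F)
    let z := ((EtCoh.pullPushAdj g).unit.app F).hom.app (op (EtCoh.top A)) s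
    have hc : (EtCoh.pullPushAdj h).homEquiv _ _ ((comparePull g f h w).app F) = _ :=
      Equiv.apply_symm_apply _ _
    have hL : ((EtCoh.pullPushAdj h).homEquiv _ _ ((comparePull g f h w).app F)).hom.app (op (EtCoh.top A)) s =
        G.obj.map (bcSpInv g f h w (EtCoh.top A)).op (u.hom.app (op ((EtCoh.bc g).obj (EtCoh.top A))) z) := by
      rw [hc]
      rfl
    have hR : u.hom.app (op (EtCoh.top B)) (((EtCoh.pull g).obj F).obj.map (EtCore.bcTopIso g).inv.op z) =
        G.obj.map ((EtCoh.bc f).map (EtCore.bcTopIso g).inv).op (u.hom.app (op ((EtCoh.bc g).obj (EtCoh.top A))) z) :=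
      NatTrans.naturality_apply u.hom (EtCore.bcTopIso g).inv.op z
    refine (congrArg (G.obj.map (EtCore.bcTopIso h).inv.op) hL).trans ?_
    refine Eq.trans ?_ (congrArg (G.obj.map (EtCore.bcTopIso f).inv.op) hR).symm
    rw [← Functor.map_comp_apply, ← Functor.map_comp_apply, ← op_comp, ← op_comp]
    have hterm : IsTerminal ((EtCoh.bc f).obj ((EtCoh.bc g).obj (EtCoh.top A))) :=
      IsTerminal.ofIso (EtCore.bcTopIsTerminal f) ((EtCoh.bc f).mapIso (EtCore.bcTopIso g).symm)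
    rw [hterm.hom_ext ((EtCore.bcTopIso h).inv ≫ bcSpInv g f h w (EtCoh.top A))
      ((EtCore.bcTopIso f).inv ≫ (EtCoh.bc f).map (EtCore.bcTopIso g).inv)]
  | succ n ih =>
    intro F x
    let P := ShortComplex.mk (Injective.ι F) (cokernel.π (Injective.ι F)) (cokernel.condition _)
    have hP : P.ShortExact := { exact := ShortComplex.exact_cokernel _, mono_f := Injective.ι_mono F }
    haveI : Injective P.X₂ := inferInstanceAs (Injective (Injective.under F))
    obtain ⟨y, rfl⟩ := Ext.covariant_sequence_exact₁ _ hP x (Ext.eq_zero_of_injective _) (rfl : n + 1 = n + 1)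
    have hg := hP.map_of_exact (EtCoh.pull g)
    have hgf := hg.map_of_exact (EtCoh.pull f)
    let φ : P.map (EtCoh.pull h) ⟶ (P.map (EtCoh.pull g)).map (EtCoh.pull f) :=
      { τ₁ := (comparePull g f h w).app P.X₁
        τ₂ := (comparePull g f h w).app P.X₂
        τ₃ := (comparePull g f h w).app P.X₃
        comm₁₂ := ((comparePull g f h w).naturality P.f).symm
        comm₂₃ := ((comparePull g f h w).naturality P.g).symm }
    refine (HpullThen_extClass h hP hgf φ y).trans ?_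
    refine Eq.trans ?_ (congrArg (EtLim.HpullThen f _ (𝟙 _) (n + 1)) (HpullThen_extClass g hP hg (𝟙 _) y)).symm
    refine Eq.trans ?_ (HpullThen_extClass f hg hgf (𝟙 _) (EtLim.HpullThen g P.X₃ (𝟙 _) n y)).symm
    exact congrArg (fun z => Ext.comp z hgf.extClass rfl) (ih P.X₃ y)

/-- Transitivity of the restriction maps. -/
theorem HpullThen_comp {F : EtCoh.Ab A} {M : EtCoh.Ab B} {N : EtCoh.Ab C} (α : (EtCoh.pull g).obj F ⟶ M)
    (β : (EtCoh.pull f).obj M ⟶ N) (γ : (EtCoh.pull h).obj F ⟶ N)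
    (hγ : (EtCoh.pullPushAdj h).homEquiv _ _ γ = (EtCoh.pullPushAdj g).homEquiv _ _ α ≫
      (EtCoh.push g).map ((EtCoh.pullPushAdj f).homEquiv _ _ β) ≫ pushJoin g f h w N) (n : ℕ) (x : EtCoh.H A F n) :
    EtLim.HpullThen h F γ n x = EtLim.HpullThen f M β n (EtLim.HpullThen g F α n x) := by
  have hfac : γ = (comparePull g f h w).app F ≫ (EtCoh.pull f).map α ≫ β := by
    apply ((EtCoh.pullPushAdj h).homEquiv _ _).injective
    rw [hγ, Adjunction.homEquiv_naturality_right]
    rw [show (EtCoh.pullPushAdj h).homEquiv _ _ ((comparePull g f h w).app F) = _ from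
      Equiv.apply_symm_apply _ _]
    rw [Category.assoc, Category.assoc, ← pushJoin_natural g f h w, ← Functor.map_comp_assoc,
      Adjunction.homEquiv_unit, Adjunction.homEquiv_unit, Category.assoc, ← Functor.map_comp_assoc]
    have hm : α ≫ (EtCoh.pullPushAdj f).unit.app M =
        (EtCoh.pullPushAdj f).unit.app ((EtCoh.pull g).obj F) ≫ (EtCoh.push f).map ((EtCoh.pull f).map α) :=
      (EtCoh.pullPushAdj f).unit.naturality α
    simp only [Functor.map_comp, ← Category.assoc, hm]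
  rw [hfac, HpullThen_eq_map h ((comparePull g f h w).app F ≫ (EtCoh.pull f).map α ≫ β) n x,
    HpullThen_eq_map g α n x]
  have e2 : ∀ z, EtLim.HpullThen f M β n (Sheaf.H.map α n z) =
      Sheaf.H.map ((EtCoh.pull f).map α ≫ β) n (EtLim.HpullThen f ((EtCoh.pull g).obj F) (𝟙 _) n z) := fun z =>
    (HpullThen_natural f (𝟙 _) β α ((EtCoh.pull f).map α ≫ β) (Category.id_comp _) n z).symm
  rw [e2, ← HpullThen_comparePull g f h w n F x, HpullThen_eq_map h ((comparePull g f h w).app F) n x]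
  show Ext.comp _ (Ext.mk₀ _) (add_zero n) = Ext.comp (Ext.comp _ (Ext.mk₀ _) (add_zero n)) (Ext.mk₀ _) (add_zero n)
  rw [Ext.comp_assoc_of_second_deg_zero, Ext.mk₀_comp_mk₀]

end Comp

end Groth.Agent.EtLimLib
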