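import Groth.Agent.EtLimLib.Stage
import Mathlib.AlgebraicGeometry.Morphisms.Etale

/-!
# Étale neighbourhoods on the limit are refined by étale schemes of the stages

`exists_refine`: for `W` étale over a stage, an étale scheme `V` over `W ×_{X_k} X` and a point of
`V`, there is an affine étale scheme `U` over a later stage with a map to `W` whose pullback to the
limit maps to `V` over `W` and hits the point.
-/

set_option autoImplicit false
set_option linter.unusedSectionVars false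
set_option linter.style.haveILetI false
set_option backward.isDefEq.respectTransparency false
set_option backward.isDefEq.respectTransparency.types false
set_option maxHeartbeats 1000000

universe u

open CategoryTheory CategoryTheory.Limits AlgebraicGeometry Opposite

noncomputable section

namespace Groth.Agent.EtLimLib

/-- The integers, lifted. -/
abbrev ℤ' : CommRingCat.{u} := CommRingCat.of (ULift.{u} ℤ)

theorem hom_specZ_ext {Y : Scheme.{u}} (f g : Y ⟶ Spec ℤ') : f = g :=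
  specULiftZIsTerminal.hom_ext f g

/-- An affine étale scheme over an affine open is the base change of an étale map of schemes of finite
presentation over `Spec ℤ`. -/
theorem exists_model {Y V : Scheme.{u}} (f : V ⟶ Y) [Etale f] (O : Y.Opens) (hO : IsAffineOpen O)
    (V' : V.Opens) (hV' : IsAffineOpen V') (e : V' ≤ f ⁻¹ᵁ O) :
    ∃ (A B : Scheme.{u}) (_ : IsAffine A) (_ : IsAffine B) (ε : B ⟶ A) (_ : Etale ε)
      (_ : LocallyOfFinitePresentation (specULiftZIsTerminal.from A))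
      (a : O.toScheme ⟶ A) (b : V'.toScheme ⟶ B), IsPullback (f.resLE O V' e) b a ε := by
  let g := (f.appLE O V' e).hom
  have hg : g.Etale := HasRingHomProperty.appLE @Etale f inferInstance ⟨O, hO⟩ ⟨V', hV'⟩ e
  letI := g.toAlgebra
  haveI : Algebra.Etale Γ(Y, O) Γ(V, V') := hg
  letI : Algebra (ULift.{u} ℤ) Γ(Y, O) := ((Int.castRingHom _).comp ULift.ringEquiv.toRingHom).toAlgebra
  obtain ⟨A₀, B₀, _, _, hA₀, hB₀, ⟨θ⟩⟩ :=
    Algebra.Etale.exists_subalgebra_fg (R := ULift.{u} ℤ) (A := Γ(Y, O)) (B := Γ(V, V'))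
  haveI : Algebra.FiniteType (ULift.{u} ℤ) A₀ := A₀.fg_iff_finiteType.1 hA₀
  haveI : IsNoetherianRing (ULift.{u} ℤ) := isNoetherianRing_of_ringEquiv ℤ ULift.ringEquiv.symm
  haveI : Algebra.FinitePresentation (ULift.{u} ℤ) A₀ := Algebra.FinitePresentation.of_finiteType.1 inferInstance
  let i₁ : CommRingCat.of A₀ ⟶ Γ(Y, O) := CommRingCat.ofHom A₀.val.toRingHom
  let i₂ : CommRingCat.of A₀ ⟶ CommRingCat.of B₀ := CommRingCat.ofHom (algebraMap A₀ B₀)
  let i₃ : CommRingCat.of B₀ ⟶ Γ(V, V') := CommRingCat.ofHom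
    (θ.symm.toRingEquiv.toRingHom.comp Algebra.TensorProduct.includeRight.toRingHom)
  have hpo : IsPushout i₁ i₂ (f.appLE O V' e) i₃ := by
    refine (CommRingCat.isPushout_tensorProduct A₀ Γ(Y, O) B₀).of_iso (Iso.refl _) (Iso.refl _)
      (Iso.refl _) θ.symm.toRingEquiv.toCommRingCatIso ?_ ?_ ?_ ?_
    · simp only [Iso.refl_hom, Category.id_comp, Category.comp_id]
      rfl
    · simp [i₂]
    · exact CommRingCat.hom_ext (RingHom.ext fun x => θ.symm.commutes x)
    · rfl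
  refine ⟨Spec (CommRingCat.of A₀), Spec (CommRingCat.of B₀), inferInstance, inferInstance, Spec.map i₂,
    HasRingHomProperty.Spec_iff.2 (RingHom.etale_algebraMap.2 inferInstance), ?_,
    hO.isoSpec.hom ≫ Spec.map i₁, hV'.isoSpec.hom ≫ Spec.map i₃, ?_⟩
  · rw [show specULiftZIsTerminal.from (Spec (CommRingCat.of A₀)) =
      Spec.map (CommRingCat.ofHom (algebraMap (ULift.{u} ℤ) A₀)) from hom_specZ_ext _ _]
    exact HasRingHomProperty.Spec_iff.2 (RingHom.finitePresentation_algebraMap.2 inferInstance)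
  refine (isPullback_SpecMap_of_isPushout _ _ _ _ hpo).of_iso hV'.isoSpec.symm hO.isoSpec.symm (Iso.refl _) (Iso.refl _)
    ?_ (by simp) (by simp) (by simp)
  rw [Iso.symm_hom, Iso.symm_hom, Iso.eq_inv_comp, ← Category.assoc, Iso.comp_inv_eq]
  rw [IsAffineOpen.isoSpec_hom, IsAffineOpen.isoSpec_hom]
  exact Scheme.Opens.toSpecΓ_SpecMap_appLE f O V' e

variable {ι : Type u} [Preorder ι] [Nonempty ι] [IsDirected ι (· ≤ ·)] (S : Sys ι)

/-- The map of the limit of `U` to the limit of its pullback to a later stage. -/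
def toAt {k l : ι} (h : k ≤ l) (U : (S.X k).Etale) :
    ((EtCoh.bc (S.u k)).obj U).left ⟶ ((EtCoh.bc (S.u l)).obj (S.at' h U)).left :=
  pullback.lift (pullback.lift (pullback.fst U.hom (S.u k)) (pullback.snd U.hom (S.u k) ≫ S.u l)
    (by rw [Category.assoc, S.u_t h]; exact pullback.condition)) (pullback.snd U.hom (S.u k))
    (pullback.lift_snd _ _ _)

theorem toAt_bcTo {k l : ι} (h : k ≤ l) (U : (S.X k).Etale) :
    toAt S h U ≫ (bcTo (S.pr h U) (S.pr_w h U)).left = 𝟙 _ := by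
  apply pullback.hom_ext <;> simp [toAt, bcTo, Sys.pr]

theorem exists_refine {k : ι} (W : (S.X k).Etale) {V : S.c.pt.Etale} (g : V ⟶ (EtCoh.bc (S.u k)).obj W)
    (v : V.left) :
    ∃ (l : ι) (h : k ≤ l) (U : (S.X l).Etale) (_ : IsAffine U.left) (m : U.left ⟶ W.left)
      (hm : m ≫ W.hom = U.hom ≫ S.t h) (b : (EtCoh.bc (S.u l)).obj U ⟶ V)
      (p : ((EtCoh.bc (S.u l)).obj U).left), b.left p = v ∧ b ≫ g = bcTo m hm := by
  haveI : ∀ {a b : ιᵒᵖ} (f : a ⟶ b), IsAffineHom (S.Xs.map f) := fun f => S.aff f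
  haveI := S.qc
  haveI := S.qs
  haveI : Etale V.hom := V.prop
  haveI : Etale W.hom := W.prop
  let f : V.left ⟶ S.c.pt := V.hom
  haveI : Etale f := V.prop
  -- an affine open of a stage
  obtain ⟨_, ⟨_, ⟨⟨l₀⟩, O₀, hO₀, rfl⟩, rfl⟩, hvO, -⟩ := (isBasis_preimage_isAffineOpen S.Xs S.c S.hc).exists_subset_of_mem_open
    (Set.mem_univ (f v)) isOpen_univ
  obtain ⟨l₁, hk₁, hl₁⟩ := directed_of (α := ι) (· ≤ ·) k l₀
  let O₁ : (S.X l₁).Opens := S.t hl₁ ⁻¹ᵁ O₀
  have hO₁ : IsAffineOpen O₁ := hO₀.preimage (S.t hl₁)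
  let O : S.c.pt.Opens := S.u l₁ ⁻¹ᵁ O₁
  haveI := S.isAffineHom_u l₁
  have hO : IsAffineOpen O := hO₁.preimage (S.u l₁)
  have hvO' : f v ∈ O := by
    show S.t hl₁ (S.u l₁ (f v)) ∈ O₀
    rw [← Scheme.Hom.comp_apply, S.u_t hl₁]
    exact hvO
  obtain ⟨_, ⟨(V' : V.left.Opens), hV', rfl⟩, hv', hVO⟩ := V.left.isBasis_affineOpens.exists_subset_of_mem_open
    (show v ∈ (f ⁻¹ᵁ O : Set V.left) from hvO') (f ⁻¹ᵁ O).2
  obtain ⟨A, B, _, _, ε, _, _, a, b, hpb⟩ := exists_model f O hO V' hV' hVO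
  -- the classifying map at a stage
  let U₁ : (S.X l₁).Etale := Scheme.Etale.mk O₁.ι
  haveI : IsAffine U₁.left := hO₁
  haveI : CompactSpace U₁.left := inferInstance
  haveI : QuasiSeparatedSpace U₁.left := inferInstance
  have hrange : ∀ x : ((EtCoh.bc (S.u l₁)).obj U₁).left, pullback.snd U₁.hom (S.u l₁) x ∈ O := fun x => by
    show S.u l₁ (pullback.snd U₁.hom (S.u l₁) x) ∈ O₁
    rw [← Scheme.Hom.comp_apply, ← pullback.condition, Scheme.Hom.comp_apply]
    exact (pullback.fst U₁.hom (S.u l₁) x).2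
  let toO : ((EtCoh.bc (S.u l₁)).obj U₁).left ⟶ O.toScheme :=
    IsOpenImmersion.lift O.ι (pullback.snd U₁.hom (S.u l₁))
      (by rintro _ ⟨x, rfl⟩; erw [Scheme.Opens.range_ι]; exact hrange x)
  have htoO : toO ≫ O.ι = pullback.snd U₁.hom (S.u l₁) := IsOpenImmersion.lift_fac _ _ _
  obtain ⟨l₂, h₂, m₀, -, hm₀⟩ := exists_stage_hom S (le_refl l₁) U₁ (specULiftZIsTerminal.from A)
    (specULiftZIsTerminal.from (S.X l₁)) (toO ≫ a) (hom_specZ_ext _ _)
  -- the model at the stage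
  let U₂ := S.at' h₂ U₁
  haveI : Etale U₂.hom := U₂.prop
  haveI : IsAffine U₂.left := by
    haveI : IsAffineHom (S.pr h₂ U₁) := MorphismProperty.pullback_fst (P := @IsAffineHom) _ _ inferInstance
    exact isAffine_of_isAffineHom (S.pr h₂ U₁)
  haveI : IsAffine ((𝟭 Scheme).obj U₂.left) := ‹IsAffine U₂.left›
  let U₃ : (S.X l₂).Etale := Scheme.Etale.mk (pullback.fst m₀ ε ≫ U₂.hom)
  haveI : IsAffine U₃.left := inferInstanceAs (IsAffine (pullback m₀ ε))
  -- maps between the limit of the model and the affine open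
  let f₃ := pullback.fst U₃.hom (S.u l₂)
  let s₃ := pullback.snd U₃.hom (S.u l₂)
  have h₃O : ∀ x, s₃ x ∈ O := fun x => by
    show S.u l₁ (s₃ x) ∈ O₁
    rw [← S.u_t h₂, ← Scheme.Hom.comp_apply, ← Category.assoc, ← pullback.condition]
    show ((pullback.fst U₃.hom (S.u l₂)) ≫ (pullback.fst m₀ ε ≫ pullback.snd U₁.hom (S.t h₂)) ≫ S.t h₂) x ∈ O₁
    rw [Category.assoc, ← pullback.condition]
    simp only [Scheme.Hom.comp_apply]
    exact (pullback.fst U₁.hom (S.t h₂) _).2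
  let to₃ : ((EtCoh.bc (S.u l₂)).obj U₃).left ⟶ O.toScheme :=
    IsOpenImmersion.lift O.ι s₃ (by rintro _ ⟨x, rfl⟩; erw [Scheme.Opens.range_ι]; exact h₃O x)
  have hto₃ : to₃ ≫ O.ι = s₃ := IsOpenImmersion.lift_fac _ _ _
  let sec : O.toScheme ⟶ ((EtCoh.bc (S.u l₁)).obj U₁).left :=
    pullback.lift (IsOpenImmersion.lift O₁.ι (O.ι ≫ S.u l₁)
      (by rintro _ ⟨x, rfl⟩; erw [Scheme.Opens.range_ι]; exact x.2)) O.ι (IsOpenImmersion.lift_fac _ _ _)
  have hsec : sec ≫ toO = 𝟙 _ := by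
    rw [← cancel_mono O.ι, Category.assoc, htoO, Category.id_comp]
    exact pullback.lift_snd _ _ _
  let γ : O.toScheme ⟶ U₂.left := sec ≫ pullback.map U₁.hom (S.u l₁) U₁.hom (S.t h₂) (𝟙 _) (S.u l₂) (𝟙 _)
    (by simp) (by rw [Category.comp_id]; exact (S.u_t h₂).symm)
  have hγ : γ ≫ m₀ = a := by
    simp only [γ, Category.assoc]
    rw [hm₀, ← Category.assoc, hsec, Category.id_comp]
  have hγw : γ ≫ U₂.hom = O.ι ≫ S.u l₂ := by
    show γ ≫ pullback.snd _ _ = _
    simp [γ, sec]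
  have hto₃γ : to₃ ≫ γ = f₃ ≫ pullback.fst m₀ ε := by
    have h2 : (to₃ ≫ γ) ≫ U₂.hom = (f₃ ≫ pullback.fst m₀ ε) ≫ U₂.hom := by
      rw [Category.assoc, hγw, ← Category.assoc, hto₃, Category.assoc]
      exact pullback.condition.symm
    refine pullback.hom_ext ?_ h2
    haveI : Mono U₁.hom := inferInstanceAs (Mono O₁.ι)
    rw [← cancel_mono U₁.hom]
    simp only [Category.assoc, pullback.condition]
    have h3 := congrArg (· ≫ S.t h₂) h2
    simp only [Category.assoc] at h3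
    exact h3
  let β : ((EtCoh.bc (S.u l₂)).obj U₃).left ⟶ V'.toScheme :=
    hpb.lift to₃ (f₃ ≫ pullback.snd m₀ ε) (by
      rw [← hγ, ← Category.assoc, hto₃γ, Category.assoc, Category.assoc, pullback.condition])
  let σ : V'.toScheme ⟶ ((EtCoh.bc (S.u l₂)).obj U₃).left :=
    pullback.lift (pullback.lift (f.resLE O V' hVO ≫ γ) b (by rw [Category.assoc, hγ, hpb.w]))
      (V'.ι ≫ f) (by
        show pullback.lift _ _ _ ≫ pullback.fst m₀ ε ≫ U₂.hom = _
        rw [pullback.lift_fst_assoc, Category.assoc, hγw, Scheme.Hom.resLE_comp_ι_assoc, Category.assoc])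
  have hσto : σ ≫ to₃ = f.resLE O V' hVO := by
    rw [← cancel_mono O.ι, Category.assoc, hto₃, Scheme.Hom.resLE_comp_ι]
    exact pullback.lift_snd _ _ _
  have hσβ : σ ≫ β = 𝟙 _ := by
    refine hpb.hom_ext ?_ ?_
    · rw [Category.assoc, IsPullback.lift_fst, hσto, Category.id_comp]
    · rw [Category.assoc, IsPullback.lift_snd, Category.id_comp]
      simp [σ, f₃]
  let b₃ : (EtCoh.bc (S.u l₂)).obj U₃ ⟶ V := MorphismProperty.Over.homMk (β ≫ V'.ι) (by
    show (β ≫ V'.ι) ≫ f = s₃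
    rw [Category.assoc, ← Scheme.Hom.resLE_comp_ι f hVO, ← Category.assoc, IsPullback.lift_fst, hto₃])
  -- the map to `W` at a stage
  let w₃ : ((EtCoh.bc (S.u l₂)).obj U₃).left ⟶ W.left := (b₃ ≫ g).left ≫ pullback.fst W.hom (S.u k)
  obtain ⟨l, h₄, m, hm, hm'⟩ := exists_stage_hom S (hk₁.trans h₂) U₃ W.hom (𝟙 _) w₃ (by
    rw [Category.comp_id]
    show ((b₃ ≫ g).left ≫ pullback.fst W.hom (S.u k)) ≫ W.hom = _
    rw [Category.assoc, pullback.condition, ← Category.assoc]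
    exact congrArg (· ≫ S.u k) (MorphismProperty.Over.w (b₃ ≫ g)))
  rw [Category.comp_id] at hm
  let U₄ := S.at' h₄ U₃
  haveI : IsAffineHom (S.pr h₄ U₃) := MorphismProperty.pullback_fst (P := @IsAffineHom) _ _ inferInstance
  let b₄ : (EtCoh.bc (S.u l)).obj U₄ ⟶ V := bcTo (S.pr h₄ U₃) (S.pr_w h₄ U₃) ≫ b₃
  refine ⟨l, (hk₁.trans h₂).trans h₄, U₄, isAffine_of_isAffineHom (S.pr h₄ U₃), m, hm, b₄,
    toAt S h₄ U₃ (σ ⟨v, hv'⟩), ?_, ?_⟩
  · show (((bcTo (S.pr h₄ U₃) (S.pr_w h₄ U₃)).left ≫ β ≫ V'.ι) (toAt S h₄ U₃ (σ ⟨v, hv'⟩))) = v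
    refine (Scheme.Hom.comp_apply _ _ _).symm.trans ?_
    rw [← Category.assoc, ← Category.assoc, toAt_bcTo, Category.id_comp]
    refine (Scheme.Hom.comp_apply σ (β ≫ V'.ι) _).symm.trans ?_
    rw [← Category.assoc, hσβ, Category.id_comp]
    rfl
  · refine bc_ext _ ((Category.assoc _ _ _).trans (Eq.trans ?_ (bcTo_left_fst m hm).symm))
    show (bcTo (S.pr h₄ U₃) (S.pr_w h₄ U₃)).left ≫ w₃ = _
    rw [← hm', ← Category.assoc]
    congr 1
    apply pullback.hom_ext
    · simp [bcTo, Sys.pr]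
    · simp [bcTo, Sys.pr]
      exact pullback.condition.symm

end Groth.Agent.EtLimLib
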