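import Groth.Agent.EtLimLib.System
import Groth.Agent.EtLimLib.Refine
import Groth.Agent.HensH0.Agree
import Groth.Agent.AffLim.ComponentsBij

/-!
# Sections over qcqs étale schemes commute with the limit

For a cocone `κ` which is a colimit at the points (`IsColim`), sections of the target over
`W ×_{X_i} X` for qcqs `W` come from a stage, and vanish iff they vanish at a stage.
-/

set_option autoImplicit false
set_option linter.unusedSectionVars false
set_option linter.style.haveILetI false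
set_option backward.isDefEq.respectTransparency false
set_option backward.isDefEq.respectTransparency.types false
set_option maxHeartbeats 1000000

universe u

open CategoryTheory CategoryTheory.Limits AlgebraicGeometry Opposite

noncomputable section

namespace Groth.Agent.EtLimLib

variable {ι : Type u} [Preorder ι] [Nonempty ι] [IsDirected ι (· ≤ ·)] {S : Sys ι}

/-- The image at a stage of a point of the limit. -/
def atPt {i j : ι} (h : i ≤ j) {W : (S.X i).Etale} (x : ((EtCoh.bc (S.u i)).obj W).left) : (S.at' h W).left :=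
  (toAt S h W ≫ pullback.fst (S.at' h W).hom (S.u j)) x

variable {M : SysSh S} {E : EtCoh.Ab S.c.pt}

/-- The target of the cocone is the colimit of the system, near every point. -/
structure IsColim (κ : CoconeSh M E) : Prop where
  inj : ∀ ⦃i : ι⦄ (W : (S.X i).Etale) (s : EtCoh.sect (M.F i) W) (x : ((EtCoh.bc (S.u i)).obj W).left),
    x ∈ EtPtsLib.agree E.obj (κ.app s) 0 →
      ∃ (j : ι) (h : i ≤ j), atPt h x ∈ EtPtsLib.agree (M.F j).obj (M.res h s) 0
  surj : ∀ (V : S.c.pt.Etale) (t : EtCoh.sect E V) (v : V.left),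
    ∃ (i : ι) (W : (S.X i).Etale) (s : EtCoh.sect (M.F i) W) (b : (EtCoh.bc (S.u i)).obj W ⟶ V)
      (p : ((EtCoh.bc (S.u i)).obj W).left),
      b.left p = v ∧ p ∈ EtPtsLib.agree E.obj (κ.app s) (E.obj.map b.op t)

theorem mem_agree_iff {Y : Scheme.{u}} (F : EtCoh.Ab Y) {U : Y.Etale} (a b : EtCoh.sect F U) (p : U.left) :
    p ∈ EtPtsLib.agree F.obj a b ↔
      ∃ (V : Y.Etale) (g : V ⟶ U) (v : V.left), F.obj.map g.op a = F.obj.map g.op b ∧ g.left v = p := by
  constructor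
  · intro h
    obtain ⟨V, hV⟩ := Set.mem_iUnion.1 h
    obtain ⟨g, hg⟩ := Set.mem_iUnion.1 hV
    obtain ⟨e, v, hv⟩ := Set.mem_iUnion.1 hg
    exact ⟨V, g, v, e, hv⟩
  · rintro ⟨V, g, v, e, hv⟩
    exact Set.mem_iUnion.2 ⟨V, Set.mem_iUnion.2 ⟨g, Set.mem_iUnion.2 ⟨e, v, hv⟩⟩⟩

theorem hom_congr_apply {Y Z : Scheme.{u}} {f g : Y ⟶ Z} (h : f = g) (y : Y) : f y = g y := by
  rw [h]

theorem eq_of_map_eq {Y : Scheme.{u}} (F : EtCoh.Ab Y) {U : Y.Etale} (a b : EtCoh.sect F U)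
    (h : ∀ p : U.left, ∃ (V : Y.Etale) (g : V ⟶ U) (v : V.left), F.obj.map g.op a = F.obj.map g.op b ∧ g.left v = p) :
    a = b :=
  HensH0.eq_of_agree F fun p => (mem_agree_iff F a b p).2 (h p)

/-- Vanishing near a point is inherited along a map to an earlier stage. -/
theorem mem_agree_resTo (M : SysSh S) {k l : ι} {h : k ≤ l} {U : (S.X l).Etale} {W : (S.X k).Etale}
    (m : U.left ⟶ W.left) (hm : m ≫ W.hom = U.hom ≫ S.t h) (s : EtCoh.sect (M.F k) W) (p : U.left)
    (hp : m p ∈ EtPtsLib.agree (M.F k).obj s 0) : p ∈ EtPtsLib.agree (M.F l).obj (M.resTo m hm s) 0 := by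
  obtain ⟨V, g, v, e, hv⟩ := (mem_agree_iff _ _ _ _).1 hp
  have hz : p ∈ EtPtsLib.agree (M.F l).obj ((M.F l).obj.map (mkHom m hm).op (M.res h s))
      ((M.F l).obj.map (mkHom m hm).op 0) := by
    rw [HensH0.mem_agree_map_iff]
    have hpq : pullback.fst W.hom (S.t h) ((mkHom m hm).left p) = g.left v := by
      rw [hv]
      exact (Scheme.Hom.comp_apply _ _ _).symm.trans (hom_congr_apply (pullback.lift_fst _ _ hm) p)
    obtain ⟨z, hz1, -⟩ := Scheme.Pullback.exists_preimage_pullback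
      (f := pullback.fst W.hom (S.t h)) (g := g.left) ((mkHom m hm).left p) v hpq
    refine (mem_agree_iff _ _ _ _).2 ⟨(EtCoh.bc (S.t h)).obj V, (EtCoh.bc (S.t h)).map g,
      (EtCoh.isPullback_bc_map (S.t h) g).isoPullback.inv z, ?_, ?_⟩
    · rw [← M.res_map, e, map_zero, map_zero]
      exact map_zero _
    · refine Eq.trans ?_ hz1
      refine (Scheme.Hom.comp_apply _ _ _).symm.trans (hom_congr_apply ?_ z)
      exact IsPullback.isoPullback_inv_fst _
  rwa [map_zero] at hz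

/-- The map between two later pullbacks. -/
def atMap (S : Sys ι) {i j m : ι} (h : i ≤ j) (h' : j ≤ m) (W : (S.X i).Etale) :
    (S.at' (h.trans h') W).left ⟶ (S.at' h W).left :=
  pullback.map W.hom (S.t (h.trans h')) W.hom (S.t h) (𝟙 _) (S.t h') (𝟙 _) (by simp)
    (by rw [Category.comp_id]; exact (S.t_t h h').symm)

theorem atMap_w {i j m : ι} (h : i ≤ j) (h' : j ≤ m) (W : (S.X i).Etale) :
    atMap S h h' W ≫ (S.at' h W).hom = (S.at' (h.trans h') W).hom ≫ S.t h' :=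
  pullback.lift_snd _ _ _

theorem atMap_pr {i j m : ι} (h : i ≤ j) (h' : j ≤ m) (W : (S.X i).Etale) :
    atMap S h h' W ≫ S.pr h W = S.pr (h.trans h') W :=
  (pullback.lift_fst _ _ _).trans (Category.comp_id _)

theorem toAt_fst {i j : ι} (h : i ≤ j) (W : (S.X i).Etale) :
    toAt S h W ≫ pullback.fst (S.at' h W).hom (S.u j) =
      pullback.lift (pullback.fst W.hom (S.u i)) (pullback.snd W.hom (S.u i) ≫ S.u j)
        (by rw [Category.assoc, S.u_t h]; exact pullback.condition) :=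
  pullback.lift_fst _ _ _

theorem atMap_atPt {i j m : ι} (h : i ≤ j) (h' : j ≤ m) {W : (S.X i).Etale}
    (x : ((EtCoh.bc (S.u i)).obj W).left) : atMap S h h' W (atPt (h.trans h') x) = atPt h x := by
  refine (Scheme.Hom.comp_apply _ _ _).symm.trans (hom_congr_apply ?_ x)
  rw [toAt_fst h W, toAt_fst (h.trans h') W]
  apply pullback.hom_ext
  · simp [atMap]
  · simp [atMap, S.u_t h']

/-- Restricting to a later stage is `resTo` along the projection. -/
theorem resTo_pr (M : SysSh S) {i j : ι} (h : i ≤ j) (W : (S.X i).Etale) (s : EtCoh.sect (M.F i) W) :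
    M.resTo (S.pr h W) (S.pr_w h W) s = M.res h s := by
  have : mkHom (S.pr h W) (S.pr_w h W) = 𝟙 (S.at' h W) := by
    refine bc_ext _ ?_
    refine (pullback.lift_fst _ _ _).trans ?_
    exact (Category.id_comp _).symm
  show (M.F j).obj.map (mkHom (S.pr h W) (S.pr_w h W)).op (M.res h s) = _
  rw [this, op_id, CategoryTheory.Functor.map_id]
  rfl

theorem resTo_atMap (M : SysSh S) {i j m : ι} (h : i ≤ j) (h' : j ≤ m) (W : (S.X i).Etale) (s : EtCoh.sect (M.F i) W) :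
    M.resTo (atMap S h h' W) (atMap_w h h' W) (M.res h s) = M.res (h.trans h') s := by
  rw [← resTo_pr M h W s, ← resTo_pr M (h.trans h') W s]
  exact M.resTo_resTo _ _ _ _ _ _ (atMap_pr h h' W) s

/-- An open subset of a pullback to a stage containing the image of the limit is everything later on. -/
theorem exists_atMap_mem {i m : ι} (h : i ≤ m) (W : (S.X i).Etale) [CompactSpace W.left]
    [QuasiSeparatedSpace W.left] (O : Set (S.at' h W).left) (hO : IsOpen O)
    (hmem : ∀ x : ((EtCoh.bc (S.u i)).obj W).left, atPt h x ∈ O) :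
    ∃ (j : ι) (h' : m ≤ j), ∀ y, atMap S h h' W y ∈ O := by
  haveI : ∀ {a b : ιᵒᵖ} (f : a ⟶ b), IsAffineHom (S.Xs.map f) := fun f => S.aff f
  haveI : CompactSpace ↥((𝟭 Scheme).obj W.left) := ‹CompactSpace ↥W.left›
  let D := AffLim.baseChange S.Xs (op i) W.hom
  let cc := AffLim.baseChangeCone S.Xs S.c (op i) W.hom
  obtain ⟨hcc⟩ := AffLim.nonempty_isLimit_baseChangeCone S.Xs S.c S.hc (op i) W.hom
  haveI : CompactSpace ↥(D.obj (overIdx h)) := AffLim.compactSpace_baseChange S.Xs (op i) W.hom _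
  obtain ⟨k, f, hf⟩ := AffLim.exists_preimage_eq_univ_of_range_subset D cc hcc (i := overIdx h) hO (by
    rintro _ ⟨x, rfl⟩
    have := hmem x
    rw [atPt, toAt_fst] at this
    simp only [cc, AffLim.baseChangeCone_π_app, pullback.map, Category.comp_id]
    exact this)
  obtain ⟨⟨j⟩, ⟨⟨⟩⟩, g⟩ := k
  have h' : m ≤ j := leOfHom f.left.unop
  obtain rfl : g = (homOfLE (h.trans h')).op := Subsingleton.elim _ _
  refine ⟨j, h', fun y => ?_⟩
  have e : D.map f = atMap S h h' W := by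
    apply pullback.hom_ext
    · simp [D, atMap]
    · simp [D, atMap]
      exact congrArg _ (S.map_eq f.left)
  rw [← e]
  exact hf y

variable {κ : CoconeSh M E}

/-- A section vanishing on the limit vanishes at a stage. -/
theorem exists_res_eq_zero (hκ : IsColim κ) {i : ι} (W : (S.X i).Etale) [CompactSpace W.left]
    [QuasiSeparatedSpace W.left] (s : EtCoh.sect (M.F i) W) (hs : κ.app s = 0) :
    ∃ (j : ι) (h : i ≤ j), M.res h s = 0 := by
  have hx : ∀ x, x ∈ EtPtsLib.agree E.obj (κ.app s) 0 := fun x =>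
    (mem_agree_iff _ _ _ _).2 ⟨_, 𝟙 _, x, by rw [hs], rfl⟩
  choose j hj hjx using fun x => hκ.inj W s x (hx x)
  haveI := (S.qcqs_bc W).1
  obtain ⟨T, hT⟩ := isCompact_univ.elim_finite_subcover
    (fun x => (toAt S (hj x) W ≫ pullback.fst (S.at' (hj x) W).hom (S.u (j x))) ⁻¹'
      EtPtsLib.agree (M.F (j x)).obj (M.res (hj x) s) 0)
    (fun x => (EtPtsLib.isOpen_agree _ _ _).preimage (Scheme.Hom.continuous _))
    (fun x _ => Set.mem_iUnion.2 ⟨x, hjx x⟩)
  classical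
  obtain ⟨m, hm⟩ := Finset.exists_le (insert i (T.image j))
  have him : i ≤ m := hm i (Finset.mem_insert_self _ _)
  have hmem : ∀ x, atPt him x ∈ EtPtsLib.agree (M.F m).obj (M.res him s) 0 := fun y => by
    obtain ⟨x, hxT, hy⟩ := Set.mem_iUnion₂.1 (hT (Set.mem_univ y))
    have h' : j x ≤ m := hm _ (Finset.mem_insert_of_mem (Finset.mem_image_of_mem j hxT))
    rw [← resTo_atMap M (hj x) h' W s]
    refine mem_agree_resTo M _ _ _ _ ?_
    rw [atMap_atPt]
    exact hy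
  obtain ⟨l, hl, hall⟩ := exists_atMap_mem him W _ (EtPtsLib.isOpen_agree _ _ _) hmem
  refine ⟨l, him.trans hl, HensH0.eq_of_agree _ fun y => ?_⟩
  rw [← resTo_atMap M him hl W s]
  exact mem_agree_resTo M _ _ _ _ (hall y)

/-- Two sections equal on the limit are equal at a stage. -/
theorem exists_res_eq (hκ : IsColim κ) {i : ι} (W : (S.X i).Etale) [CompactSpace W.left]
    [QuasiSeparatedSpace W.left] (s s' : EtCoh.sect (M.F i) W) (hs : κ.app s = κ.app s') :
    ∃ (j : ι) (h : i ≤ j), M.res h s = M.res h s' := by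
  obtain ⟨j, h, e⟩ := exists_res_eq_zero hκ W (s - s') (by
    show (κ.ψ i).hom.app (op W) (s - s') = 0
    rw [map_sub, sub_eq_zero]
    exact hs)
  refine ⟨j, h, sub_eq_zero.1 ?_⟩
  exact (map_sub ((M.φ h).hom.app (op W)).hom s s').symm.trans e

theorem bcTo_comp {i j k : ι} {h : i ≤ j} {h' : j ≤ k} {U : (S.X i).Etale} {V : (S.X j).Etale} {W : (S.X k).Etale}
    (m : V.left ⟶ U.left) (hm : m ≫ U.hom = V.hom ≫ S.t h) (m' : W.left ⟶ V.left)
    (hm' : m' ≫ V.hom = W.hom ≫ S.t h') (hm'' : (m' ≫ m) ≫ U.hom = W.hom ≫ S.t (h.trans h')) :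
    bcTo m' hm' ≫ bcTo m hm = bcTo (m' ≫ m) hm'' := by
  refine bc_ext _ ?_
  show ((bcTo m' hm').left ≫ (bcTo m hm).left) ≫ _ = _
  rw [Category.assoc, bcTo_left_fst, ← Category.assoc, bcTo_left_fst, bcTo_left_fst, Category.assoc]

theorem comp_w {i j k : ι} {h : i ≤ j} {h' : j ≤ k} {U : (S.X i).Etale} {V : (S.X j).Etale} {W : (S.X k).Etale}
    {m : V.left ⟶ U.left} (hm : m ≫ U.hom = V.hom ≫ S.t h) {m' : W.left ⟶ V.left}
    (hm' : m' ≫ V.hom = W.hom ≫ S.t h') : (m' ≫ m) ≫ U.hom = W.hom ≫ S.t (h.trans h') := by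
  rw [Category.assoc, hm, ← Category.assoc, hm', Category.assoc, S.t_t]

/-- Near every point a section on the limit comes from a stage. -/
theorem exists_local (hκ : IsColim κ) {i : ι} (W : (S.X i).Etale)
    (t : EtCoh.sect E ((EtCoh.bc (S.u i)).obj W)) (v : ((EtCoh.bc (S.u i)).obj W).left) :
    ∃ (l : ι) (h : i ≤ l) (U : (S.X l).Etale) (_ : IsAffine U.left) (m : U.left ⟶ W.left)
      (hm : m ≫ W.hom = U.hom ≫ S.t h) (s : EtCoh.sect (M.F l) U) (p : ((EtCoh.bc (S.u l)).obj U).left),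
      κ.app s = E.obj.map (bcTo m hm).op t ∧ (bcTo m hm).left p = v := by
  haveI : ∀ {a b : ιᵒᵖ} (f : a ⟶ b), IsAffineHom (S.Xs.map f) := fun f => S.aff f
  haveI : Etale W.hom := W.prop
  obtain ⟨k, W₀, s₀, b, p, hbp, hp⟩ := hκ.surj _ t v
  obtain ⟨V, g, v', e, hv'⟩ := (mem_agree_iff _ _ _ _).1 hp
  obtain ⟨l₀, hk, U₀, _, m₀, hm₀, b₀, p₀, hb₀, hg⟩ := exists_refine S W₀ g v'
  obtain ⟨l₁, h₀₁, hi₁⟩ := directed_of (α := ι) (· ≤ ·) l₀ i
  let U₁ := S.at' h₀₁ U₀
  haveI : IsAffineHom (S.pr h₀₁ U₀) := MorphismProperty.pullback_fst (P := @IsAffineHom) _ _ inferInstance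
  haveI : IsAffine U₁.left := isAffine_of_isAffineHom (S.pr h₀₁ U₀)
  let c₁ := bcTo (S.pr h₀₁ U₀) (S.pr_w h₀₁ U₀) ≫ b₀ ≫ g ≫ b
  let a : ((EtCoh.bc (S.u l₁)).obj U₁).left ⟶ W.left := c₁.left ≫ pullback.fst W.hom (S.u i)
  obtain ⟨l, h₁l, m, hm, hma⟩ := exists_stage_hom S hi₁ U₁ W.hom (𝟙 _) a (by
    rw [Category.comp_id]
    show (c₁.left ≫ pullback.fst W.hom (S.u i)) ≫ W.hom = _
    rw [Category.assoc, pullback.condition, ← Category.assoc]
    exact congrArg (· ≫ S.u i) (MorphismProperty.Over.w c₁))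
  rw [Category.comp_id] at hm
  haveI : IsAffineHom (S.pr h₁l U₁) := MorphismProperty.pullback_fst (P := @IsAffineHom) _ _ inferInstance
  let pr' := S.pr h₁l U₁ ≫ S.pr h₀₁ U₀
  have hpr' := comp_w (S.pr_w h₀₁ U₀) (S.pr_w h₁l U₁)
  let m'' := pr' ≫ m₀
  have hm'' := comp_w hm₀ hpr'
  have hfac : bcTo m hm = bcTo (S.pr h₁l U₁) (S.pr_w h₁l U₁) ≫ c₁ := by
    refine bc_ext _ ((bcTo_left_fst m hm).trans ?_)
    show _ = ((bcTo (S.pr h₁l U₁) (S.pr_w h₁l U₁)).left ≫ c₁.left) ≫ _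
    rw [Category.assoc]
    show _ = _ ≫ a
    rw [← hma, ← Category.assoc]
    congr 1
    apply pullback.hom_ext
    · simp [bcTo, Sys.pr]
    · simp [bcTo, Sys.pr]
      exact pullback.condition
  refine ⟨l, hi₁.trans h₁l, S.at' h₁l U₁, isAffine_of_isAffineHom (S.pr h₁l U₁), m, hm, M.resTo m'' hm'' s₀,
    toAt S h₁l U₁ (toAt S h₀₁ U₀ p₀), ?_, ?_⟩
  · rw [κ.app_resTo, ← bcTo_comp m₀ hm₀ pr' hpr' hm'', ← hg, hfac]
    show E.obj.map (bcTo pr' hpr' ≫ b₀ ≫ g).op _ = E.obj.map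
      (bcTo (S.pr h₁l U₁) (S.pr_w h₁l U₁) ≫ bcTo (S.pr h₀₁ U₀) (S.pr_w h₀₁ U₀) ≫ b₀ ≫ g ≫ b).op t
    rw [← Category.assoc (bcTo (S.pr h₁l U₁) _), bcTo_comp _ _ _ _ hpr']
    simp only [op_comp, Functor.map_comp_apply]
    rw [e]
  · rw [hfac]
    show ((bcTo (S.pr h₁l U₁) (S.pr_w h₁l U₁)).left ≫
      (bcTo (S.pr h₀₁ U₀) (S.pr_w h₀₁ U₀)).left ≫ b₀.left ≫ g.left ≫ b.left) _ = v
    refine (Scheme.Hom.comp_apply (toAt S h₁l U₁) _ _).symm.trans ?_
    rw [← Category.assoc, toAt_bcTo, Category.id_comp]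
    refine (Scheme.Hom.comp_apply (toAt S h₀₁ U₀) _ _).symm.trans ?_
    rw [← Category.assoc, toAt_bcTo, Category.id_comp]
    simp only [Scheme.Hom.comp_apply]
    exact ((congrArg (fun q => b.left (g.left q)) hb₀).trans (congrArg b.left hv')).trans hbp

/-- A section on the limit comes from a stage. -/
theorem exists_app_eq (hκ : IsColim κ) {i : ι} (W : (S.X i).Etale) [CompactSpace W.left]
    [QuasiSeparatedSpace W.left] (t : EtCoh.sect E ((EtCoh.bc (S.u i)).obj W)) :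
    ∃ (j : ι) (h : i ≤ j) (s : EtCoh.sect (M.F j) (S.at' h W)),
      κ.app s = E.obj.map (bcTo (S.pr h W) (S.pr_w h W)).op t := by
  classical
  haveI : ∀ {a b : ιᵒᵖ} (f : a ⟶ b), IsAffineHom (S.Xs.map f) := fun f => S.aff f
  choose l hl U hU m hm s p hs hp using exists_local hκ W t
  haveI := (S.qcqs_bc W).1
  obtain ⟨T, hT⟩ := isCompact_univ.elim_finite_subcover
    (fun x => Set.range (bcTo (m x) (hm x)).left)
    (fun x => by
      haveI := EtPtsLib.etale_left (bcTo (m x) (hm x))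
      exact (bcTo (m x) (hm x)).left.isOpenMap.isOpen_range)
    (fun x _ => Set.mem_iUnion.2 ⟨x, p x, hp x⟩)
  obtain ⟨j₁, hj₁⟩ := Finset.exists_le (insert i (T.image l))
  have hij₁ : i ≤ j₁ := hj₁ i (Finset.mem_insert_self _ _)
  have hT' : ∀ x : T, l x ≤ j₁ := fun x => hj₁ _ (Finset.mem_insert_of_mem (Finset.mem_image_of_mem l x.2))
  -- the cover at the stage j₁
  let U₁ : T → (S.X j₁).Etale := fun x => S.at' (hT' x) (U x)
  let m₁ : ∀ x : T, (U₁ x).left ⟶ W.left := fun x => S.pr (hT' x) (U x) ≫ m x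
  have hm₁ : ∀ x : T, m₁ x ≫ W.hom = (U₁ x).hom ≫ S.t hij₁ := fun x => comp_w (hm x) (S.pr_w (hT' x) (U x))
  let O₁ : Set (S.at' hij₁ W).left := ⋃ x : T, Set.range (mkHom (m₁ x) (hm₁ x)).left
  have hO₁ : IsOpen O₁ := isOpen_iUnion fun x => by
    haveI := EtPtsLib.etale_left (mkHom (m₁ x) (hm₁ x))
    exact (mkHom (m₁ x) (hm₁ x)).left.isOpenMap.isOpen_range
  obtain ⟨j₂, h₁₂, hcov⟩ := exists_atMap_mem hij₁ W O₁ hO₁ fun y => by
    obtain ⟨x, hxT, q, hq⟩ := Set.mem_iUnion₂.1 (hT (Set.mem_univ y))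
    refine Set.mem_iUnion.2 ⟨⟨x, hxT⟩, atPt (hT' ⟨x, hxT⟩) q, ?_⟩
    rw [← hq]
    refine (Scheme.Hom.comp_apply _ _ _).symm.trans (Eq.trans (hom_congr_apply ?_ q) (Scheme.Hom.comp_apply _ _ _))
    rw [toAt_fst, toAt_fst]
    apply pullback.hom_ext
    · simp [mkHom, m₁, bcTo, Sys.pr]
    · simp [mkHom, m₁, bcTo]
      exact pullback.lift_snd _ _ _
  have hij₂ : i ≤ j₂ := hij₁.trans h₁₂
  -- the overlaps agree at a later stage
  let U₂ : T → (S.X j₂).Etale := fun x => S.at' ((hT' x).trans h₁₂) (U x)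
  let m₂ : ∀ x : T, (U₂ x).left ⟶ W.left := fun x => S.pr ((hT' x).trans h₁₂) (U x) ≫ m x
  have hm₂ : ∀ x : T, m₂ x ≫ W.hom = (U₂ x).hom ≫ S.t hij₂ := fun x =>
    comp_w (hm x) (S.pr_w ((hT' x).trans h₁₂) (U x))
  let s₂ : ∀ x : T, EtCoh.sect (M.F j₂) (U₂ x) := fun x => M.res ((hT' x).trans h₁₂) (s x)
  have hs₂ : ∀ x : T, κ.app (s₂ x) = E.obj.map (bcTo (m₂ x) (hm₂ x)).op t := fun x => by
    rw [show s₂ x = M.resTo (S.pr _ _) (S.pr_w _ _) (s x) from (resTo_pr M _ _ _).symm, κ.app_resTo, hs,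
      ← Functor.map_comp_apply, ← op_comp, bcTo_comp _ _ _ _ (hm₂ x)]
  let a₂ : ∀ x : T, U₂ x ⟶ S.at' hij₂ W := fun x => mkHom (m₂ x) (hm₂ x)
  let P : T × T → (S.X j₂).Etale := fun z =>
    haveI := EtPtsLib.etale_left (a₂ z.2)
    haveI : Etale (U₂ z.1).hom := (U₂ z.1).prop
    Scheme.Etale.mk (pullback.fst (a₂ z.1).left (a₂ z.2).left ≫ (U₂ z.1).hom)
  let P₁ : ∀ z, P z ⟶ U₂ z.1 := fun z => MorphismProperty.Over.homMk (pullback.fst _ _) rfl
  let P₂ : ∀ z, P z ⟶ U₂ z.2 := fun z => MorphismProperty.Over.homMk (pullback.snd _ _) (by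
    show pullback.snd (a₂ z.1).left (a₂ z.2).left ≫ (U₂ z.2).hom = pullback.fst _ _ ≫ (U₂ z.1).hom
    rw [← MorphismProperty.Over.w (a₂ z.2), ← Category.assoc, ← pullback.condition, Category.assoc,
      MorphismProperty.Over.w (a₂ z.1)])
  haveI := (S.qcqs_at' hij₂ W).1
  haveI := (S.qcqs_at' hij₂ W).2
  haveI hU₂ : ∀ x : T, IsAffine (U₂ x).left := fun x => by
    haveI := hU x
    haveI : IsAffineHom (S.pr ((hT' x).trans h₁₂) (U x)) :=
      MorphismProperty.pullback_fst (P := @IsAffineHom) _ _ inferInstance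
    exact isAffine_of_isAffineHom (S.pr ((hT' x).trans h₁₂) (U x))
  have hPz : ∀ z, ∃ (j : ι) (h : j₂ ≤ j),
      M.res h ((M.F j₂).obj.map (P₁ z).op (s₂ z.1)) = M.res h ((M.F j₂).obj.map (P₂ z).op (s₂ z.2)) := fun z => by
    haveI : QuasiCompact (a₂ z.2).left := inferInstance
    haveI : CompactSpace (P z).left :=
      QuasiCompact.compactSpace_of_compactSpace (pullback.fst (a₂ z.1).left (a₂ z.2).left)
    haveI : QuasiSeparatedSpace (P z).left :=
      quasiSeparatedSpace_of_quasiSeparated (pullback.fst (a₂ z.1).left (a₂ z.2).left)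
    refine exists_res_eq hκ (P z) _ _ ?_
    rw [κ.app_map, κ.app_map, hs₂, hs₂, ← Functor.map_comp_apply, ← Functor.map_comp_apply, ← op_comp, ← op_comp]
    congr 3
    refine congrArg Quiver.Hom.op (bc_ext _ ?_)
    show (((EtCoh.bc (S.u j₂)).map (P₁ z)).left ≫ (bcTo (m₂ z.1) (hm₂ z.1)).left) ≫ _ =
      (((EtCoh.bc (S.u j₂)).map (P₂ z)).left ≫ (bcTo (m₂ z.2) (hm₂ z.2)).left) ≫ _
    rw [Category.assoc, Category.assoc, bcTo_left_fst, bcTo_left_fst,
      reassoc_of% bc_map_fst (S.u j₂) (P₁ z), reassoc_of% bc_map_fst (S.u j₂) (P₂ z)]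
    congr 1
    show pullback.fst (a₂ z.1).left (a₂ z.2).left ≫ m₂ z.1 = pullback.snd (a₂ z.1).left (a₂ z.2).left ≫ m₂ z.2
    have := congrArg (· ≫ pullback.fst W.hom (S.t hij₂)) (pullback.condition (f := (a₂ z.1).left) (g := (a₂ z.2).left))
    simp only [Category.assoc] at this
    simpa [a₂, mkHom] using this
  choose jP hjP heP using hPz
  obtain ⟨j, hj⟩ := Finset.exists_le (insert j₂ (Finset.univ.image jP))
  have h₂j : j₂ ≤ j := hj j₂ (Finset.mem_insert_self _ _)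
  have hjP' : ∀ z, jP z ≤ j := fun z => hj _ (Finset.mem_insert_of_mem (Finset.mem_image_of_mem jP (Finset.mem_univ z)))
  -- glue at the stage j
  have hij : i ≤ j := hij₂.trans h₂j
  let U' : T → (S.X j).Etale := fun x => S.at' h₂j (U₂ x)
  let m' : ∀ x : T, (U' x).left ⟶ W.left := fun x => S.pr h₂j (U₂ x) ≫ m₂ x
  have hm' : ∀ x : T, m' x ≫ W.hom = (U' x).hom ≫ S.t hij := fun x => comp_w (hm₂ x) (S.pr_w h₂j (U₂ x))
  let a' : ∀ x : T, U' x ⟶ S.at' hij W := fun x => mkHom (m' x) (hm' x)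
  let s' : ∀ x : T, EtCoh.sect (M.F j) (U' x) := fun x => M.res h₂j (s₂ x)
  have hsurj : ∀ y : (S.at' hij W).left, ∃ x, y ∈ Set.range (a' x).left := fun y => by
    obtain ⟨x, q, hq⟩ := Set.mem_iUnion.1 (hcov (atMap S hij₂ h₂j W y))
    -- lift to the pullback of the cover
    let A : (U' x).left ⟶ (U₁ x).left := S.pr h₂j (U₂ x) ≫ atMap S (hT' x) h₁₂ (U x)
    have sq : IsPullback A (a' x).left (mkHom (m₁ x) (hm₁ x)).left (atMap S hij₁ (h₁₂.trans h₂j) W) := by
      have s1 : IsPullback (atMap S hij₁ (h₁₂.trans h₂j) W) (S.at' hij W).hom (S.at' hij₁ W).hom (S.t (h₁₂.trans h₂j)) := by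
        refine IsPullback.of_right (h₁₂ := S.pr hij₁ W) (h₂₂ := S.t hij₁) (v₁₃ := W.hom) ?_ (atMap_w _ _ W) (IsPullback.of_hasPullback _ _)
        rw [atMap_pr, S.t_t]
        exact IsPullback.of_hasPullback _ _
      refine IsPullback.of_bot ?_ ?_ s1
      · have e1 : (a' x).left ≫ (S.at' hij W).hom = (U' x).hom := MorphismProperty.Over.w (a' x)
        have e2 : (mkHom (m₁ x) (hm₁ x)).left ≫ (S.at' hij₁ W).hom = (U₁ x).hom := MorphismProperty.Over.w _
        rw [e1, e2]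
        have s2 : IsPullback (atMap S (hT' x) h₁₂ (U x)) (U₂ x).hom (U₁ x).hom (S.t h₁₂) := by
          refine IsPullback.of_right (h₁₂ := S.pr (hT' x) (U x)) (h₂₂ := S.t (hT' x)) (v₁₃ := (U x).hom) ?_ (atMap_w _ _ _) (IsPullback.of_hasPullback _ _)
          rw [atMap_pr, S.t_t]
          exact IsPullback.of_hasPullback _ _
        have := (IsPullback.of_hasPullback (U₂ x).hom (S.t h₂j)).paste_horiz s2
        rwa [S.t_t] at this
      · apply pullback.hom_ext
        · simp only [Category.assoc, A]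
          show _ ≫ _ ≫ (mkHom (m₁ x) (hm₁ x)).left ≫ S.pr hij₁ W = _ ≫ _ ≫ S.pr hij₁ W
          rw [atMap_pr, show (mkHom (m₁ x) (hm₁ x)).left ≫ S.pr hij₁ W = m₁ x from pullback.lift_fst _ _ _,
            show (a' x).left ≫ S.pr hij W = m' x from pullback.lift_fst _ _ _]
          simp only [m', m₂, m₁]
          rw [← Category.assoc (atMap S (hT' x) h₁₂ (U x)), atMap_pr]
        · simp only [Category.assoc, A]
          show _ ≫ _ ≫ (mkHom (m₁ x) (hm₁ x)).left ≫ (S.at' hij₁ W).hom = (a' x).left ≫ _ ≫ (S.at' hij₁ W).hom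
          rw [MorphismProperty.Over.w, atMap_w, atMap_w, ← Category.assoc, S.pr_w, Category.assoc, S.t_t,
            ← Category.assoc (a' x).left, MorphismProperty.Over.w]
    obtain ⟨z, -, hz⟩ := Scheme.Pullback.exists_preimage_pullback
      (f := (mkHom (m₁ x) (hm₁ x)).left) (g := atMap S hij₁ (h₁₂.trans h₂j) W) q y (by
        rw [hq]
        refine (Scheme.Hom.comp_apply _ _ _).symm.trans (hom_congr_apply ?_ y)
        apply pullback.hom_ext <;> simp [atMap, S.t_t])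
    exact ⟨x, sq.isoPullback.inv z, by
      refine Eq.trans ?_ hz
      exact (Scheme.Hom.comp_apply _ _ _).symm.trans (hom_congr_apply sq.isoPullback_inv_snd z)⟩
  have hR : Sieve.ofArrows U' a' ∈ (S.X j).smallEtaleTopology (S.at' hij W) :=
    (Scheme.ofArrows_mem_smallEtaleTopology_iff a').2 (Set.eq_univ_of_forall fun y => Set.mem_iUnion.2 (hsurj y))
  have hc : Presieve.Arrows.Compatible ((M.F j).obj ⋙ forget AddCommGrpCat.{u + 1}) a' s' := by
    intro x y Z ga gb e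
    let z : T × T := (x, y)
    have w1 : ga.left ≫ m' x = gb.left ≫ m' y := by
      have h1 : ∀ v, (a' v).left ≫ pullback.fst W.hom (S.t hij) = m' v := fun v => pullback.lift_fst _ _ _
      rw [← h1, ← h1, ← Category.assoc, ← Category.assoc]
      exact congrArg (fun k => k.left ≫ pullback.fst W.hom (S.t hij)) e
    let n : Z.left ⟶ (P z).left := pullback.lift (ga.left ≫ S.pr h₂j (U₂ x)) (gb.left ≫ S.pr h₂j (U₂ y)) (by
      refine pullback.hom_ext ?_ ?_
      · simpa [a₂, mkHom, m'] using w1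
      · simp only [Category.assoc]
        show _ ≫ _ ≫ (a₂ z.1).left ≫ (S.at' hij₂ W).hom = _ ≫ _ ≫ (a₂ z.2).left ≫ (S.at' hij₂ W).hom
        rw [MorphismProperty.Over.w, MorphismProperty.Over.w, S.pr_w, S.pr_w, ← Category.assoc, ← Category.assoc,
          MorphismProperty.Over.w ga, MorphismProperty.Over.w gb])
    have hn : n ≫ (P z).hom = Z.hom ≫ S.t h₂j := by
      show pullback.lift _ _ _ ≫ pullback.fst _ _ ≫ (U₂ x).hom = _
      rw [pullback.lift_fst_assoc, Category.assoc, S.pr_w, ← Category.assoc, MorphismProperty.Over.w ga]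
    have hga : (M.F j).obj.map ga.op (s' x) = M.resTo n hn ((M.F j₂).obj.map (P₁ z).op (s₂ x)) := by
      show _ = (M.F j).obj.map (mkHom n hn).op (M.res h₂j _)
      rw [M.res_map, ← Functor.map_comp_apply, ← op_comp]
      congr 3
      refine congrArg Quiver.Hom.op (bc_ext _ ?_)
      show _ = ((mkHom n hn).left ≫ ((EtCoh.bc (S.t h₂j)).map (P₁ z)).left) ≫ _
      rw [Category.assoc, bc_map_fst, ← Category.assoc]
      simp [mkHom, n, P₁]
    have hgb : (M.F j).obj.map gb.op (s' y) = M.resTo n hn ((M.F j₂).obj.map (P₂ z).op (s₂ y)) := by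
      show _ = (M.F j).obj.map (mkHom n hn).op (M.res h₂j _)
      rw [M.res_map, ← Functor.map_comp_apply, ← op_comp]
      congr 3
      refine congrArg Quiver.Hom.op (bc_ext _ ?_)
      show _ = ((mkHom n hn).left ≫ ((EtCoh.bc (S.t h₂j)).map (P₂ z)).left) ≫ _
      rw [Category.assoc, bc_map_fst, ← Category.assoc]
      simp [mkHom, n, P₂]
    show (M.F j).obj.map ga.op (s' x) = (M.F j).obj.map gb.op (s' y)
    rw [hga, hgb]
    show (M.F j).obj.map _ (M.res h₂j _) = (M.F j).obj.map _ (M.res h₂j _)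
    congr 1
    have key := congrArg (M.resTo (atMap S (hjP z) (hjP' z) (P z)) (atMap_w (hjP z) (hjP' z) (P z))) (heP z)
    rw [resTo_atMap, resTo_atMap] at key
    exact key
  have hsh := (Presieve.isSheafFor_iff_generate _).2
    (((isSheaf_iff_isSheaf_of_type _ _).1
      ((sheafCompose (S.X j).smallEtaleTopology (forget AddCommGrpCat.{u + 1})).obj (M.F j)).property) _ hR)
  obtain ⟨σ, hσ, -⟩ := (Presieve.isSheafFor_arrows_iff _ _).1 hsh s' hc
  refine ⟨j, hij, σ, eq_of_map_eq E _ _ fun y => ?_⟩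
  obtain ⟨x, q, hq⟩ := hsurj (pullback.fst (S.at' hij W).hom (S.u j) y)
  obtain ⟨z, hz1, -⟩ := Scheme.Pullback.exists_preimage_pullback
    (f := pullback.fst (S.at' hij W).hom (S.u j)) (g := (a' x).left) y q hq.symm
  refine ⟨(EtCoh.bc (S.u j)).obj (U' x), (EtCoh.bc (S.u j)).map (a' x),
    (EtCoh.isPullback_bc_map (S.u j) (a' x)).isoPullback.inv z, ?_, ?_⟩
  · rw [← κ.app_map, show (M.F j).obj.map (a' x).op σ = s' x from hσ x, ← Functor.map_comp_apply, ← op_comp]
    show κ.app (M.res h₂j (s₂ x)) = _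
    rw [← resTo_pr, κ.app_resTo, hs₂, ← Functor.map_comp_apply, ← op_comp, bcTo_comp _ _ _ _ (hm' x)]
    congr 3
    refine congrArg Quiver.Hom.op (bc_ext _ ?_)
    show _ = (((EtCoh.bc (S.u j)).map (a' x)).left ≫ (bcTo (S.pr hij W) (S.pr_w hij W)).left) ≫ _
    rw [Category.assoc, bcTo_left_fst, bcTo_left_fst, reassoc_of% bc_map_fst (S.u j) (a' x)]
    congr 1
    exact (pullback.lift_fst _ _ _).symm
  · refine Eq.trans ?_ hz1
    exact (Scheme.Hom.comp_apply _ _ _).symm.trans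
      (hom_congr_apply (IsPullback.isoPullback_inv_fst _) z)

end Groth.Agent.EtLimLib
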