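import Groth.Agent.EtLimLib.ConstSys

/-!
# The system of inverse images of a sheaf on a scheme under all stages

For maps `q i : X_i → B` compatible with the transition maps, with limit map `g : X → B`, and a
sheaf `F₀` on `B`: the system `q_i⁻¹ F₀` and its colimit `g⁻¹ F₀`.
-/

set_option autoImplicit false
set_option linter.unusedSectionVars false
set_option linter.style.haveILetI false
set_option backward.isDefEq.respectTransparency false
set_option backward.isDefEq.respectTransparency.types false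
set_option maxHeartbeats 1000000

universe u

open CategoryTheory CategoryTheory.Limits AlgebraicGeometry Opposite

noncomputable section

namespace Groth.Agent.EtLimLib.OverSys

/-- Compatible maps from the stages to a scheme. -/
structure Over {ι : Type u} [Preorder ι] [IsDirected ι (· ≤ ·)] (S : Sys ι) (B : Scheme.{u}) where
  q : ∀ i, S.X i ⟶ B
  g : S.c.pt ⟶ B
  hq : ∀ ⦃i j : ι⦄ (h : i ≤ j), S.t h ≫ q i = q j
  hg : ∀ i, S.u i ≫ q i = g

variable {ι : Type u} [Preorder ι] [IsDirected ι (· ≤ ·)] [Nonempty ι] {S : Sys ι} {B : Scheme.{u}} (O : Over S B)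
  (F₀ : EtCoh.Ab B)

/-- The transition maps of the inverse images. -/
def overφ {i j : ι} (h : i ≤ j) :
    (EtCoh.pull (O.q i)).obj F₀ ⟶ (EtCoh.push (S.t h)).obj ((EtCoh.pull (O.q j)).obj F₀) :=
  ((EtCoh.pullPushAdj (O.q i)).homEquiv _ _).symm
    ((EtCoh.pullPushAdj (O.q j)).unit.app F₀ ≫ (pushSp (O.q i) (S.t h) (O.q j) (O.hq h)).app _)

theorem unit_overφ {i j : ι} (h : i ≤ j) :
    (EtCoh.pullPushAdj (O.q i)).unit.app F₀ ≫ (EtCoh.push (O.q i)).map (overφ O F₀ h) =
      (EtCoh.pullPushAdj (O.q j)).unit.app F₀ ≫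
        (pushSp (O.q i) (S.t h) (O.q j) (O.hq h)).app _ :=
  ((EtCoh.pullPushAdj (O.q i)).homEquiv_unit _ _ _).symm.trans (Equiv.apply_symm_apply _ _)

/-- The system of inverse images of a sheaf of the first stage. -/
def overSys : SysSh S where
  F i := (EtCoh.pull (O.q i)).obj F₀
  φ i j h := overφ O F₀ h
  cocycle i j k h h' := by
    apply ((EtCoh.pullPushAdj (O.q i)).homEquiv _ _).injective
    rw [Adjunction.homEquiv_naturality_right, Adjunction.homEquiv_naturality_right]
    rw [show (EtCoh.pullPushAdj (O.q i)).homEquiv _ _ (overφ O F₀ h) = _ from Equiv.apply_symm_apply _ _,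
      show (EtCoh.pullPushAdj (O.q i)).homEquiv _ _ (overφ O F₀ (h.trans h')) = _ from
        Equiv.apply_symm_apply _ _]
    simp only [Category.assoc]
    have hn := (pushSp (O.q i) (S.t h) (O.q j) (O.hq h)).naturality (overφ O F₀ h')
    refine Eq.trans ?_ (congrArg (fun a => (EtCoh.pullPushAdj (O.q j)).unit.app F₀ ≫ a) hn)
    rw [← Category.assoc ((EtCoh.pullPushAdj (O.q j)).unit.app F₀), unit_overφ, Category.assoc]
    exact congrArg (fun a => (EtCoh.pullPushAdj (O.q k)).unit.app F₀ ≫ a)
      (pushSp_assoc (O.q i) (S.t h) (S.t h') (O.q j) (S.t (h.trans h')) (O.q k) (O.hq h)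
        (S.t_t h h') (O.hq h') (O.hq (h.trans h')) ((EtCoh.pull (O.q k)).obj F₀)).symm
  refl i W s := by
    have e : overφ O F₀ (le_refl i) = (selfMap S i).app ((EtCoh.pull (O.q i)).obj F₀) := by
      apply ((EtCoh.pullPushAdj (O.q i)).homEquiv _ _).injective
      refine (Equiv.apply_symm_apply _ _).trans ?_
      rw [Adjunction.homEquiv_unit]
      refine congrArg (fun a => (EtCoh.pullPushAdj (O.q i)).unit.app F₀ ≫ a) ?_
      refine ObjectProperty.hom_ext _ (NatTrans.ext (funext fun V => ?_))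
      show ((EtCoh.pull (O.q i)).obj F₀).obj.map _ = ((EtCoh.pull (O.q i)).obj F₀).obj.map _
      congr 2
      refine bc_ext _ ?_
      rw [bcSp_fst]
      exact congrArg (fun a => a ≫ pullback.fst _ _) (rfl : (prSelf S i _).left = _).symm
    rw [e]
    rfl

/-- The inverse image on the limit, under the system. -/
def overCocone : CoconeSh (overSys O F₀) ((EtCoh.pull (O.g)).obj F₀) where
  ψ i := ((EtCoh.pullPushAdj (O.q i)).homEquiv _ _).symm
    ((EtCoh.pullPushAdj (O.g)).unit.app F₀ ≫ (pushSp (O.q i) (S.u i) O.g (O.hg i)).app _)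
  comm i j h := by
    apply ((EtCoh.pullPushAdj (O.q i)).homEquiv _ _).injective
    rw [Adjunction.homEquiv_naturality_right, Adjunction.homEquiv_naturality_right, Equiv.apply_symm_apply]
    rw [show (EtCoh.pullPushAdj (O.q i)).homEquiv _ _ ((overSys O F₀).φ h) = _ from
      Equiv.apply_symm_apply _ _]
    simp only [Category.assoc]
    let ψj := ((EtCoh.pullPushAdj (O.q j)).homEquiv _ _).symm
      ((EtCoh.pullPushAdj (O.g)).unit.app F₀ ≫ (pushSp (O.q j) (S.u j) O.g (O.hg j)).app _)
    have hn := (pushSp (O.q i) (S.t h) (O.q j) (O.hq h)).naturality ψj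
    refine Eq.trans ?_ (congrArg (fun a => (EtCoh.pullPushAdj (O.q j)).unit.app F₀ ≫ a) hn)
    have e2 : (EtCoh.pullPushAdj (O.q j)).unit.app F₀ ≫ (EtCoh.push (O.q j)).map ψj =
        (EtCoh.pullPushAdj (O.g)).unit.app F₀ ≫ (pushSp (O.q j) (S.u j) O.g (O.hg j)).app _ :=
      ((EtCoh.pullPushAdj (O.q j)).homEquiv_unit _ _ _).symm.trans (Equiv.apply_symm_apply _ _)
    rw [← Category.assoc ((EtCoh.pullPushAdj (O.q j)).unit.app F₀), e2, Category.assoc]
    exact congrArg (fun a => (EtCoh.pullPushAdj (O.g)).unit.app F₀ ≫ a)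
      (pushSp_assoc (O.q i) (S.t h) (S.u j) (O.q j) (S.u i) (O.g) (O.hq h)
        (S.u_t h) (O.hg j) (O.hg i) ((EtCoh.pull (O.g)).obj F₀)).symm

theorem comparePull_overCocone (i : ι) :
    (comparePull (O.q i) (S.u i) O.g (O.hg i)).app F₀ ≫ (overCocone O F₀).mate _ i = 𝟙 _ :=
  comparePull_transpose _ _ _ _ _

theorem comparePull_overSys {i j : ι} (h : i ≤ j) :
    (comparePull (O.q i) (S.t h) (O.q j) (O.hq h)).app F₀ ≫ (overSys O F₀).mate h = 𝟙 _ :=
  comparePull_transpose _ _ _ _ _

/-- The constant diagram under the system. -/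
def overDiag : PullDiag (overSys O F₀) where
  G := (Functor.const ι).obj ((EtCoh.pull (O.g)).obj F₀)
  η := (overCocone O F₀).ψ
  isIso i := by
    haveI := isIso_comparePull (O.q i) (S.u i) O.g (O.hg i) F₀
    exact IsIso.of_isIso_fac_left (comparePull_overCocone O F₀ i)
  comm i j h := by
    refine Eq.trans (congrArg (fun a => (overCocone O F₀).ψ i ≫ a) ?_) ((overCocone O F₀).comm h)
    show (EtCoh.push (S.u i)).map (𝟙 _) ≫ _ = _
    rw [CategoryTheory.Functor.map_id]
    exact Category.id_comp _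

theorem cocone_overDiag :
    (overDiag O F₀).cocone (constCocone ι ((EtCoh.pull (O.g)).obj F₀)) = overCocone O F₀ := by
  have h : ∀ i, ((overDiag O F₀).cocone (constCocone ι ((EtCoh.pull (O.g)).obj F₀))).ψ i =
      (overCocone O F₀).ψ i := fun i => by
    show (overCocone O F₀).ψ i ≫ (EtCoh.push (S.u i)).map (𝟙 _) = _
    rw [CategoryTheory.Functor.map_id]
    exact Category.comp_id _
  generalize (overDiag O F₀).cocone (constCocone ι ((EtCoh.pull (O.g)).obj F₀)) = κ at h ⊢
  generalize overCocone O F₀ = κ' at h ⊢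
  obtain ⟨a, _⟩ := κ
  obtain ⟨b, _⟩ := κ'
  obtain rfl : a = b := funext h
  rfl

theorem isColim_overCocone : IsColim (overCocone O F₀) := by
  haveI : IsConnected ι := IsFiltered.isConnected ι
  rw [← cocone_overDiag]
  exact isColim_cocone (overDiag O F₀) (isColimitConstCocone ι ((EtCoh.pull (O.g)).obj F₀))

end Groth.Agent.EtLimLib.OverSys
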