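import Groth.Agent.EtLimLib.Base

/-!
# A sheaf with acyclic direct images to the stages is acyclic

`surjective_sections`: for a short exact sequence whose kernel is `PushAcyclic`, sections over
`W ×_{X_k} X` lift. `subsingleton_H`: such a sheaf has no higher cohomology.
-/

set_option autoImplicit false
set_option linter.unusedSectionVars false
set_option linter.style.haveILetI false
set_option backward.isDefEq.respectTransparency false
set_option backward.isDefEq.respectTransparency.types false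
set_option maxHeartbeats 1000000

universe u

open CategoryTheory CategoryTheory.Limits AlgebraicGeometry Opposite Abelian

noncomputable section

namespace Groth.Agent.EtLimLib

/-- A section which is locally in the image of a monomorphism is in the image. -/
theorem exists_preimage_of_locally {Y : Scheme.{u}} {F G : EtCoh.Ab Y} (δ : F ⟶ G) [Mono δ] {U : Y.Etale}
    (s : EtCoh.sect G U)
    (h : ∀ p : U.left, ∃ (V : Y.Etale) (g : V ⟶ U) (v : V.left),
      (∃ a, δ.hom.app (op V) a = G.obj.map g.op s) ∧ g.left v = p) :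
    ∃ a, δ.hom.app (op U) a = s := by
  haveI : Mono δ.hom := inferInstanceAs (Mono ((sheafToPresheaf _ _).map δ))
  have hinj : ∀ W, Function.Injective (δ.hom.app W) := fun W =>
    (AddCommGrpCat.mono_iff_injective _).1 inferInstance
  let R := Presheaf.imageSieve δ.hom (U := U) s
  have hR : R ∈ Y.smallEtaleTopology U := EtPtsLib.covering_of_points _ fun p => by
    obtain ⟨V, g, v, hg, hv⟩ := h p
    exact ⟨V, g, v, hg, hv⟩
  let x : Presieve.FamilyOfElements (F.obj ⋙ forget AddCommGrpCat.{u + 1}) R.arrows := fun V g hg => hg.choose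
  have hx : x.Compatible := fun V₁ V₂ Z g₁ g₂ f₁ f₂ h₁ h₂ e => hinj (op Z) <| by
    show δ.hom.app (op Z) (F.obj.map g₁.op h₁.choose) = δ.hom.app (op Z) (F.obj.map g₂.op h₂.choose)
    refine (NatTrans.naturality_apply δ.hom g₁.op _).trans (Eq.trans ?_ (NatTrans.naturality_apply δ.hom g₂.op _).symm)
    have e₁ : δ.hom.app (op V₁) h₁.choose = G.obj.map f₁.op s := h₁.choose_spec
    have e₂ : δ.hom.app (op V₂) h₂.choose = G.obj.map f₂.op s := h₂.choose_spec
    rw [e₁, e₂, ← Functor.map_comp_apply, ← Functor.map_comp_apply, ← op_comp, ← op_comp, e]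
  have hsh := ((isSheaf_iff_isSheaf_of_type _ _).1
    ((sheafCompose Y.smallEtaleTopology (forget AddCommGrpCat.{u + 1})).obj F).property) _ hR
  refine ⟨hsh.amalgamate x hx, eq_of_map_eq G _ _ fun p => ?_⟩
  obtain ⟨V, g, v, hg, hv⟩ := h p
  refine ⟨V, g, v, ?_, hv⟩
  rw [← NatTrans.naturality_apply δ.hom g.op]
  have := hsh.valid_glue hx g hg
  exact (congrArg (δ.hom.app (op V)) this).trans hg.choose_spec

variable {ι : Type u} [Preorder ι] [Nonempty ι] [IsDirected ι (· ≤ ·)] {S : Sys ι}

variable {P : ShortComplex (EtCoh.Ab S.c.pt)}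

/-- The points of a pullback to a stage near which a section on the limit lifts at that stage. -/
def liftable (P : ShortComplex (EtCoh.Ab S.c.pt)) {i j : ι} (h : i ≤ j) (W : (S.X i).Etale)
    (q : EtCoh.sect P.X₃ ((EtCoh.bc (S.u i)).obj W)) : Set (S.at' h W).left :=
  ⋃ (V : (S.X j).Etale) (g : V ⟶ S.at' h W)
    (_ : ∃ a, P.g.hom.app (op ((EtCoh.bc (S.u j)).obj V)) a =
      P.X₃.obj.map ((EtCoh.bc (S.u j)).map g ≫ bcTo (S.pr h W) (S.pr_w h W)).op q), Set.range g.left

theorem mem_liftable {i j : ι} {h : i ≤ j} {W : (S.X i).Etale} {q : EtCoh.sect P.X₃ ((EtCoh.bc (S.u i)).obj W)}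
    {y : (S.at' h W).left} :
    y ∈ liftable P h W q ↔ ∃ (V : (S.X j).Etale) (g : V ⟶ S.at' h W) (v : V.left),
      (∃ a, P.g.hom.app (op ((EtCoh.bc (S.u j)).obj V)) a =
        P.X₃.obj.map ((EtCoh.bc (S.u j)).map g ≫ bcTo (S.pr h W) (S.pr_w h W)).op q) ∧ g.left v = y := by
  constructor
  · intro hy
    obtain ⟨V, hV⟩ := Set.mem_iUnion.1 hy
    obtain ⟨g, hg⟩ := Set.mem_iUnion.1 hV
    obtain ⟨e, v, hv⟩ := Set.mem_iUnion.1 hg
    exact ⟨V, g, v, e, hv⟩
  · rintro ⟨V, g, v, e, hv⟩
    exact Set.mem_iUnion.2 ⟨V, Set.mem_iUnion.2 ⟨g, Set.mem_iUnion.2 ⟨e, v, hv⟩⟩⟩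

theorem liftable_mono {i j m : ι} {h : i ≤ j} (h' : j ≤ m) {W : (S.X i).Etale}
    {q : EtCoh.sect P.X₃ ((EtCoh.bc (S.u i)).obj W)} {y : (S.at' (h.trans h') W).left}
    (hy : atMap S h h' W y ∈ liftable P h W q) : y ∈ liftable P (h.trans h') W q := by
  obtain ⟨V, g, v, ⟨a, ha⟩, hv⟩ := mem_liftable.1 hy
  obtain ⟨z, -, hz⟩ := Scheme.Pullback.exists_preimage_pullback (f := g.left) (g := atMap S h h' W) v y hv
  have hgw : g.left ≫ (S.at' h W).hom = V.hom := MorphismProperty.Over.w g
  have hm : (S.pr h' V ≫ g.left ≫ S.pr h W) ≫ W.hom = (S.at' h' V).hom ≫ S.t (h.trans h') := by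
    refine comp_w (h := h) ?_ (S.pr_w h' V)
    rw [Category.assoc, S.pr_w, ← Category.assoc, hgw]
  let g' : S.at' h' V ⟶ S.at' (h.trans h') W := mkHom _ hm
  let n : pullback g.left (atMap S h h' W) ⟶ (S.at' h' V).left :=
    pullback.lift (pullback.fst _ _) (pullback.snd _ _ ≫ (S.at' (h.trans h') W).hom) (by
      rw [← hgw, ← Category.assoc, pullback.condition, Category.assoc, atMap_w, Category.assoc])
  refine mem_liftable.2 ⟨S.at' h' V, g', n z,
    ⟨P.X₂.obj.map (bcTo (S.pr h' V) (S.pr_w h' V)).op a, ?_⟩, ?_⟩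
  · refine (NatTrans.naturality_apply P.g.hom _ a).trans ?_
    rw [ha, ← Functor.map_comp_apply, ← op_comp]
    congr 3
    refine congrArg Quiver.Hom.op (bc_ext _ ?_)
    show ((bcTo (S.pr h' V) _).left ≫ ((EtCoh.bc (S.u j)).map g).left ≫ (bcTo (S.pr h W) _).left) ≫ _ =
      (((EtCoh.bc (S.u m)).map g').left ≫ (bcTo (S.pr (h.trans h') W) _).left) ≫ _
    simp only [Category.assoc]
    rw [bcTo_left_fst, bcTo_left_fst, reassoc_of% bc_map_fst (S.u j) g, reassoc_of% bc_map_fst (S.u m) g',
      reassoc_of% bcTo_left_fst (S.pr h' V) (S.pr_w h' V)]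
    exact congrArg (_ ≫ ·) (pullback.lift_fst _ _ hm).symm
  · rw [← hz]
    refine (Scheme.Hom.comp_apply _ _ _).symm.trans (hom_congr_apply ?_ z)
    apply pullback.hom_ext
    · show (n ≫ g'.left) ≫ S.pr (h.trans h') W = pullback.snd g.left (atMap S h h' W) ≫ S.pr (h.trans h') W
      rw [Category.assoc, show g'.left ≫ S.pr (h.trans h') W = _ from pullback.lift_fst _ _ hm,
        reassoc_of% (pullback.lift_fst _ _ _ : n ≫ S.pr h' V = _), ← atMap_pr h h' W, pullback.condition_assoc]
    · show (n ≫ g'.left) ≫ (S.at' (h.trans h') W).hom = pullback.snd g.left (atMap S h h' W) ≫ (S.at' (h.trans h') W).hom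
      rw [Category.assoc, MorphismProperty.Over.w g']
      exact pullback.lift_snd _ _ _

theorem exists_liftable (hP : P.ShortExact) {i : ι} (W : (S.X i).Etale) [CompactSpace W.left]
    [QuasiSeparatedSpace W.left] (q : EtCoh.sect P.X₃ ((EtCoh.bc (S.u i)).obj W)) :
    ∃ (j : ι) (h : i ≤ j), ∀ y, y ∈ liftable P h W q := by
  classical
  haveI := hP.epi_g
  haveI : Sheaf.IsLocallySurjective P.g :=
    (Sheaf.isLocallySurjective_iff_epi' AddCommGrpCat.{u + 1} P.g).2 inferInstance
  have hdata : ∀ x : ((EtCoh.bc (S.u i)).obj W).left, ∃ (l : ι) (h : i ≤ l), atPt h x ∈ liftable P h W q := by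
    intro x
    obtain ⟨V, g, ⟨a, ha⟩, v, hv⟩ := CohColim.exists_mem_of_covering _
      (Presheaf.imageSieve_mem S.c.pt.smallEtaleTopology P.g.hom (U := op ((EtCoh.bc (S.u i)).obj W)) q) x
    obtain ⟨l, hl, U, _, m, hm, b, p, hp, hb⟩ := exists_refine S W g v
    refine ⟨l, hl, mem_liftable.2 ⟨U, mkHom m hm, pullback.fst U.hom (S.u l) p,
      ⟨P.X₂.obj.map b.op a, ?_⟩, ?_⟩⟩
    · refine (NatTrans.naturality_apply P.g.hom _ a).trans ?_
      refine (congrArg (P.X₃.obj.map b.op) ha).trans ?_
      rw [← Functor.map_comp_apply, ← op_comp, hb]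
      congr 3
      refine congrArg Quiver.Hom.op (bc_ext _ ?_)
      show _ = (((EtCoh.bc (S.u l)).map (mkHom m hm)).left ≫ (bcTo (S.pr hl W) _).left) ≫ _
      rw [Category.assoc, bcTo_left_fst, bcTo_left_fst, reassoc_of% bc_map_fst (S.u l) (mkHom m hm)]
      exact congrArg (_ ≫ ·) (pullback.lift_fst _ _ hm).symm
    · have hx : (bcTo m hm).left p = x := by
        rw [← hb, ← hv, ← hp]
        exact Scheme.Hom.comp_apply b.left g.left p
      rw [atPt, ← hx]
      refine (Scheme.Hom.comp_apply _ _ _).symm.trans (Eq.trans (hom_congr_apply ?_ p) (Scheme.Hom.comp_apply _ _ _))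
      rw [toAt_fst]
      apply pullback.hom_ext
      · simp [mkHom, bcTo, Sys.pr]
      · simp [mkHom, bcTo]
        exact pullback.condition
  choose l hl hmem using hdata
  haveI := (S.qcqs_bc W).1
  have hopen : ∀ {j : ι} (h : i ≤ j), IsOpen (liftable P h W q) := fun h =>
    isOpen_iUnion fun V => isOpen_iUnion fun g => isOpen_iUnion fun _ => by
      haveI := EtPtsLib.etale_left g
      exact g.left.isOpenMap.isOpen_range
  obtain ⟨T, hT⟩ := isCompact_univ.elim_finite_subcover
    (fun x => (toAt S (hl x) W ≫ pullback.fst (S.at' (hl x) W).hom (S.u (l x))) ⁻¹' liftable P (hl x) W q)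
    (fun x => (hopen (hl x)).preimage (Scheme.Hom.continuous _))
    (fun x _ => Set.mem_iUnion.2 ⟨x, hmem x⟩)
  obtain ⟨m, hm⟩ := Finset.exists_le (insert i (T.image l))
  have him : i ≤ m := hm i (Finset.mem_insert_self _ _)
  obtain ⟨j, hj, hall⟩ := exists_atMap_mem him W _ (hopen him) fun y => by
    obtain ⟨x, hxT, hy⟩ := Set.mem_iUnion₂.1 (hT (Set.mem_univ y))
    have h' : l x ≤ m := hm _ (Finset.mem_insert_of_mem (Finset.mem_image_of_mem l hxT))
    refine liftable_mono (h := hl x) h' ?_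
    rw [atMap_atPt]
    exact hy
  exact ⟨j, him.trans hj, fun y => liftable_mono hj (hall y)⟩

/-- Sections over the pullback of a qcqs étale scheme of a stage lift. -/
theorem surjective_sections (hP : P.ShortExact) (hA : PushAcyclic S P.X₁) {i : ι} (W : (S.X i).Etale)
    [CompactSpace W.left] [QuasiSeparatedSpace W.left] :
    Function.Surjective (P.g.hom.app (op ((EtCoh.bc (S.u i)).obj W))) := by
  intro q
  obtain ⟨j, h, hall⟩ := exists_liftable hP W q
  haveI := hP.mono_f
  haveI : PreservesLimitsOfSize.{0, 0} (EtCoh.push (S.u j)) :=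
    (EtCoh.pullPushAdj (S.u j)).rightAdjoint_preservesLimits
  haveI : PreservesFiniteLimits (EtCoh.push (S.u j)) := PreservesLimitsOfSize.preservesFiniteLimits _
  let f' := (EtCoh.push (S.u j)).map P.f
  haveI : Mono f' := inferInstance
  let P' : ShortComplex (EtCoh.Ab (S.X j)) := ShortComplex.mk f' (cokernel.π f') (cokernel.condition _)
  have hP' : P'.ShortExact := { exact := ShortComplex.exact_cokernel f', mono_f := ‹Mono f'› }
  let δ : cokernel f' ⟶ (EtCoh.push (S.u j)).obj P.X₃ := cokernel.desc f' ((EtCoh.push (S.u j)).map P.g)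
    (by rw [← Functor.map_comp, P.zero, Functor.map_zero])
  haveI : Mono δ :=
    (hP.exact.map_of_mono_of_preservesKernel (EtCoh.push (S.u j)) inferInstance inferInstance).mono_cokernelDesc
  haveI := (S.qcqs_at' h W).1
  haveI := (S.qcqs_at' h W).2
  obtain ⟨c, hc⟩ := exists_preimage_of_locally δ (U := S.at' h W)
    (P.X₃.obj.map (bcTo (S.pr h W) (S.pr_w h W)).op q) fun y => by
      obtain ⟨V, g, v, ⟨a, ha⟩, hv⟩ := mem_liftable.1 (hall y)
      refine ⟨V, g, v, ⟨(cokernel.π f').hom.app (op V) a, ?_⟩, hv⟩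
      refine (congr(($(cokernel.π_desc f' ((EtCoh.push (S.u j)).map P.g)
        (by rw [← Functor.map_comp, P.zero, Functor.map_zero]))).hom.app (op V) a)).trans ?_
      refine ha.trans ?_
      rw [op_comp, Functor.map_comp_apply]
      rfl
  obtain ⟨b, hb⟩ := surjective_at (S.at' h W) hP' (hA j (S.at' h W) inferInstance inferInstance 0) c
  let back := bcSpInv (S.t h) (S.u j) (S.u i) (S.u_t h) W
  have hback : back ≫ bcTo (S.pr h W) (S.pr_w h W) = 𝟙 _ := by
    refine bc_ext _ ?_
    show (back.left ≫ _) ≫ _ = 𝟙 _ ≫ _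
    rw [Category.assoc, bcTo_left_fst, ← Category.assoc, bcSpInv_fst, pullback.lift_fst, Category.id_comp]
  refine ⟨P.X₂.obj.map back.op b, (NatTrans.naturality_apply P.g.hom _ b).trans ?_⟩
  have hb' : P.g.hom.app (op ((EtCoh.bc (S.u j)).obj (S.at' h W))) b =
      P.X₃.obj.map (bcTo (S.pr h W) (S.pr_w h W)).op q := by
    rw [← hc]
    refine Eq.trans ?_ (congrArg (δ.hom.app (op (S.at' h W))) hb)
    exact (congr(($(cokernel.π_desc f' ((EtCoh.push (S.u j)).map P.g)
      (by rw [← Functor.map_comp, P.zero, Functor.map_zero]))).hom.app (op (S.at' h W)) b)).symm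
  refine (congrArg (P.X₃.obj.map back.op) hb').trans ?_
  rw [← Functor.map_comp_apply, ← op_comp, hback, op_id, CategoryTheory.Functor.map_id]
  rfl

/-- The direct image to a stage of a short exact sequence with `PushAcyclic` kernel is short exact. -/
theorem shortExact_push (hP : P.ShortExact) (hA : PushAcyclic S P.X₁) (k : ι) :
    (P.map (EtCoh.push (S.u k))).ShortExact := by
  haveI : PreservesLimitsOfSize.{0, 0} (EtCoh.push (S.u k)) :=
    (EtCoh.pullPushAdj (S.u k)).rightAdjoint_preservesLimits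
  haveI : PreservesFiniteLimits (EtCoh.push (S.u k)) := PreservesLimitsOfSize.preservesFiniteLimits _
  haveI := hP.mono_f
  haveI : Sheaf.IsLocallySurjective ((EtCoh.push (S.u k)).map P.g) := ⟨fun {U} t => by
    refine EtPtsLib.covering_of_points _ fun p => ?_
    obtain ⟨_, ⟨(O : U.left.Opens), hO, rfl⟩, hp, -⟩ :=
      U.left.isBasis_affineOpens.exists_subset_of_mem_open (Set.mem_univ p) isOpen_univ
    haveI : IsAffine O.toScheme := hO
    haveI : CompactSpace (EtPtsLib.openSub U O).left := inferInstanceAs (CompactSpace ↥O.toScheme)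
    haveI : QuasiSeparatedSpace (EtPtsLib.openSub U O).left := inferInstanceAs (QuasiSeparatedSpace ↥O.toScheme)
    exact ⟨EtPtsLib.openSub U O, EtPtsLib.openIncl U O, ⟨p, hp⟩,
      surjective_sections hP hA (EtPtsLib.openSub U O) _, rfl⟩⟩
  haveI : Epi ((EtCoh.push (S.u k)).map P.g) :=
    (Sheaf.isLocallySurjective_iff_epi' AddCommGrpCat.{u + 1} _).1 inferInstance
  exact { exact := hP.exact.map_of_mono_of_preservesKernel (EtCoh.push (S.u k)) inferInstance inferInstance,
          mono_f := inferInstanceAs (Mono ((EtCoh.push (S.u k)).map P.f)), epi_g := ‹Epi ((EtCoh.push (S.u k)).map P.g)› }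

/-- The quotient of an injective sheaf by a `PushAcyclic` sheaf is `PushAcyclic`. -/
theorem pushAcyclic_quotient (hP : P.ShortExact) [Injective P.X₂] (hA : PushAcyclic S P.X₁) :
    PushAcyclic S P.X₃ := by
  intro k W hWc hWq n
  haveI : PreservesFiniteLimits (EtCoh.pull (S.u k)) := S0101.result _
  haveI : Injective ((EtCoh.push (S.u k)).obj P.X₂) := Injective.injective_of_adjoint (EtCoh.pullPushAdj (S.u k)) _
  have hS := shortExact_restrTo W (shortExact_push hP hA k)
  haveI := injective_restrTo W ((EtCoh.push (S.u k)).obj P.X₂)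
  refine subsingleton_of_forall_eq 0 fun y => ?_
  obtain ⟨x, hx⟩ := Ext.covariant_sequence_exact₃ _ hS y (rfl : n + 1 + 1 = n + 1 + 1)
    (@Subsingleton.elim _ (hA k W hWc hWq (n + 1)) _ _)
  rw [← hx, Ext.eq_zero_of_injective (I := (restrTo W).obj ((EtCoh.push (S.u k)).obj P.X₂)) x, Ext.zero_comp]

/-- A `PushAcyclic` sheaf is acyclic. -/
theorem subsingleton_H : ∀ (n : ℕ) {E : EtCoh.Ab S.c.pt}, PushAcyclic S E →
    Subsingleton (EtCoh.H S.c.pt E (n + 1)) := by
  intro n
  induction n with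
  | zero =>
    intro E hA
    let P := ShortComplex.mk (Injective.ι E) (cokernel.π (Injective.ι E)) (cokernel.condition _)
    have hP : P.ShortExact := { exact := ShortComplex.exact_cokernel _, mono_f := Injective.ι_mono E }
    haveI : Injective P.X₂ := inferInstanceAs (Injective (Injective.under E))
    refine subsingleton_of_forall_eq 0 fun ξ => ?_
    obtain ⟨y, rfl⟩ := Ext.covariant_sequence_exact₁ _ hP ξ (Ext.eq_zero_of_injective _) (zero_add 1)
    let hT := EtCore.topIsTerminal S.c.pt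
    obtain ⟨k⟩ := ‹Nonempty ι›
    haveI : CompactSpace (EtCoh.top (S.X k)).left := S.qc (op k)
    haveI : QuasiSeparatedSpace (EtCoh.top (S.X k)).left := S.qs (op k)
    let e := EtCore.bcTopIso (S.u k)
    obtain ⟨b, hb⟩ := surjective_sections hP hA (EtCoh.top (S.X k))
      (P.X₃.obj.map e.hom.op (Sheaf.H.equiv₀ P.X₃ hT y))
    have hb' : P.g.hom.app (op (EtCoh.top S.c.pt)) (P.X₂.obj.map e.inv.op b) = Sheaf.H.equiv₀ P.X₃ hT y := by
      refine (NatTrans.naturality_apply P.g.hom _ b).trans ?_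
      rw [hb, ← Functor.map_comp_apply, ← op_comp, Iso.inv_hom_id, op_id, CategoryTheory.Functor.map_id]
      rfl
    let w := (Sheaf.H.equiv₀ P.X₂ hT).symm (P.X₂.obj.map e.inv.op b)
    have hw : Sheaf.H.map P.g 0 w = y := by
      apply (Sheaf.H.equiv₀ P.X₃ hT).injective
      refine (Sheaf.H.equiv₀_naturality hT P.g w).symm.trans ?_
      rw [AddEquiv.apply_symm_apply]
      exact hb'
    rw [← hw]
    show (Ext.comp w (Ext.mk₀ P.g) (add_zero 0)).comp hP.extClass _ = 0
    rw [Ext.comp_assoc_of_second_deg_zero, hP.comp_extClass, Ext.comp_zero]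
  | succ n ih =>
    intro E hA
    let P := ShortComplex.mk (Injective.ι E) (cokernel.π (Injective.ι E)) (cokernel.condition _)
    have hP : P.ShortExact := { exact := ShortComplex.exact_cokernel _, mono_f := Injective.ι_mono E }
    haveI : Injective P.X₂ := inferInstanceAs (Injective (Injective.under E))
    refine subsingleton_of_forall_eq 0 fun ξ => ?_
    obtain ⟨y, rfl⟩ := Ext.covariant_sequence_exact₁ _ hP ξ (Ext.eq_zero_of_injective _) (rfl : n + 1 + 1 = _)
    haveI := ih (pushAcyclic_quotient hP hA)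
    rw [Subsingleton.elim y 0, Ext.zero_comp]

/-- The colimit of a system of injective sheaves is acyclic. -/
theorem subsingleton_H_of_injective {M : SysSh S} {E : EtCoh.Ab S.c.pt} {κ : CoconeSh M E} (hκ : IsColim κ)
    (hI : ∀ i, Injective (M.F i)) (n : ℕ) : Subsingleton (EtCoh.H S.c.pt E (n + 1)) :=
  subsingleton_H n (pushAcyclic_of_injective κ hκ hI)

end Groth.Agent.EtLimLib
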