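import Groth.Prelude.Def_EtLim
import Groth.Agent.AffLim.Points
import Mathlib.AlgebraicGeometry.AffineTransitionLimit
import Mathlib.RingTheory.Smooth.NoetherianDescent

/-!
# The stages of a limit of schemes with affine transition maps, and their étale schemes

`Sys` packages an inverse system of qcqs schemes with affine transition maps over a directed
preordered set together with a limit. `bcTo` is the map `(U over X_l) ×_{X_l} X → (W over X_k) ×_{X_k} X`
induced by `U → W`; morphisms and étale neighbourhoods on the limit come from a stage.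
-/

set_option autoImplicit false
set_option linter.unusedSectionVars false
set_option linter.style.haveILetI false
set_option backward.isDefEq.respectTransparency false
set_option backward.isDefEq.respectTransparency.types false
set_option maxHeartbeats 1000000

universe u

open CategoryTheory CategoryTheory.Limits AlgebraicGeometry Opposite

noncomputable section

namespace Groth.Agent.EtLimLib

/-- An inverse system of qcqs schemes with affine transition maps and a limit of it. -/
structure Sys (ι : Type u) [Preorder ι] where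
  Xs : ιᵒᵖ ⥤ Scheme.{u}
  aff : ∀ ⦃a b : ιᵒᵖ⦄ (h : a ⟶ b), IsAffineHom (Xs.map h)
  qc : ∀ a, CompactSpace ↥(Xs.obj a)
  qs : ∀ a, QuasiSeparatedSpace ↥(Xs.obj a)
  c : Cone Xs
  hc : IsLimit c

variable {ι : Type u} [Preorder ι] [Nonempty ι] [IsDirected ι (· ≤ ·)] (S : Sys ι)

/-- The stage. -/
abbrev Sys.X (k : ι) : Scheme.{u} := S.Xs.obj (op k)

/-- The transition map. -/
abbrev Sys.t {k l : ι} (h : k ≤ l) : S.X l ⟶ S.X k := S.Xs.map (homOfLE h).op

/-- The projection. -/
abbrev Sys.u (k : ι) : S.c.pt ⟶ S.X k := S.c.π.app (op k)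

theorem Sys.u_t {k l : ι} (h : k ≤ l) : S.u l ≫ S.t h = S.u k := S.c.w (homOfLE h).op

theorem Sys.t_t {k l m : ι} (h : k ≤ l) (h' : l ≤ m) : S.t h' ≫ S.t h = S.t (h.trans h') := by
  show S.Xs.map _ ≫ S.Xs.map _ = _
  rw [← Functor.map_comp]
  rfl

theorem Sys.map_eq {a b : ιᵒᵖ} (f : a ⟶ b) : S.Xs.map f = S.t (leOfHom f.unop) :=
  congrArg S.Xs.map (Subsingleton.elim _ _)

theorem Sys.qc_pt : CompactSpace ↥S.c.pt := by
  haveI := S.qc
  haveI : ∀ {a b : ιᵒᵖ} (h : a ⟶ b), IsAffineHom (S.Xs.map h) := fun h => S.aff h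
  exact Scheme.compactSpace_of_isLimit S.Xs S.c S.hc

theorem Sys.isAffineHom_u (k : ι) : IsAffineHom (S.u k) := by
  haveI : ∀ {a b : ιᵒᵖ} (h : a ⟶ b), IsAffineHom (S.Xs.map h) := fun h => S.aff h
  exact isAffineHom_π_app S.Xs S.c S.hc (op k)

theorem Sys.qs_pt : QuasiSeparatedSpace ↥S.c.pt := by
  obtain ⟨k⟩ := ‹Nonempty ι›
  haveI := S.qs (op k)
  haveI := S.isAffineHom_u k
  exact quasiSeparatedSpace_of_quasiSeparated (S.u k)

variable {S}

/-- The map of base changes to the limit induced by a map of étale schemes of two stages. -/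
def bcTo {k l : ι} {h : k ≤ l} {U : (S.X l).Etale} {W : (S.X k).Etale} (m : U.left ⟶ W.left)
    (hm : m ≫ W.hom = U.hom ≫ S.t h) : (EtCoh.bc (S.u l)).obj U ⟶ (EtCoh.bc (S.u k)).obj W :=
  MorphismProperty.Over.homMk (pullback.map U.hom (S.u l) W.hom (S.u k) m (𝟙 _) (S.t h) hm.symm
    (by rw [Category.id_comp]; exact S.u_t h)) (by
      show pullback.map _ _ _ _ _ _ _ _ _ ≫ pullback.snd _ _ = pullback.snd U.hom (S.u l)
      simp)

theorem bcTo_left_fst {k l : ι} {h : k ≤ l} {U : (S.X l).Etale} {W : (S.X k).Etale} (m : U.left ⟶ W.left)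
    (hm : m ≫ W.hom = U.hom ≫ S.t h) :
    (bcTo m hm).left ≫ pullback.fst W.hom (S.u k) = pullback.fst U.hom (S.u l) ≫ m := by
  exact pullback.lift_fst _ _ _

/-- Two maps to a base change agree if they agree after projection. -/
theorem bc_ext {A B : Scheme.{u}} (f : A ⟶ B) {V : B.Etale} {U : A.Etale} {a b : U ⟶ (EtCoh.bc f).obj V}
    (h : a.left ≫ pullback.fst V.hom f = b.left ≫ pullback.fst V.hom f) : a = b :=
  MorphismProperty.Over.Hom.ext
    (pullback.hom_ext h ((MorphismProperty.Over.w a).trans (MorphismProperty.Over.w b).symm))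

variable (S)

/-- The pullback of a scheme over a stage to a later stage. -/
abbrev Sys.at' {k l : ι} (h : k ≤ l) (W : (S.X k).Etale) : (S.X l).Etale := (EtCoh.bc (S.t h)).obj W

/-- The projection of the pullback to a later stage. -/
abbrev Sys.pr {k l : ι} (h : k ≤ l) (W : (S.X k).Etale) : (S.at' h W).left ⟶ W.left :=
  pullback.fst W.hom (S.t h)

theorem Sys.pr_w {k l : ι} (h : k ≤ l) (W : (S.X k).Etale) : S.pr h W ≫ W.hom = (S.at' h W).hom ≫ S.t h :=
  pullback.condition

theorem Sys.qcqs_at' {k l : ι} (h : k ≤ l) (W : (S.X k).Etale) [CompactSpace W.left] [QuasiSeparatedSpace W.left] :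
    CompactSpace (S.at' h W).left ∧ QuasiSeparatedSpace (S.at' h W).left := by
  haveI := S.aff (homOfLE h).op
  haveI : IsAffineHom (S.pr h W) := MorphismProperty.pullback_fst (P := @IsAffineHom) _ _ inferInstance
  exact ⟨QuasiCompact.compactSpace_of_compactSpace (S.pr h W), quasiSeparatedSpace_of_quasiSeparated (S.pr h W)⟩

theorem Sys.qcqs_bc {k : ι} (W : (S.X k).Etale) [CompactSpace W.left] [QuasiSeparatedSpace W.left] :
    CompactSpace ((EtCoh.bc (S.u k)).obj W).left ∧ QuasiSeparatedSpace ((EtCoh.bc (S.u k)).obj W).left := by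
  haveI := S.isAffineHom_u k
  haveI : CompactSpace ↥((𝟭 Scheme).obj W.left) := ‹CompactSpace ↥W.left›
  haveI : QuasiSeparatedSpace ↥((𝟭 Scheme).obj W.left) := ‹QuasiSeparatedSpace ↥W.left›
  haveI : IsAffineHom (pullback.fst W.hom (S.u k)) :=
    MorphismProperty.pullback_fst (P := @IsAffineHom) _ _ inferInstance
  exact ⟨QuasiCompact.compactSpace_of_compactSpace (pullback.fst W.hom (S.u k)),
    quasiSeparatedSpace_of_quasiSeparated (pullback.fst W.hom (S.u k))⟩

/-- The object `l` over `op k`, for `k ≤ l`. -/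
abbrev overIdx {k l : ι} (h : k ≤ l) : Over (op k) := Over.mk (homOfLE h).op

/-- A map from the limit of `U` to a scheme locally of finite presentation over a stage comes from a stage. -/
theorem exists_stage_hom {T Y : Scheme.{u}} {k l : ι} (h : k ≤ l) (U : (S.X l).Etale) [CompactSpace U.left]
    [QuasiSeparatedSpace U.left] (p : Y ⟶ T) [LocallyOfFinitePresentation p] (q : S.X k ⟶ T)
    (a : ((EtCoh.bc (S.u l)).obj U).left ⟶ Y) (ha : a ≫ p = pullback.snd U.hom (S.u l) ≫ S.u k ≫ q) :
    ∃ (l' : ι) (h' : l ≤ l') (m : (S.at' h' U).left ⟶ Y),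
      m ≫ p = (S.at' h' U).hom ≫ S.t (h.trans h') ≫ q ∧
      pullback.map U.hom (S.u l) U.hom (S.t h') (𝟙 _) (S.u l') (𝟙 _) (by simp)
        (by rw [Category.comp_id]; exact (S.u_t h').symm) ≫ m = a := by
  haveI : ∀ {a b : ιᵒᵖ} (f : a ⟶ b), IsAffineHom (S.Xs.map f) := fun f => S.aff f
  haveI : CompactSpace ↥((𝟭 Scheme).obj U.left) := ‹CompactSpace ↥U.left›
  haveI : QuasiSeparatedSpace ↥((𝟭 Scheme).obj U.left) := ‹QuasiSeparatedSpace ↥U.left›
  let D := AffLim.baseChange S.Xs (op l) U.hom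
  let t : D ⟶ (Functor.const _).obj T :=
    { app := fun j => pullback.snd U.hom (S.Xs.map j.hom) ≫ S.Xs.map j.hom ≫ S.t h ≫ q
      naturality := fun i j f => by
        simp only [D, Functor.const_obj_map, Category.comp_id, AffLim.baseChange_map, pullback.lift_snd_assoc,
          pullback.map, Category.assoc]
        rw [← Functor.map_comp_assoc, Over.w f]
        exact congrArg (fun w => _ ≫ _ ≫ _ ≫ w) (Category.comp_id q).symm }
  let cc := AffLim.baseChangeCone S.Xs S.c (op l) U.hom
  haveI : ∀ j, QuasiSeparatedSpace ↥(D.obj j) := fun j => by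
    haveI : IsAffineHom (pullback.fst U.hom (S.Xs.map j.hom)) :=
      MorphismProperty.pullback_fst (P := @IsAffineHom) _ _ inferInstance
    exact quasiSeparatedSpace_of_quasiSeparated (pullback.fst U.hom (S.Xs.map j.hom))
  haveI : ∀ j, CompactSpace ↥(D.obj j) := fun j => AffLim.compactSpace_baseChange S.Xs (op l) U.hom j
  obtain ⟨hcc⟩ := AffLim.nonempty_isLimit_baseChangeCone S.Xs S.c S.hc (op l) U.hom
  obtain ⟨j, g, hg, hgf⟩ := Scheme.exists_π_app_comp_eq_of_locallyOfFinitePresentation D t p cc hcc a (by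
    refine NatTrans.ext (funext fun j => ?_)
    show cc.π.app j ≫ t.app j = a ≫ p
    rw [ha]
    simp only [cc, t, AffLim.baseChangeCone_π_app, pullback.map, pullback.lift_snd_assoc, Category.assoc]
    rw [← Category.assoc (S.c.π.app j.left), S.c.w j.hom, ← Category.assoc (S.c.π.app (op l))]
    exact congrArg (fun w => pullback.snd U.hom (S.u l) ≫ w ≫ q) (S.u_t h))
  obtain ⟨⟨l'⟩, ⟨⟨⟩⟩, f⟩ := j
  have h' : l ≤ l' := leOfHom f.unop
  obtain rfl : f = (homOfLE h').op := Subsingleton.elim _ _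
  refine ⟨l', h', g, hgf.trans ?_, hg⟩
  show pullback.snd _ _ ≫ S.t h' ≫ S.t h ≫ q = _
  rw [← Category.assoc (S.t h'), S.t_t]
  rfl

end Groth.Agent.EtLimLib
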