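import Groth.Prelude.Def_EtShriek2
import Groth.Agent.EtPtsLib.OpenShriek
import Groth.Agent.EtPtsLib.Conditions
import Groth.Agent.EtJCont.Basic
import Groth.Agent.S0648

/-!
# Sections and cohomology of the restriction to an étale scheme
-/

set_option autoImplicit false
set_option linter.unusedSectionVars false
set_option linter.style.haveILetI false
set_option backward.isDefEq.respectTransparency false
set_option backward.isDefEq.respectTransparency.types false
set_option maxHeartbeats 1000000

universe u

open CategoryTheory CategoryTheory.Limits AlgebraicGeometry Opposite Abelian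

noncomputable section

namespace Groth.Agent.EtLimLib

variable {X : Scheme.{u}}

/-- Sections over the whole scheme lift if the first cohomology of the kernel vanishes. -/
theorem surjective_top {P : ShortComplex (EtCoh.Ab X)} (hP : P.ShortExact)
    (h : Subsingleton (EtCoh.H X P.X₁ 1)) : Function.Surjective (P.g.hom.app (op (EtCoh.top X))) := by
  intro q
  let hT := EtCore.topIsTerminal X
  let y := (Sheaf.H.equiv₀ P.X₃ hT).symm q
  obtain ⟨x, hx⟩ := Ext.covariant_sequence_exact₃ _ hP y (zero_add 1) (Subsingleton.elim _ _)
  refine ⟨Sheaf.H.equiv₀ P.X₂ hT x, ?_⟩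
  refine (Sheaf.H.equiv₀_naturality hT P.g x).trans ?_
  rw [show Sheaf.H.map P.g 0 x = y from hx]
  exact AddEquiv.apply_symm_apply _ _

variable (W : X.Etale)

/-- The structure map. -/
abbrev strMap : W.left ⟶ X := W.hom

instance etale_hom : Etale (strMap W) := W.prop

instance jCont_hom : EtShriek.JCont (strMap W) := EtJCont.jCont (strMap W)

/-- Restriction of sheaves to an étale scheme. -/
abbrev restrTo : EtCoh.Ab X ⥤ EtCoh.Ab W.left :=
  EtShriek.restrAlong (strMap W)

instance restrTo_additive : (restrTo W).Additive where

theorem restrTo_preservesFiniteLimits : PreservesFiniteLimits (restrTo W) := by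
  haveI : PreservesLimitsOfSize.{0, 0} (restrTo W) :=
    (EtShriek.extZeroAdj (strMap W)).rightAdjoint_preservesLimits
  exact PreservesLimitsOfSize.preservesFiniteLimits _

theorem restrTo_preservesFiniteColimits : PreservesFiniteColimits (restrTo W) := by
  haveI : PreservesColimitsOfSize.{0, 0} (restrTo W) :=
    (EtPtsLib.restrPushAdj (strMap W)).leftAdjoint_preservesColimits
  exact PreservesColimitsOfSize.preservesFiniteColimits _

theorem shortExact_restrTo {P : ShortComplex (EtCoh.Ab X)} (hP : P.ShortExact) :
    (P.map (restrTo W)).ShortExact := by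
  haveI := restrTo_preservesFiniteLimits W
  haveI := restrTo_preservesFiniteColimits W
  exact hP.map_of_exact (restrTo W)

theorem injective_restrTo (I : EtCoh.Ab X) [Injective I] : Injective ((restrTo W).obj I) := by
  haveI : PreservesFiniteLimits (EtShriek.extZero (strMap W)) := S0648.result (strMap W)
  exact Injective.injective_of_adjoint (EtShriek.extZeroAdj (strMap W)) I

/-- `W` as the image of the final object of its own site. -/
def topIso :
    (EtShriek.compEtale (strMap W)).obj (EtCoh.top W.left) ≅ W :=
  MorphismProperty.Over.isoMk (Iso.refl _) (by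
    show 𝟙 _ ≫ (strMap W) = 𝟙 _ ≫ (strMap W)
    rfl)

/-- Sections over `W` lift if the first cohomology of the restriction of the kernel vanishes. -/
theorem surjective_at {P : ShortComplex (EtCoh.Ab X)} (hP : P.ShortExact)
    (h : Subsingleton (EtCoh.H W.left ((restrTo W).obj P.X₁) 1)) :
    Function.Surjective (P.g.hom.app (op W)) := by
  intro q
  obtain ⟨j, hj⟩ := surjective_top (shortExact_restrTo W hP) h (P.X₃.obj.map (topIso W).hom.op q)
  refine ⟨P.X₂.obj.map (topIso W).inv.op j, ?_⟩
  refine (congr($(P.g.hom.naturality (topIso W).inv.op) j)).trans ?_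
  show P.X₃.obj.map (topIso W).inv.op (((P.map (restrTo W)).g).hom.app _ j) = q
  refine (congrArg (fun z => P.X₃.obj.map (topIso W).inv.op z) hj).trans ?_
  show P.X₃.obj.map (topIso W).inv.op (P.X₃.obj.map (topIso W).hom.op q) = q
  rw [← Functor.map_comp_apply, ← op_comp, Iso.inv_hom_id, op_id, CategoryTheory.Functor.map_id]
  rfl

end Groth.Agent.EtLimLib
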