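import Groth.Agent.EtLimLib.Embed
import Groth.Agent.EtLimLib.RestrSect
import Groth.Agent.CohColim.EtSections

/-!
# Direct images to a stage of the colimit of a system of injective sheaves have no cohomology

`PushAcyclic E`: the direct images of `E` to the stages have no cohomology on qcqs étale schemes in
positive degrees. The colimit of a system of injective sheaves has this property.
-/

set_option autoImplicit false
set_option linter.unusedSectionVars false
set_option linter.style.haveILetI false
set_option backward.isDefEq.respectTransparency false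
set_option backward.isDefEq.respectTransparency.types false
set_option maxHeartbeats 1000000

universe u

open CategoryTheory CategoryTheory.Limits AlgebraicGeometry Opposite

noncomputable section

namespace Groth.Agent.EtLimLib

variable {ι : Type u} [Preorder ι] [Nonempty ι] [IsDirected ι (· ≤ ·)] {S : Sys ι}

/-- The direct images of `E` to the stages have no higher cohomology on qcqs étale schemes. -/
def PushAcyclic (S : Sys ι) (E : EtCoh.Ab S.c.pt) : Prop :=
  ∀ (k : ι) (W : (S.X k).Etale), CompactSpace W.left → QuasiSeparatedSpace W.left → ∀ n : ℕ,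
    Subsingleton (EtCoh.H W.left ((restrTo W).obj ((EtCoh.push (S.u k)).obj E)) (n + 1))

/-- The stages after `k`. -/
abbrev After (ι : Type u) [Preorder ι] (k : ι) : Type (u + 1) := ULift.{u + 1} {l : ι // k ≤ l}

instance (k : ι) : Nonempty (After ι k) := ⟨⟨⟨k, le_refl k⟩⟩⟩

theorem After.le {k : ι} {a b : After ι k} (f : a ⟶ b) : a.down.1 ≤ b.down.1 :=
  (leOfHom f : a ≤ b)

instance (k : ι) : IsDirected (After ι k) (· ≤ ·) where
  directed a b := by
    obtain ⟨m, hm, hm'⟩ := directed_of (α := ι) (· ≤ ·) a.down.1 b.down.1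
    exact ⟨⟨⟨m, a.down.2.trans hm⟩⟩, hm, hm'⟩

variable (M : SysSh S) (k : ι)

theorem spInv_eq_atMap {i j m : ι} (h : i ≤ j) (h' : j ≤ m) (W : (S.X i).Etale) :
    bcSpInv (S.t h) (S.t h') (S.t (h.trans h')) (S.t_t h h') W = mkHom (atMap S h h' W) (atMap_w h h' W) := by
  refine bc_ext _ ?_
  rw [bcSpInv_fst]
  refine Eq.trans ?_ (pullback.lift_fst _ _ (atMap_w h h' W)).symm
  apply pullback.hom_ext <;> simp [atMap]

/-- The direct images to the stage `k` of the later terms of a system. -/
def stageDiag : After ι k ⥤ EtCoh.Ab (S.X k) where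
  obj l := (EtCoh.push (S.t l.down.2)).obj (M.F l.down.1)
  map {a b} f := (EtCoh.push (S.t a.down.2)).map (M.φ (After.le f)) ≫
    pushJoin (S.t a.down.2) (S.t (After.le f)) (S.t b.down.2) (S.t_t _ _) _
  map_id a := by
    refine ObjectProperty.hom_ext _ (NatTrans.ext (funext fun W => ?_))
    refine ConcreteCategory.hom_ext _ _ fun s => ?_
    obtain ⟨W⟩ := W
    show (M.F a.down.1).obj.map (bcSpInv (S.t a.down.2) (S.t (le_refl _)) (S.t a.down.2) (S.t_t _ _) W).op
      ((M.φ (le_refl a.down.1)).hom.app _ s) = s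
    rw [M.refl, ← Functor.map_comp_apply, ← op_comp]
    have e : bcSpInv (S.t a.down.2) (S.t (le_refl _)) (S.t a.down.2) (S.t_t _ _) W ≫
        prSelf S a.down.1 (S.at' a.down.2 W) = 𝟙 _ := by
      refine bc_ext _ ?_
      show ((bcSpInv (S.t a.down.2) (S.t (le_refl _)) (S.t a.down.2) (S.t_t _ _) W).left ≫
        pullback.fst (S.at' a.down.2 W).hom (S.t (le_refl a.down.1))) ≫ _ = 𝟙 _ ≫ _
      rw [bcSpInv_fst, pullback.lift_fst, Category.id_comp]
    rw [e, op_id, CategoryTheory.Functor.map_id]
    rfl
  map_comp {a b c} f g := by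
    refine ObjectProperty.hom_ext _ (NatTrans.ext (funext fun W => ?_))
    refine ConcreteCategory.hom_ext _ _ fun s => ?_
    obtain ⟨W⟩ := W
    have hab : a.down.1 ≤ b.down.1 := After.le f
    have hbc : b.down.1 ≤ c.down.1 := After.le g
    show (M.F c.down.1).obj.map (bcSpInv (S.t a.down.2) (S.t (hab.trans hbc)) (S.t c.down.2) (S.t_t _ _) W).op
        (M.res (hab.trans hbc) s) =
      (M.F c.down.1).obj.map (bcSpInv (S.t b.down.2) (S.t hbc) (S.t c.down.2) (S.t_t _ _) W).op
        (M.res hbc ((M.F b.down.1).obj.map (bcSpInv (S.t a.down.2) (S.t hab) (S.t b.down.2) (S.t_t _ _) W).op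
          (M.res hab s)))
    rw [spInv_eq_atMap a.down.2 hab W, spInv_eq_atMap a.down.2 (hab.trans hbc) W, spInv_eq_atMap b.down.2 hbc W]
    refine (M.resTo_resTo (atMap S a.down.2 hab W) (atMap_w _ _ _) (atMap S b.down.2 hbc W) (atMap_w _ _ _)
      (atMap S a.down.2 (hab.trans hbc) W) (atMap_w _ _ _) ?_ s).symm
    apply pullback.hom_ext
    · simp [atMap]
    · simp [atMap, S.t_t]

variable {M} {E : EtCoh.Ab S.c.pt} (κ : CoconeSh M E)

/-- The cocone to the direct image of the target. -/
def stageCocone : Cocone (stageDiag M k) where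
  pt := (EtCoh.push (S.u k)).obj E
  ι :=
    { app := fun l => (EtCoh.push (S.t l.down.2)).map (κ.ψ l.down.1) ≫
        pushJoin (S.t l.down.2) (S.u l.down.1) (S.u k) (S.u_t _) E
      naturality := fun a b f => by
        refine ObjectProperty.hom_ext _ (NatTrans.ext (funext fun W => ?_))
        refine ConcreteCategory.hom_ext _ _ fun s => ?_
        obtain ⟨W⟩ := W
        have hab : a.down.1 ≤ b.down.1 := After.le f
        show E.obj.map (bcSpInv (S.t b.down.2) (S.u b.down.1) (S.u k) (S.u_t _) W).op
            (κ.app ((M.F b.down.1).obj.map (bcSpInv (S.t a.down.2) (S.t hab) (S.t b.down.2) (S.t_t _ _) W).op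
              (M.res hab s))) =
          E.obj.map (bcSpInv (S.t a.down.2) (S.u a.down.1) (S.u k) (S.u_t _) W).op (κ.app s)
        rw [spInv_eq_atMap a.down.2 hab W]
        show E.obj.map _ (κ.app (M.resTo (atMap S a.down.2 hab W) (atMap_w _ _ _) s)) = _
        rw [κ.app_resTo, ← Functor.map_comp_apply, ← op_comp]
        congr 3
        refine congrArg Quiver.Hom.op (bc_ext _ ?_)
        show ((bcSpInv (S.t b.down.2) (S.u b.down.1) (S.u k) (S.u_t _) W).left ≫ _) ≫ _ = _
        rw [Category.assoc, bcTo_left_fst, ← Category.assoc, bcSpInv_fst, bcSpInv_fst]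
        apply pullback.hom_ext
        · simp [atMap]
        · simp [atMap, S.u_t hab] }

theorem pushAcyclic_of_injective (hκ : IsColim κ) (hI : ∀ i, Injective (M.F i)) : PushAcyclic S E := by
  intro k W hWc hWq n
  let D := stageDiag M k
  let c := colimit.desc D (stageCocone k κ)
  have hc : ∀ (V : (S.X k).Etale), CompactSpace V.left → QuasiSeparatedSpace V.left →
      Function.Bijective (c.hom.app (op V)) := by
    intro V _ _
    haveI := CohColim.preserves_sectionsAb (S.X k) (After ι k) V
    have hcol := isColimitOfPreserves (sheafToPresheaf (S.X k).smallEtaleTopology AddCommGrpCat.{u + 1} ⋙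
      (evaluation _ AddCommGrpCat.{u + 1}).obj (op V)) (colimit.isColimit D)
    have hι : ∀ l s, c.hom.app (op V) ((colimit.ι D l).hom.app (op V) s) =
        ((stageCocone k κ).ι.app l).hom.app (op V) s := fun l s => by
      exact congr(($(colimit.ι_desc (stageCocone k κ) l)).hom.app (op V) s)
    constructor
    · refine (injective_iff_map_eq_zero (c.hom.app (op V)).hom).2 fun x hx => ?_
      obtain ⟨l, s, rfl⟩ := Concrete.isColimit_exists_rep _ hcol x
      have hx' : ((stageCocone k κ).ι.app l).hom.app (op V) s = 0 := (hι l s).symm.trans hx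
      haveI := (S.qcqs_at' l.down.2 V).1
      haveI := (S.qcqs_at' l.down.2 V).2
      have h0 : κ.app (W := S.at' l.down.2 V) s = 0 := by
        have hz : E.obj.map (bcSpInv (S.t l.down.2) (S.u l.down.1) (S.u k) (S.u_t _) V).op
            (κ.app (W := S.at' l.down.2 V) s) = 0 := hx'
        have := congrArg (E.obj.map (bcSp (S.t l.down.2) (S.u l.down.1) (S.u k) (S.u_t _) V).op) hz
        rw [← Functor.map_comp_apply, ← op_comp, bcSp_bcSpInv, op_id, CategoryTheory.Functor.map_id, map_zero] at this
        exact this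
      obtain ⟨j, hj, e⟩ := exists_res_eq_zero hκ _ _ h0
      let l' : After ι k := ⟨⟨j, l.down.2.trans hj⟩⟩
      have h1 : (D.map (homOfLE (show l ≤ l' from hj))).hom.app (op V) s = 0 := by
        show (M.F j).obj.map _ (M.res hj s) = 0
        rw [e, map_zero]
      refine Eq.trans (congr(($(colimit.w D (homOfLE (show l ≤ l' from hj)))).hom.app (op V) s)).symm ?_
      exact (congrArg ((colimit.ι D l').hom.app (op V)) h1).trans (map_zero _)
    · intro t
      obtain ⟨j, hj, s, hs⟩ := exists_app_eq hκ V t
      refine ⟨(colimit.ι D ⟨⟨j, hj⟩⟩).hom.app (op V) s, (hι _ _).trans ?_⟩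
      show E.obj.map (bcSpInv (S.t hj) (S.u j) (S.u k) (S.u_t _) V).op (κ.app s) = t
      rw [hs, ← Functor.map_comp_apply, ← op_comp]
      have e : bcSpInv (S.t hj) (S.u j) (S.u k) (S.u_t _) V ≫ bcTo (S.pr hj V) (S.pr_w hj V) = 𝟙 _ := by
        refine bc_ext _ ?_
        show ((bcSpInv (S.t hj) (S.u j) (S.u k) (S.u_t _) V).left ≫ _) ≫ _ = 𝟙 _ ≫ _
        rw [Category.assoc, bcTo_left_fst, ← Category.assoc, bcSpInv_fst, pullback.lift_fst, Category.id_comp]
      rw [e, op_id, CategoryTheory.Functor.map_id]
      rfl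
  haveI : IsIso c := by
    have haff : ∀ (U : (S.X k).Etale) (p : U.left), ∃ (V : (S.X k).Etale) (g : V ⟶ U) (v : V.left),
        CompactSpace V.left ∧ QuasiSeparatedSpace V.left ∧ g.left v = p := fun U p => by
      obtain ⟨_, ⟨(O : U.left.Opens), hO, rfl⟩, hp, -⟩ :=
        U.left.isBasis_affineOpens.exists_subset_of_mem_open (Set.mem_univ p) isOpen_univ
      haveI : IsAffine O.toScheme := hO
      exact ⟨EtPtsLib.openSub U O, EtPtsLib.openIncl U O, ⟨p, hp⟩,
        inferInstanceAs (CompactSpace ↥O.toScheme), inferInstanceAs (QuasiSeparatedSpace ↥O.toScheme), rfl⟩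
    haveI : Presheaf.IsLocallyInjective (S.X k).smallEtaleTopology c.hom :=
      Presheaf.isLocallyInjective_of_injective _ _ fun U a b h => by
        refine eq_of_map_eq (colimit D) a b fun p => ?_
        obtain ⟨V, g, v, hV1, hV2, hv⟩ := haff U.unop p
        refine ⟨V, g, v, (hc V hV1 hV2).1 ?_, hv⟩
        refine (NatTrans.naturality_apply c.hom g.op a).trans (Eq.trans ?_ (NatTrans.naturality_apply c.hom g.op b).symm)
        rw [h]
    haveI : Presheaf.IsLocallySurjective (S.X k).smallEtaleTopology c.hom := ⟨fun {U} t => by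
      refine EtPtsLib.covering_of_points _ fun p => ?_
      obtain ⟨V, g, v, hV1, hV2, hv⟩ := haff U p
      exact ⟨V, g, v, (hc V hV1 hV2).2 _, hv⟩⟩
    exact (Sheaf.isLocallyBijective_iff_isIso c).1 ⟨inferInstance, inferInstance⟩
  haveI : PreservesColimitsOfShape (After ι k) (restrTo W) :=
    haveI : PreservesColimitsOfSize.{u + 1, u + 1} (restrTo W) :=
      (EtPtsLib.restrPushAdj (strMap W)).leftAdjoint_preservesColimits
    inferInstance
  haveI := hWc
  haveI := hWq
  haveI := CohColim.preserves_HF W.left (n + 1) (After ι k)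
  have hcol := isColimitOfPreserves (restrTo W ⋙ EtCoh.HF W.left (n + 1)) (colimit.isColimit D)
  have hsub : Subsingleton ((restrTo W ⋙ EtCoh.HF W.left (n + 1)).obj (colimit D)) := by
    refine subsingleton_of_forall_eq 0 fun x => ?_
    obtain ⟨l, y, rfl⟩ := Concrete.isColimit_exists_rep _ hcol x
    haveI : Injective (D.obj l) := by
      haveI := hI l.down.1
      haveI : PreservesFiniteLimits (EtCoh.pull (S.t l.down.2)) := S0101.result _
      exact Injective.injective_of_adjoint (EtCoh.pullPushAdj (S.t l.down.2)) _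
    haveI := injective_restrTo W (D.obj l)
    have hy : y = 0 := Abelian.Ext.eq_zero_of_injective (I := (restrTo W).obj (D.obj l)) y
    rw [hy]
    exact map_zero _
  exact ((restrTo W ⋙ EtCoh.HF W.left (n + 1)).mapIso (asIso c)).addCommGroupIsoToAddEquiv.symm.toEquiv.subsingleton

end Groth.Agent.EtLimLib
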