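import Groth.Agent.EtLimLib.Deg0
import Groth.Agent.EtPtsLib.Support

/-!
# The colimit of the inverse images of a system is a colimit at the points

A `PullDiag` is a diagram on the limit identified with the inverse images of a system; the cocone to
its colimit satisfies `IsColim`. Every system has one (`SysSh.diag`).
-/

set_option autoImplicit false
set_option linter.unusedSectionVars false
set_option linter.style.haveILetI false
set_option backward.isDefEq.respectTransparency false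
set_option backward.isDefEq.respectTransparency.types false
set_option maxHeartbeats 1000000

universe u

open CategoryTheory CategoryTheory.Limits AlgebraicGeometry Opposite

noncomputable section

namespace Groth.Agent.EtLimLib

variable {ι : Type u} [Preorder ι] [Nonempty ι] [IsDirected ι (· ≤ ·)] {S : Sys ι}

/-- A diagram on the limit identified with the inverse images of a system. -/
structure PullDiag (M : SysSh S) where
  G : ι ⥤ EtCoh.Ab S.c.pt
  η : ∀ i, M.F i ⟶ (EtCoh.push (S.u i)).obj (G.obj i)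
  isIso : ∀ i, IsIso (((EtCoh.pullPushAdj (S.u i)).homEquiv _ _).symm (η i))
  comm : ∀ ⦃i j : ι⦄ (h : i ≤ j), η i ≫ (EtCoh.push (S.u i)).map (G.map (homOfLE h)) ≫
      (pushSp (S.t h) (S.u j) (S.u i) (S.u_t h)).app (G.obj j) = M.φ h ≫ (EtCoh.push (S.t h)).map (η j)

namespace PullDiag

variable {M : SysSh S} (P : PullDiag M) (γ : Cocone P.G)

/-- The cocone of systems under a cocone of the diagram. -/
def cocone : CoconeSh M γ.pt where
  ψ i := P.η i ≫ (EtCoh.push (S.u i)).map (γ.ι.app i)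
  comm i j h := by
    rw [Category.assoc, Functor.map_comp, ← Category.assoc (M.φ h), ← P.comm h, Category.assoc, Category.assoc]
    congr 1
    have hw : γ.ι.app i = P.G.map (homOfLE h) ≫ γ.ι.app j := (γ.w (homOfLE h)).symm
    rw [hw, Functor.map_comp, Category.assoc]
    exact congrArg ((EtCoh.push (S.u i)).map (P.G.map (homOfLE h)) ≫ ·)
      ((pushSp (S.t h) (S.u j) (S.u i) (S.u_t h)).naturality (γ.ι.app j))

theorem cocone_app {i : ι} {W : (S.X i).Etale} (s : EtCoh.sect (M.F i) W) :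
    (P.cocone γ).app s = (γ.ι.app i).hom.app (op ((EtCoh.bc (S.u i)).obj W)) ((P.η i).hom.app (op W) s) := rfl

variable {Ω : Type u} [Field Ω] [IsSepClosed Ω] (ξ : Spec (CommRingCat.of Ω) ⟶ S.c.pt)

/-- The map of stalks given by `η`. -/
def stalkη (i : ι) : (EtCoh.stalk (ξ ≫ S.u i)).obj (M.F i) ⟶ (EtCoh.stalk ξ).obj (P.G.obj i) :=
  EtPtsLib.unitStalk (S.u i) ξ (M.F i) ≫
    (EtCoh.stalk ξ).map (((EtCoh.pullPushAdj (S.u i)).homEquiv _ _).symm (P.η i))

theorem stalkη_germ (i : ι) {W : (S.X i).Etale} (l : (Scheme.pointSmallEtale (ξ ≫ S.u i)).fiber.obj W)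
    (s : EtCoh.sect (M.F i) W) :
    P.stalkη ξ i (EtPtsLib.germ (ξ ≫ S.u i) (M.F i) l s) =
      EtPtsLib.germ ξ (P.G.obj i) (EtPtsLib.liftBc (S.u i) ξ W l) ((P.η i).hom.app (op W) s) := by
  have h1 := ConcreteCategory.congr_hom (EtPtsLib.toPresheafFiber_unitStalk (S.u i) ξ (M.F i) W l) s
  rw [ConcreteCategory.comp_apply, ConcreteCategory.comp_apply] at h1
  show (EtCoh.stalk ξ).map _ (EtPtsLib.unitStalk (S.u i) ξ (M.F i) _) = _
  refine (congrArg ((EtCoh.stalk ξ).map (((EtCoh.pullPushAdj (S.u i)).homEquiv _ _).symm (P.η i))) h1).trans ?_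
  refine (congr($((Scheme.pointSmallEtale ξ).toPresheafFiber_naturality
    (((EtCoh.pullPushAdj (S.u i)).homEquiv _ _).symm (P.η i)).hom _ (EtPtsLib.liftBc (S.u i) ξ W l)) _)).trans ?_
  refine congrArg (EtPtsLib.germ ξ (P.G.obj i) (EtPtsLib.liftBc (S.u i) ξ W l)) ?_
  have h2 : (EtCoh.pullPushAdj (S.u i)).unit.app (M.F i) ≫
      (EtCoh.push (S.u i)).map (((EtCoh.pullPushAdj (S.u i)).homEquiv _ _).symm (P.η i)) = P.η i :=
    ((EtCoh.pullPushAdj (S.u i)).homEquiv_unit _ _ _).symm.trans (Equiv.apply_symm_apply _ _)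
  exact congr(($h2).hom.app (op W) s)

theorem bijective_stalkη (i : ι) : Function.Bijective (P.stalkη ξ i) := by
  haveI := P.isIso i
  show Function.Bijective (EtPtsLib.unitStalk (S.u i) ξ (M.F i) ≫ _ : _ ⟶ _)
  exact (ConcreteCategory.bijective_of_isIso
    ((EtCoh.stalk ξ).map (((EtCoh.pullPushAdj (S.u i)).homEquiv _ _).symm (P.η i)))).comp
      (EtPtsLib.bijective_unitStalk (S.u i) ξ (M.F i))

end PullDiag

theorem germ_natural {X : Scheme.{u}} {Ω : Type u} [Field Ω] [IsSepClosed Ω] (ξ : Spec (CommRingCat.of Ω) ⟶ X)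
    {F G : EtCoh.Ab X} (a : F ⟶ G) {U : X.Etale} (l : (Scheme.pointSmallEtale ξ).fiber.obj U) (s : EtCoh.sect F U) :
    (EtCoh.stalk ξ).map a (EtPtsLib.germ ξ F l s) = EtPtsLib.germ ξ G l (a.hom.app (op U) s) :=
  congr($((Scheme.pointSmallEtale ξ).toPresheafFiber_naturality a.hom U l) s)

theorem isColim_cocone {M : SysSh S} (P : PullDiag M) {γ : Cocone P.G} (hγ : IsColimit γ) :
    IsColim (P.cocone γ) := by
  haveI : IsFiltered ι := inferInstance
  constructor
  · intro i W s x hx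
    obtain ⟨l, hl⟩ := EtPtsLib.exists_lift_geomPt x
    let z : S.c.pt := ((EtCoh.bc (S.u i)).obj W).hom x
    let ξ : Spec (CommRingCat.of (SeparableClosure (S.c.pt.residueField z))) ⟶ S.c.pt := EtPtsLib.geomPt z
    have hst := isColimitOfPreserves (EtCoh.stalk ξ) hγ
    have h0 : EtPtsLib.germ ξ γ.pt l ((P.cocone γ).app s) = EtPtsLib.germ ξ γ.pt l 0 := by
      refine (EtPtsLib.germ_eq_iff_mem_agree _ _ _ _ _).2 ?_
      exact (congrArg (· ∈ EtPtsLib.agree γ.pt.obj ((P.cocone γ).app s) 0) hl).mpr hx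
    replace h0 := ((germ_natural ξ (γ.ι.app i) l ((P.η i).hom.app (op W) s)).trans h0).trans (map_zero _)
    obtain ⟨j, f, hf⟩ := Concrete.isColimit_exists_of_rep_eq (P.G ⋙ EtCoh.stalk ξ) hst
      (EtPtsLib.germ ξ (P.G.obj i) l ((P.η i).hom.app (op W) s)) (0 : (EtCoh.stalk ξ).obj (P.G.obj i))
      (h0.trans (map_zero ((EtCoh.stalk ξ).map (γ.ι.app i)).hom).symm) |> fun ⟨k, f, g, e⟩ =>
        (⟨k, f, e.trans (map_zero _)⟩ : ∃ (k : ι) (f : i ⟶ k),
          (EtCoh.stalk ξ).map (P.G.map f) (EtPtsLib.germ ξ (P.G.obj i) l ((P.η i).hom.app (op W) s)) = 0)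
    have h : i ≤ j := leOfHom f
    obtain rfl : f = homOfLE h := Subsingleton.elim _ _
    refine ⟨j, h, ?_⟩
    let l' : (Scheme.pointSmallEtale (ξ ≫ S.u j)).fiber.obj (S.at' h W) :=
      Over.homMk (EtPtsLib.liftHom ξ l ≫ toAt S h W ≫ pullback.fst (S.at' h W).hom (S.u j)) (by
        show (_ ≫ _ ≫ _) ≫ pullback.snd W.hom (S.t h) = ξ ≫ S.u j
        rw [toAt_fst, Category.assoc, pullback.lift_snd, ← Category.assoc]
        exact congrArg (· ≫ S.u j) (EtPtsLib.liftHom_comp ξ l))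
    have hl' : EtPtsLib.liftHom (ξ ≫ S.u j) l' default = atPt h x := by
      rw [← hl]
      exact Scheme.Hom.comp_apply _ _ _
    rw [← hl', ← EtPtsLib.germ_eq_iff_mem_agree, map_zero]
    refine (P.bijective_stalkη ξ j).1 ?_
    rw [map_zero, P.stalkη_germ]
    refine Eq.trans ?_ hf
    have e : (P.G.obj j).obj.map (bcSp (S.t h) (S.u j) (S.u i) (S.u_t h) W).op
        ((P.G.map (homOfLE h)).hom.app (op ((EtCoh.bc (S.u i)).obj W)) ((P.η i).hom.app (op W) s)) =
        (P.η j).hom.app (op (S.at' h W)) (M.res h s) := congr(($(P.comm h)).hom.app (op W) s)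
    rw [← e, EtPtsLib.germ_map, germ_natural]
    congr 1
    refine EtPtsLib.fiber_bc_ext (S.u i) ξ ?_
    rw [EtPtsLib.liftHom_map, Category.assoc]
    show EtPtsLib.liftHom ξ (EtPtsLib.liftBc (S.u j) ξ (S.at' h W) l') ≫
      (bcSp (S.t h) (S.u j) (S.u i) (S.u_t h) W).left ≫ pullback.fst W.hom (S.u i) = _
    rw [bcSp_fst, ← Category.assoc, EtPtsLib.liftHom_liftBc_fst]
    show (EtPtsLib.liftHom ξ l ≫ toAt S h W ≫ pullback.fst (S.at' h W).hom (S.u j)) ≫ pullback.fst W.hom (S.t h) = _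
    rw [toAt_fst, Category.assoc, pullback.lift_fst]
  · intro V t v
    obtain ⟨l, hl⟩ := EtPtsLib.exists_lift_geomPt v
    let z : S.c.pt := V.hom v
    let ξ : Spec (CommRingCat.of (SeparableClosure (S.c.pt.residueField z))) ⟶ S.c.pt := EtPtsLib.geomPt z
    have hst := isColimitOfPreserves (EtCoh.stalk ξ) hγ
    obtain ⟨i, a, ha⟩ := Concrete.isColimit_exists_rep (P.G ⋙ EtCoh.stalk ξ) hst (EtPtsLib.germ ξ γ.pt l t)
    obtain ⟨a', rfl⟩ := (P.bijective_stalkη ξ i).2 a
    obtain ⟨W, m, s, rfl⟩ := (Scheme.pointSmallEtale (ξ ≫ S.u i)).toPresheafFiber_jointly_surjective (P := (M.F i).obj) a'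
    have ha' : EtPtsLib.germ ξ γ.pt (EtPtsLib.liftBc (S.u i) ξ W m) ((P.cocone γ).app s) = EtPtsLib.germ ξ γ.pt l t := by
      refine ((germ_natural ξ (γ.ι.app i) _ ((P.η i).hom.app (op W) s)).symm).trans ?_
      refine Eq.trans ?_ ha
      exact congrArg ((EtCoh.stalk ξ).map (γ.ι.app i)) (P.stalkη_germ ξ i m s).symm
    let A := (EtCoh.bc (S.u i)).obj W
    let n : (Scheme.pointSmallEtale ξ).fiber.obj (HensH0.prod2 A V) :=
      Over.homMk (pullback.lift (EtPtsLib.liftHom _ (EtPtsLib.liftBc (S.u i) ξ W m)) (EtPtsLib.liftHom _ l)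
        ((EtPtsLib.liftHom_comp _ _).trans (EtPtsLib.liftHom_comp _ l).symm)) (by
          show pullback.lift _ _ _ ≫ pullback.fst A.hom V.hom ≫ A.hom = ξ
          rw [pullback.lift_fst_assoc]
          exact EtPtsLib.liftHom_comp _ _)
    have h1 : (Scheme.pointSmallEtale ξ).fiber.map (HensH0.fst2 A V) n = EtPtsLib.liftBc (S.u i) ξ W m :=
      Over.OverMorphism.ext (pullback.lift_fst _ _ _)
    have h2 : (Scheme.pointSmallEtale ξ).fiber.map (HensH0.snd2 A V) n = l :=
      Over.OverMorphism.ext (pullback.lift_snd _ _ _)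
    rw [← h1, ← h2, ← EtPtsLib.germ_map, ← EtPtsLib.germ_map, EtPtsLib.germ_eq_iff_mem_agree] at ha'
    obtain ⟨V', g, v', e, hv'⟩ := (mem_agree_iff _ _ _ _).1 ha'
    obtain ⟨k, hik, U, _, m', hm', b', p, hbp, hb'⟩ := exists_refine S W (g ≫ HensH0.fst2 A V) v'
    refine ⟨k, U, M.resTo m' hm' s, b' ≫ g ≫ HensH0.snd2 A V, p, ?_, ?_⟩
    · show (b'.left ≫ g.left ≫ (HensH0.snd2 A V).left) p = v
      rw [Scheme.Hom.comp_apply, Scheme.Hom.comp_apply, hbp, hv']
      refine Eq.trans ?_ hl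
      refine (Scheme.Hom.comp_apply _ _ _).symm.trans ?_
      exact congrArg (fun q => EtPtsLib.liftHom ξ q default) h2
    · refine (mem_agree_iff _ _ _ _).2 ⟨_, 𝟙 _, p, ?_, rfl⟩
      rw [(P.cocone γ).app_resTo, ← hb']
      simp only [op_comp, Functor.map_comp_apply]
      rw [e]

/-- The transition maps of the diagram of inverse images. -/
def SysSh.diagMap (M : SysSh S) {i j : ι} (h : i ≤ j) :
    (EtCoh.pull (S.u i)).obj (M.F i) ⟶ (EtCoh.pull (S.u j)).obj (M.F j) :=
  ((EtCoh.pullPushAdj (S.u i)).homEquiv _ _).symm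
    (M.φ h ≫ (EtCoh.push (S.t h)).map ((EtCoh.pullPushAdj (S.u j)).unit.app (M.F j)) ≫
      pushJoin (S.t h) (S.u j) (S.u i) (S.u_t h) _)

theorem SysSh.unit_diagMap (M : SysSh S) {i j : ι} (h : i ≤ j) :
    (EtCoh.pullPushAdj (S.u i)).unit.app (M.F i) ≫ (EtCoh.push (S.u i)).map (M.diagMap h) ≫
      (pushSp (S.t h) (S.u j) (S.u i) (S.u_t h)).app _ =
      M.φ h ≫ (EtCoh.push (S.t h)).map ((EtCoh.pullPushAdj (S.u j)).unit.app (M.F j)) := by
  have e : (EtCoh.pullPushAdj (S.u i)).unit.app (M.F i) ≫ (EtCoh.push (S.u i)).map (M.diagMap h) =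
      M.φ h ≫ (EtCoh.push (S.t h)).map ((EtCoh.pullPushAdj (S.u j)).unit.app (M.F j)) ≫
        pushJoin (S.t h) (S.u j) (S.u i) (S.u_t h) _ :=
    ((EtCoh.pullPushAdj (S.u i)).homEquiv_unit _ _ _).symm.trans (Equiv.apply_symm_apply _ _)
  rw [← Category.assoc, e, Category.assoc, Category.assoc, pushJoin_pushSp]
  exact congrArg (M.φ h ≫ ·) (Category.comp_id _)

theorem SysSh.diagMap_comp (M : SysSh S) {i j k : ι} (h : i ≤ j) (h' : j ≤ k) :
    M.diagMap (h.trans h') = M.diagMap h ≫ M.diagMap h' := by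
  apply ((EtCoh.pullPushAdj (S.u i)).homEquiv _ _).injective
  rw [Adjunction.homEquiv_unit, Adjunction.homEquiv_unit, Functor.map_comp]
  let Q := (EtCoh.pull (S.u k)).obj (M.F k)
  have m1 := mono_pushSp (S.t (h.trans h')) (S.u k) (S.u i) (S.u_t (h.trans h')) Q
  have m2 := mono_pushSp (S.t h) (S.t h') (S.t (h.trans h')) (S.t_t h h') ((EtCoh.push (S.u k)).obj Q)
  refine (cancel_mono ((pushSp (S.t (h.trans h')) (S.u k) (S.u i) (S.u_t (h.trans h'))).app Q ≫
    (pushSp (S.t h) (S.t h') (S.t (h.trans h')) (S.t_t h h')).app ((EtCoh.push (S.u k)).obj Q))).1 ?_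
  have n2 := (pushSp (S.t h) (S.t h') (S.t (h.trans h')) (S.t_t h h')).naturality
    ((EtCoh.pullPushAdj (S.u k)).unit.app (M.F k))
  have n1 := (pushSp (S.t h) (S.u j) (S.u i) (S.u_t h)).naturality (M.diagMap h')
  have hA := pushSp_assoc (S.t h) (S.t h') (S.u k) (S.t (h.trans h')) (S.u j) (S.u i) (S.t_t h h') (S.u_t h')
    (S.u_t (h.trans h')) (S.u_t h) Q
  have hL := reassoc_of% (M.unit_diagMap (h.trans h'))
  have hL2 := reassoc_of% (M.unit_diagMap h)
  simp only [Category.assoc]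
  refine (hL _).trans (Eq.trans ?_ (congrArg (fun w => (EtCoh.pullPushAdj (S.u i)).unit.app (M.F i) ≫
    (EtCoh.push (S.u i)).map (M.diagMap h) ≫ (EtCoh.push (S.u i)).map (M.diagMap h') ≫ w) hA).symm)
  refine Eq.trans ?_ ((congrArg (fun w => (EtCoh.pullPushAdj (S.u i)).unit.app (M.F i) ≫
    (EtCoh.push (S.u i)).map (M.diagMap h) ≫ w) ((reassoc_of% n1) _)).trans rfl).symm
  refine Eq.trans ?_ (hL2 _).symm
  refine ((congrArg (M.φ (h.trans h') ≫ ·) n2).trans ((reassoc_of% (M.cocycle h h')) _)).trans ?_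
  refine congrArg (M.φ h ≫ ·) ?_
  simp only [Functor.comp_map, ← Functor.map_comp]
  exact congrArg (EtCoh.push (S.t h)).map (M.unit_diagMap h').symm

theorem SysSh.diagMap_refl (M : SysSh S) (i : ι) : M.diagMap (le_refl i) = 𝟙 _ := by
  apply ((EtCoh.pullPushAdj (S.u i)).homEquiv _ _).injective
  rw [Adjunction.homEquiv_unit, Adjunction.homEquiv_unit, CategoryTheory.Functor.map_id]
  haveI := mono_pushSp (S.t (le_refl i)) (S.u i) (S.u i) (S.u_t (le_refl i)) ((EtCoh.pull (S.u i)).obj (M.F i))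
  refine (cancel_mono ((pushSp (S.t (le_refl i)) (S.u i) (S.u i) (S.u_t (le_refl i))).app _)).1 ?_
  rw [Category.assoc, Category.assoc]
  refine (M.unit_diagMap (le_refl i)).trans ?_
  refine ObjectProperty.hom_ext _ (NatTrans.ext (funext fun W => ?_))
  refine ConcreteCategory.hom_ext _ _ fun s => ?_
  obtain ⟨W⟩ := W
  let η := (EtCoh.pullPushAdj (S.u i)).unit.app (M.F i)
  show η.hom.app (op (S.at' (le_refl i) W)) ((M.φ (le_refl i)).hom.app (op W) s) =
    ((EtCoh.pull (S.u i)).obj (M.F i)).obj.map (bcSp (S.t (le_refl i)) (S.u i) (S.u i) (S.u_t (le_refl i)) W).op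
      (η.hom.app (op W) s)
  rw [M.refl]
  refine (congr($(η.hom.naturality (prSelf S i W).op) s)).trans ?_
  show ((EtCoh.pull (S.u i)).obj (M.F i)).obj.map ((EtCoh.bc (S.u i)).map (prSelf S i W)).op _ = _
  congr 3

/-- The canonical diagram of inverse images. -/
def SysSh.diag (M : SysSh S) : PullDiag M where
  G :=
    { obj := fun i => (EtCoh.pull (S.u i)).obj (M.F i)
      map := fun f => M.diagMap (leOfHom f)
      map_id := fun i => M.diagMap_refl i
      map_comp := fun f g => M.diagMap_comp (leOfHom f) (leOfHom g) }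
  η i := (EtCoh.pullPushAdj (S.u i)).unit.app (M.F i)
  isIso i := by
    rw [Adjunction.homEquiv_counit, (EtCoh.pullPushAdj (S.u i)).left_triangle_components]
    infer_instance
  comm i j h := M.unit_diagMap h

end Groth.Agent.EtLimLib
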