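import Groth.Agent.EtLimLib.Colim
import Groth.Agent.S0101

/-!
# Embedding a system of sheaves into a system of injective sheaves

`embedObj M a = ∏_{b ≥ a} (t_ab)_* J_b` with `J_b` injective containing `M.F b`. It is a system of
injective sheaves, `embedMap` is a monomorphism of systems and `coker` is the system of its cokernels.
-/

set_option autoImplicit false
set_option linter.unusedSectionVars false
set_option linter.style.haveILetI false
set_option backward.isDefEq.respectTransparency false
set_option backward.isDefEq.respectTransparency.types false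
set_option maxHeartbeats 1000000

universe u

open CategoryTheory CategoryTheory.Limits AlgebraicGeometry Opposite

noncomputable section

namespace Groth.Agent.EtLimLib

/-- Maps into the direct image of a product agree if they agree on the factors. -/
theorem push_pi_ext {A B : Scheme.{u}} (f : B ⟶ A) {β : Type u} (K : β → EtCoh.Ab B) {Z : EtCoh.Ab A}
    {a b : Z ⟶ (EtCoh.push f).obj (∏ᶜ K)}
    (h : ∀ p, a ≫ (EtCoh.push f).map (Pi.π K p) = b ≫ (EtCoh.push f).map (Pi.π K p)) : a = b := by
  apply ((EtCoh.pullPushAdj f).homEquiv _ _).symm.injective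
  refine Pi.hom_ext _ _ fun p => ?_
  rw [← Adjunction.homEquiv_naturality_right_symm, ← Adjunction.homEquiv_naturality_right_symm, h]

variable {ι : Type u} [Preorder ι] [Nonempty ι] [IsDirected ι (· ≤ ·)] {S : Sys ι}

/-- The canonical map to the direct image along the identity transition. -/
def selfMap (S : Sys ι) (i : ι) : 𝟭 (EtCoh.Ab (S.X i)) ⟶ EtCoh.push (S.t (le_refl i)) where
  app F := ObjectProperty.homMk
    { app := fun W => F.obj.map (prSelf S i W.unop).op
      naturality := fun W W' g => by
        show F.obj.map g ≫ F.obj.map (prSelf S i W'.unop).op =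
          F.obj.map (prSelf S i W.unop).op ≫ F.obj.map ((EtCoh.bc (S.t (le_refl i))).map g.unop).op
        rw [← Functor.map_comp, ← Functor.map_comp]
        congr 1
        refine Quiver.Hom.unop_inj (MorphismProperty.Over.Hom.ext ?_)
        exact (bc_map_fst (S.t (le_refl i)) g.unop).symm }
  naturality F G a := by
    refine ObjectProperty.hom_ext _ (NatTrans.ext (funext fun W => ?_))
    exact (a.hom.naturality _).symm

theorem mono_selfMap (i : ι) (F : EtCoh.Ab (S.X i)) : Mono ((selfMap S i).app F) := by
  have h1 : S.t (le_refl i) = 𝟙 _ := S.Xs.map_id (op i)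
  let inv' : ∀ W : (S.X i).Etale, W ⟶ S.at' (le_refl i) W := fun W =>
    MorphismProperty.Over.homMk (pullback.lift (𝟙 _) W.hom (by
      rw [h1, Category.id_comp]
      exact (Category.comp_id _).symm)) (pullback.lift_snd _ _ _)
  have hinv : ∀ W, inv' W ≫ prSelf S i W = 𝟙 W := fun W =>
    MorphismProperty.Over.Hom.ext (pullback.lift_fst _ _ _)
  haveI : ∀ W, Mono (((sheafToPresheaf _ _).map ((selfMap S i).app F)).app W) := fun W => by
    have e : F.obj.map (prSelf S i W.unop).op ≫ F.obj.map (inv' W.unop).op = 𝟙 _ := by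
      rw [← Functor.map_comp, ← op_comp, hinv, op_id, CategoryTheory.Functor.map_id]
    exact (SplitMono.mono ⟨_, e⟩)
  haveI : Mono ((sheafToPresheaf _ _).map ((selfMap S i).app F)) := NatTrans.mono_of_mono_app _
  exact (sheafToPresheaf _ _).mono_of_mono_map (f := (selfMap S i).app F) inferInstance

theorem SysSh.φ_refl (M : SysSh S) (i : ι) : M.φ (le_refl i) = (selfMap S i).app (M.F i) := by
  refine ObjectProperty.hom_ext _ (NatTrans.ext (funext fun W => ?_))
  exact ConcreteCategory.hom_ext _ _ fun s => M.refl i W.unop s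

theorem pushSp_self {i b : ι} (h : i ≤ b) (G : EtCoh.Ab (S.X b)) :
    (pushSp (S.t (le_refl i)) (S.t h) (S.t ((le_refl i).trans h)) (S.t_t _ h)).app G =
      (selfMap S i).app ((EtCoh.push (S.t h)).obj G) := by
  refine ObjectProperty.hom_ext _ (NatTrans.ext (funext fun W => ?_))
  show G.obj.map _ = G.obj.map _
  congr 2

variable (M : SysSh S)

/-- The factors of the embedding. -/
abbrev embFac (a : ι) (b : {b : ι // a ≤ b}) : EtCoh.Ab (S.X a) :=
  (EtCoh.push (S.t b.2)).obj (Injective.under (M.F b.1))

/-- The injective sheaf containing `M.F a`. -/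
abbrev embedObj (a : ι) : EtCoh.Ab (S.X a) := ∏ᶜ embFac M a

instance injective_embedObj (a : ι) : Injective (embedObj M a) := by
  haveI : ∀ b, Injective (embFac M a b) := fun b => by
    haveI : PreservesFiniteLimits (EtCoh.pull (S.t b.2)) := S0101.result _
    exact Injective.injective_of_adjoint (EtCoh.pullPushAdj (S.t b.2)) _
  infer_instance

/-- The transition of the embedding. -/
def embφ {a a' : ι} (h : a ≤ a') : embedObj M a ⟶ (EtCoh.push (S.t h)).obj (embedObj M a') :=
  (EtCoh.pullPushAdj (S.t h)).homEquiv _ _ (Pi.lift fun b =>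
    ((EtCoh.pullPushAdj (S.t h)).homEquiv _ _).symm
      (Pi.π (embFac M a) ⟨b.1, h.trans b.2⟩ ≫
        (pushSp (S.t h) (S.t b.2) (S.t (h.trans b.2)) (S.t_t h b.2)).app (Injective.under (M.F b.1))))

theorem embφ_π {a a' : ι} (h : a ≤ a') (b : {b : ι // a' ≤ b}) :
    embφ M h ≫ (EtCoh.push (S.t h)).map (Pi.π (embFac M a') b) =
      Pi.π (embFac M a) ⟨b.1, h.trans b.2⟩ ≫
        (pushSp (S.t h) (S.t b.2) (S.t (h.trans b.2)) (S.t_t h b.2)).app (Injective.under (M.F b.1)) := by
  rw [embφ, ← Adjunction.homEquiv_naturality_right, Pi.lift_π, Equiv.apply_symm_apply]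

/-- The system of injective sheaves. -/
def embed : SysSh S where
  F := embedObj M
  φ i j h := embφ M h
  cocycle i j k h h' := by
    apply ((EtCoh.pullPushAdj (S.t h)).homEquiv _ _).symm.injective
    refine push_pi_ext _ _ fun p => ?_
    rw [← Adjunction.homEquiv_naturality_right_symm, ← Adjunction.homEquiv_naturality_right_symm]
    refine congrArg _ ?_
    let J := Injective.under (M.F p.1)
    have hn := (pushSp (S.t h) (S.t h') (S.t (h.trans h')) (S.t_t h h')).naturality (Pi.π (embFac M k) p)
    rw [Category.assoc, Category.assoc]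
    refine Eq.trans (congrArg (embφ M (h.trans h') ≫ ·) hn.symm) ?_
    rw [← Category.assoc, embφ_π, Category.assoc]
    refine Eq.trans (congrArg (Pi.π _ _ ≫ ·) (pushSp_assoc (S.t h) (S.t h') (S.t p.2) (S.t (h.trans h'))
      (S.t (h'.trans p.2)) (S.t ((h.trans h').trans p.2)) (S.t_t h h') (S.t_t h' p.2) (S.t_t (h.trans h') p.2)
      (S.t_t h (h'.trans p.2)) J)) ?_
    rw [← Category.assoc]
    refine Eq.trans (congrArg (· ≫ _) (embφ_π M h ⟨p.1, h'.trans p.2⟩).symm) ?_
    rw [Category.assoc, ← Functor.map_comp, ← Functor.map_comp, embφ_π]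
  refl i W s := by
    have e : embφ M (le_refl i) = (selfMap S i).app (embedObj M i) := by
      refine push_pi_ext _ _ fun b => ?_
      rw [embφ_π]
      refine Eq.trans (congrArg (Pi.π (embFac M i) b ≫ ·) (pushSp_self b.2 _)) ?_
      exact (selfMap S i).naturality (Pi.π (embFac M i) b)
    show (embφ M (le_refl i)).hom.app (op W) s = _
    rw [e]
    rfl

/-- The embedding. -/
def embedMap (a : ι) : M.F a ⟶ (embed M).F a :=
  Pi.lift fun b => M.φ b.2 ≫ (EtCoh.push (S.t b.2)).map (Injective.ι (M.F b.1))

instance mono_embedMap (a : ι) : Mono (embedMap M a) := by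
  haveI := mono_selfMap (S := S) a (M.F a)
  haveI : Mono ((EtCoh.push (S.t (le_refl a))).map (Injective.ι (M.F a))) := inferInstance
  haveI : Mono (M.φ (le_refl a)) := by rw [M.φ_refl]; infer_instance
  exact mono_of_mono_fac (Pi.lift_π (fun b : {b : ι // a ≤ b} =>
    M.φ b.2 ≫ (EtCoh.push (S.t b.2)).map (Injective.ι (M.F b.1))) ⟨a, le_refl a⟩)

theorem embedMap_comm {i j : ι} (h : i ≤ j) :
    embedMap M i ≫ (embed M).φ h = M.φ h ≫ (EtCoh.push (S.t h)).map (embedMap M j) := by
  refine push_pi_ext _ _ fun b => ?_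
  rw [Category.assoc, Category.assoc, ← Functor.map_comp]
  show embedMap M i ≫ embφ M h ≫ _ = _
  rw [embφ_π, ← Category.assoc, embedMap, Pi.lift_π, embedMap, Pi.lift_π, Category.assoc, Functor.map_comp,
    ← Category.assoc (M.φ h), ← M.cocycle h b.2, Category.assoc]
  exact congrArg (M.φ (h.trans b.2) ≫ ·)
    ((pushSp (S.t h) (S.t b.2) (S.t (h.trans b.2)) (S.t_t h b.2)).naturality (Injective.ι (M.F b.1)))

/-- The transition of the cokernels. -/
def cokerφ {i j : ι} (h : i ≤ j) :
    cokernel (embedMap M i) ⟶ (EtCoh.push (S.t h)).obj (cokernel (embedMap M j)) :=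
  cokernel.desc _ ((embed M).φ h ≫ (EtCoh.push (S.t h)).map (cokernel.π (embedMap M j))) (by
    rw [← Category.assoc, embedMap_comm, Category.assoc, ← Functor.map_comp, cokernel.condition, Functor.map_zero,
      comp_zero])

theorem π_cokerφ {i j : ι} (h : i ≤ j) :
    cokernel.π (embedMap M i) ≫ cokerφ M h = (embed M).φ h ≫ (EtCoh.push (S.t h)).map (cokernel.π (embedMap M j)) :=
  cokernel.π_desc _ _ _

/-- The system of cokernels. -/
def coker : SysSh S where
  F a := cokernel (embedMap M a)
  φ i j h := cokerφ M h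
  cocycle i j k h h' := by
    rw [← cancel_epi (cokernel.π (embedMap M i)), ← Category.assoc, π_cokerφ, ← Category.assoc, π_cokerφ]
    simp only [Category.assoc, ← Functor.map_comp]
    rw [π_cokerφ, Functor.map_comp, ← Category.assoc ((embed M).φ h), ← (embed M).cocycle h h', Category.assoc]
    exact congrArg ((embed M).φ (h.trans h') ≫ ·)
      ((pushSp (S.t h) (S.t h') (S.t (h.trans h')) (S.t_t h h')).naturality (cokernel.π (embedMap M k)))
  refl i W s := by
    have e : cokerφ M (le_refl i) = (selfMap S i).app (cokernel (embedMap M i)) := by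
      rw [← cancel_epi (cokernel.π (embedMap M i)), π_cokerφ, (embed M).φ_refl]
      exact ((selfMap S i).naturality (cokernel.π (embedMap M i))).symm
    show (cokerφ M (le_refl i)).hom.app (op W) s = _
    rw [e]
    rfl

end Groth.Agent.EtLimLib
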