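import Groth.Agent.EtLimLib.Main

/-!
# Continuity for any cocone which is a colimit at the points

`isIso_of_isColim`: two such cocones have isomorphic targets. `continuity`: classes on the limit
come from stages for every such cocone.
-/

set_option autoImplicit false
set_option linter.unusedSectionVars false
set_option linter.style.haveILetI false
set_option backward.isDefEq.respectTransparency false
set_option backward.isDefEq.respectTransparency.types false
set_option maxHeartbeats 1000000

universe u

open CategoryTheory CategoryTheory.Limits AlgebraicGeometry Opposite Abelian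

noncomputable section

namespace Groth.Agent.EtLimLib

variable {ι : Type u} [Preorder ι] [Nonempty ι] [IsDirected ι (· ≤ ·)] {S : Sys ι}

theorem atPt_bcTo {k l : ι} {h : k ≤ l} {U : (S.X l).Etale} {W : (S.X k).Etale} (m : U.left ⟶ W.left)
    (hm : m ≫ W.hom = U.hom ≫ S.t h) (p : ((EtCoh.bc (S.u l)).obj U).left) :
    atPt h ((bcTo m hm).left p) = (mkHom m hm).left (pullback.fst U.hom (S.u l) p) := by
  rw [atPt]
  refine (Scheme.Hom.comp_apply _ _ _).symm.trans (Eq.trans (hom_congr_apply ?_ p) (Scheme.Hom.comp_apply _ _ _))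
  rw [toAt_fst]
  apply pullback.hom_ext
  · simp [mkHom, bcTo]
  · simp [mkHom, bcTo]
    exact pullback.condition.symm

/-- A morphism of cocones which are colimits at the points is an isomorphism. -/
theorem isIso_of_isColim {M : SysSh S} {E E' : EtCoh.Ab S.c.pt} {κ : CoconeSh M E} {κ' : CoconeSh M E'}
    (hκ : IsColim κ) (hκ' : IsColim κ') (q : E' ⟶ E)
    (hq : ∀ i, κ'.ψ i ≫ (EtCoh.push (S.u i)).map q = κ.ψ i) : IsIso q := by
  have happ : ∀ {i : ι} {W : (S.X i).Etale} (s : EtCoh.sect (M.F i) W),
      q.hom.app (op ((EtCoh.bc (S.u i)).obj W)) (κ'.app s) = κ.app s := fun {i W} s =>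
    congr(($(hq i)).hom.app (op W) s)
  haveI : Presheaf.IsLocallyInjective S.c.pt.smallEtaleTopology q.hom :=
    Presheaf.isLocallyInjective_of_injective _ _ fun U => by
      refine (injective_iff_map_eq_zero (q.hom.app U).hom).2 fun t ht => ?_
      refine eq_of_map_eq E' t 0 fun v => ?_
      obtain ⟨i, W, s, b, p, hbp, hp⟩ := hκ'.surj U.unop t v
      obtain ⟨V, g, v', e, hv'⟩ := (mem_agree_iff _ _ _ _).1 hp
      have hs : p ∈ EtPtsLib.agree E.obj (κ.app s) 0 := by
        refine (mem_agree_iff _ _ _ _).2 ⟨V, g, v', ?_, hv'⟩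
        rw [← happ s, map_zero]
        refine (NatTrans.naturality_apply q.hom g.op (κ'.app s)).symm.trans ?_
        refine (congrArg (q.hom.app (op V)) e).trans ?_
        rw [← Functor.map_comp_apply, ← op_comp]
        refine (NatTrans.naturality_apply q.hom (g ≫ b).op t).trans ?_
        exact (congrArg (E.obj.map (g ≫ b).op) ht).trans (map_zero _)
      obtain ⟨j, h, hj⟩ := hκ.inj W s p hs
      obtain ⟨V₁, g₁, v₁, e₁, hv₁⟩ := (mem_agree_iff _ _ _ _).1 hj
      let m := g₁.left ≫ S.pr h W
      have hm : m ≫ W.hom = V₁.hom ≫ S.t h := by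
        rw [Category.assoc, S.pr_w, ← Category.assoc]
        exact congrArg (· ≫ S.t h) (MorphismProperty.Over.w g₁)
      have hz : (M.F j).obj.map g₁.op (M.res h s) = M.resTo m hm s := by
        show _ = (M.F j).obj.map (mkHom m hm).op (M.res h s)
        congr 3
        refine congrArg Quiver.Hom.op (bc_ext _ ?_)
        exact (pullback.lift_fst _ _ hm).symm
      have h0 : M.resTo m hm s = 0 := hz.symm.trans (e₁.trans (map_zero _))
      have hp0 : E'.obj.map (bcTo m hm).op (κ'.app s) = 0 := by
        rw [← κ'.app_resTo, h0]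
        exact map_zero _
      let q₀ := toAt S h W ≫ pullback.fst (S.at' h W).hom (S.u j)
      have hq₁ : q₀ ≫ S.pr h W = pullback.fst W.hom (S.u i) := by
        show (toAt S h W ≫ pullback.fst (S.at' h W).hom (S.u j)) ≫ S.pr h W = _
        rw [toAt_fst]
        exact pullback.lift_fst _ _ _
      have hq₂ : q₀ ≫ (S.at' h W).hom = pullback.snd W.hom (S.u i) ≫ S.u j := by
        show (toAt S h W ≫ pullback.fst (S.at' h W).hom (S.u j)) ≫ _ = _
        rw [toAt_fst]
        exact pullback.lift_snd _ _ _
      obtain ⟨z, -, hz2⟩ := Scheme.Pullback.exists_preimage_pullback (f := g₁.left) (g := q₀) v₁ p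
        (hv₁.trans rfl)
      let n : pullback g₁.left q₀ ⟶ ((EtCoh.bc (S.u j)).obj V₁).left :=
        pullback.lift (pullback.fst g₁.left q₀) (pullback.snd g₁.left q₀ ≫ pullback.snd W.hom (S.u i)) (by
          rw [← MorphismProperty.Over.w g₁, Category.assoc, ← hq₂, ← Category.assoc, pullback.condition,
            Category.assoc])
      let w := n z
      have hn : n ≫ (bcTo m hm).left = pullback.snd g₁.left q₀ := by
        apply pullback.hom_ext
        · rw [Category.assoc, bcTo_left_fst, ← hq₁, ← Category.assoc, ← Category.assoc]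
          exact (congrArg (· ≫ m) (pullback.lift_fst _ _ _)).trans
            ((Category.assoc _ _ _).symm.trans (congrArg (· ≫ S.pr h W) pullback.condition))
        · rw [Category.assoc]
          exact (congrArg (fun a => n ≫ a) (MorphismProperty.Over.w (bcTo m hm))).trans (pullback.lift_snd _ _ _)
      have hwp : (bcTo m hm).left w = p :=
        ((Scheme.Hom.comp_apply _ _ _).symm.trans (hom_congr_apply hn z)).trans hz2
      obtain ⟨V', g', v'', e', hv''⟩ : ∃ (V' : S.c.pt.Etale) (g' : V' ⟶ (EtCoh.bc (S.u j)).obj V₁) (v'' : V'.left),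
          (E'.obj.map (g' ≫ bcTo m hm).op (κ'.app s) = E'.obj.map (g' ≫ bcTo m hm ≫ b).op t) ∧
            g'.left v'' = w := by
        have hw : w ∈ EtPtsLib.agree E'.obj (E'.obj.map (bcTo m hm).op (κ'.app s))
            (E'.obj.map (bcTo m hm).op (E'.obj.map b.op t)) := by
          rw [HensH0.mem_agree_map_iff, hwp]
          exact hp
        obtain ⟨V', g', v'', e', hv''⟩ := (mem_agree_iff _ _ _ _).1 hw
        refine ⟨V', g', v'', ?_, hv''⟩
        simp only [op_comp, Functor.map_comp_apply] at e' ⊢
        exact e'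
      refine ⟨V', g' ≫ bcTo m hm ≫ b, v'', ?_, ?_⟩
      · rw [← e', op_comp, Functor.map_comp_apply, hp0, map_zero]
        exact (map_zero _).symm
      · show (g'.left ≫ (bcTo m hm).left ≫ b.left) v'' = v
        rw [Scheme.Hom.comp_apply, Scheme.Hom.comp_apply, hv'', hwp, hbp]
  haveI : Presheaf.IsLocallySurjective S.c.pt.smallEtaleTopology q.hom := ⟨fun {U} t => by
    refine EtPtsLib.covering_of_points _ fun v => ?_
    obtain ⟨i, W, s, b, p, hbp, hp⟩ := hκ.surj U t v
    obtain ⟨V, g, v', e, hv'⟩ := (mem_agree_iff _ _ _ _).1 hp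
    refine ⟨V, g ≫ b, v', ⟨E'.obj.map g.op (κ'.app s), ?_⟩, ?_⟩
    · refine (NatTrans.naturality_apply q.hom g.op _).trans ?_
      rw [happ, e, op_comp, Functor.map_comp_apply]
    · show (g.left ≫ b.left) v' = v
      rw [Scheme.Hom.comp_apply, hv', hbp]⟩
  exact (Sheaf.isLocallyBijective_iff_isIso q).1 ⟨inferInstance, inferInstance⟩

attribute [local instance] hasColimits

/-- Continuity for every cocone which is a colimit at the points. -/
theorem continuity {M : SysSh S} {E : EtCoh.Ab S.c.pt} {κ : CoconeSh M E} (hκ : IsColim κ) (n : ℕ) :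
    Continuity M κ n := by
  let γ : Cocone M.diag.G :=
    { pt := E
      ι :=
        { app := fun i => κ.mate M i
          naturality := fun i j f => by
            refine Eq.trans ?_ (Category.comp_id _).symm
            apply ((EtCoh.pullPushAdj (S.u i)).homEquiv _ _).injective
            show (EtCoh.pullPushAdj (S.u i)).homEquiv _ _ (M.diagMap (leOfHom f) ≫ κ.mate M j) = _
            rw [Adjunction.homEquiv_naturality_right, SysSh.diagMap, Equiv.apply_symm_apply]
            refine Eq.trans ?_ (Equiv.apply_symm_apply _ _).symm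
            rw [
              Category.assoc, Category.assoc, ← pushJoin_natural, ← Functor.map_comp_assoc]
            rw [show (EtCoh.pullPushAdj (S.u j)).unit.app (M.F j) ≫ (EtCoh.push (S.u j)).map (κ.mate M j) = κ.ψ j from
              ((EtCoh.pullPushAdj (S.u j)).homEquiv_unit _ _ _).symm.trans (Equiv.apply_symm_apply _ _)]
            rw [← Category.assoc, ← κ.comm (leOfHom f), Category.assoc, pushSp_pushJoin]
            exact Category.comp_id _ } }
  let q := colimit.desc M.diag.G γ
  have hq : ∀ i, colimit.ι M.diag.G i ≫ q = κ.mate M i := fun i => colimit.ι_desc γ i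
  haveI : IsIso q := isIso_of_isColim hκ (isColim_cocone M.diag (colimit.isColimit _)) q fun i => by
    show ((EtCoh.pullPushAdj (S.u i)).unit.app (M.F i) ≫ (EtCoh.push (S.u i)).map (colimit.ι M.diag.G i)) ≫ _ = _
    rw [Category.assoc, ← Functor.map_comp, hq i]
    exact ((EtCoh.pullPushAdj (S.u i)).homEquiv_unit _ _ _).symm.trans (Equiv.apply_symm_apply _ _)
  obtain ⟨hs, hi⟩ := continuity_canon n M
  have key : ∀ (i : ι) (x : EtCoh.H (S.X i) (M.F i) n),
      EtLim.HpullThen (S.u i) (M.F i) (κ.mate M i) n x =
        Sheaf.H.map q n (EtLim.HpullThen (S.u i) (M.F i) ((canon M).mate M i) n x) := fun i x => by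
    rw [HpullThen_natural (S.u i) ((canon M).mate M i) (κ.mate M i) (𝟙 _) q (by
      rw [mate_canon, hq, (EtCoh.pull (S.u i)).map_id]
      exact (Category.id_comp _).symm)]
    exact congrArg _ (Ext.comp_mk₀_id x).symm
  have hbij : Function.Bijective (Sheaf.H.map q n) :=
    ConcreteCategory.bijective_of_isIso ((EtCoh.HF S.c.pt n).map q)
  constructor
  · intro ξ
    obtain ⟨η, rfl⟩ := hbij.2 ξ
    obtain ⟨i, x, rfl⟩ := hs η
    exact ⟨i, x, key i x⟩
  · intro i x hx
    rw [key] at hx
    exact hi i x (hbij.1 (hx.trans (map_zero _).symm))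

end Groth.Agent.EtLimLib
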