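import Groth.Agent.EtLimLib.BigSys

/-!
# Global functions and units commute with limits
-/

set_option autoImplicit false
set_option linter.unusedSectionVars false
set_option linter.style.haveILetI false
set_option backward.isDefEq.respectTransparency false
set_option backward.isDefEq.respectTransparency.types false
set_option maxHeartbeats 1000000

universe u

open CategoryTheory CategoryTheory.Limits AlgebraicGeometry Opposite

noncomputable section

namespace Groth.Agent.EtLimLib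

variable {ι : Type u} [Preorder ι] [Nonempty ι] [IsDirected ι (· ≤ ·)] (S : Sys ι)

theorem appTop_comp_apply {A B C : Scheme.{u}} (a : A ⟶ B) (b : B ⟶ C) (c : A ⟶ C) (h : a ≫ b = c) (z : Γ(C, ⊤)) :
    a.appTop (b.appTop z) = c.appTop z := by
  subst h
  rw [Scheme.Hom.comp_appTop]
  rfl

theorem toAt_fst_eq {l l' : ι} (h : l ≤ l') (U : (S.X l).Etale) :
    toAt S h U ≫ pullback.fst (S.at' h U).hom (S.u l') =
      pullback.map U.hom (S.u l) U.hom (S.t h) (𝟙 _) (S.u l') (𝟙 _) (by simp)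
        (by rw [Category.comp_id]; exact (S.u_t h).symm) := by
  rw [toAt_fst]
  apply pullback.hom_ext <;> simp

theorem exists_appTop_eq (l : ι) (U : (S.X l).Etale) (hU : IsAffine U.left)
    (a : Γ(((EtCoh.bc (S.u l)).obj U).left, ⊤)) :
    ∃ (l' : ι) (h' : l ≤ l') (b : Γ((S.at' h' U).left, ⊤)),
      (toAt S h' U ≫ pullback.fst (S.at' h' U).hom (S.u l')).appTop b = a := by
  haveI : ∀ {a b : ιᵒᵖ} (f : a ⟶ b), IsAffineHom (S.Xs.map f) := fun f => S.aff f
  haveI : IsAffine ((𝟭 Scheme).obj U.left) := hU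
  let D := AffLim.baseChange S.Xs (op l) U.hom
  let cc := AffLim.baseChangeCone S.Xs S.c (op l) U.hom
  haveI : ∀ j, IsAffine (D.obj j) := fun j => by
    haveI : IsAffineHom (pullback.fst U.hom (S.Xs.map j.hom)) :=
      MorphismProperty.pullback_fst (P := @IsAffineHom) _ _ inferInstance
    exact isAffine_of_isAffineHom (pullback.fst U.hom (S.Xs.map j.hom))
  haveI : ∀ {j k : Over (op l)} (f : j ⟶ k), IsAffineHom (D.map f) := fun f => inferInstance
  haveI : ∀ j, CompactSpace (D.obj j) := fun j => inferInstance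
  haveI : ∀ j, QuasiSeparatedSpace (D.obj j) := fun j => inferInstance
  obtain ⟨hcc⟩ := AffLim.nonempty_isLimit_baseChangeCone S.Xs S.c S.hc (op l) U.hom
  obtain ⟨j, b, hb⟩ := exists_appTop_π_eq_of_isLimit D cc hcc a
  obtain ⟨⟨l'⟩, ⟨⟨⟩⟩, f⟩ := j
  have h' : l ≤ l' := leOfHom f.unop
  obtain rfl : f = (homOfLE h').op := Subsingleton.elim _ _
  refine ⟨l', h', b, ?_⟩
  rw [toAt_fst_eq]
  exact hb.symm

theorem exists_appTop_eq_zero (l : ι) (U : (S.X l).Etale) (hU : IsAffine U.left) (a : Γ(U.left, ⊤))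
    (ha : (pullback.fst U.hom (S.u l)).appTop a = 0) :
    ∃ (l' : ι) (h' : l ≤ l'), (S.pr h' U).appTop a = 0 := by
  haveI : ∀ {a b : ιᵒᵖ} (f : a ⟶ b), IsAffineHom (S.Xs.map f) := fun f => S.aff f
  haveI : IsAffine ((𝟭 Scheme).obj U.left) := hU
  let D := AffLim.baseChange S.Xs (op l) U.hom
  let cc := AffLim.baseChangeCone S.Xs S.c (op l) U.hom
  haveI : ∀ j, IsAffine (D.obj j) := fun j => by
    haveI : IsAffineHom (pullback.fst U.hom (S.Xs.map j.hom)) :=
      MorphismProperty.pullback_fst (P := @IsAffineHom) _ _ inferInstance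
    exact isAffine_of_isAffineHom (pullback.fst U.hom (S.Xs.map j.hom))
  haveI : ∀ {j k : Over (op l)} (f : j ⟶ k), IsAffineHom (D.map f) := fun f => inferInstance
  obtain ⟨hcc⟩ := AffLim.nonempty_isLimit_baseChangeCone S.Xs S.c S.hc (op l) U.hom
  let j₀ : Over (op l) := overIdx (le_refl l)
  have h0 : (cc.π.app j₀).appTop ((S.pr (le_refl l) U).appTop a) = 0 := by
    refine Eq.trans ?_ ha
    exact appTop_comp_apply (cc.π.app j₀) (S.pr (le_refl l) U) _
      ((pullback.lift_fst _ _ _).trans (Category.comp_id _)) a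
  obtain ⟨j, f, hf⟩ := exists_appTop_map_eq_zero_of_isLimit D cc hcc (i := j₀) _ h0
  obtain ⟨⟨l'⟩, ⟨⟨⟩⟩, g⟩ := j
  have h' : l ≤ l' := leOfHom g.unop
  obtain rfl : g = (homOfLE h').op := Subsingleton.elim _ _
  refine ⟨l', h', Eq.trans ?_ hf⟩
  exact (appTop_comp_apply (D.map f) (S.pr (le_refl l) U) _
    ((pullback.lift_fst _ _ _).trans (Category.comp_id _)) a).symm

theorem limAdapted_Ga : LimAdapted ⟨EtCoh.ΓAdd.{u}, EtCoh.isSheaf_ΓAdd⟩ S where
  surj l U hU a := by
    obtain ⟨a⟩ := a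
    obtain ⟨l', h', b, hb⟩ := exists_appTop_eq S l U hU a
    exact ⟨l', h', ⟨b⟩, congrArg ULift.up hb⟩
  inj l U hU a ha := by
    obtain ⟨a⟩ := a
    obtain ⟨l', h', e⟩ := exists_appTop_eq_zero S l U hU a (congrArg ULift.down ha)
    exact ⟨l', h', congrArg ULift.up e⟩

theorem limAdapted_Gm : LimAdapted ⟨EtCoh.ΓUnits.{u}, EtCoh.isSheaf_ΓUnits⟩ S where
  surj l U hU a := by
    obtain ⟨a⟩ := a
    let v : Γ(((EtCoh.bc (S.u l)).obj U).left, ⊤)ˣ := Additive.toMul a
    obtain ⟨l₁, h₁, b, hb⟩ := exists_appTop_eq S l U hU v.val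
    obtain ⟨l₂, h₂, c, hc⟩ := exists_appTop_eq S l U hU v.inv
    obtain ⟨m, hm₁, hm₂⟩ := directed_of (α := ι) (· ≤ ·) l₁ l₂
    let b' : Γ((S.at' (h₁.trans hm₁) U).left, ⊤) := (atMap S h₁ hm₁ U).appTop b
    let c' : Γ((S.at' (h₁.trans hm₁) U).left, ⊤) := (atMap S h₂ hm₂ U).appTop c
    haveI : IsAffine ((𝟭 Scheme).obj U.left) := hU
    haveI := S.aff (homOfLE (h₁.trans hm₁)).op
    haveI : IsAffineHom (S.pr (h₁.trans hm₁) U) := MorphismProperty.pullback_fst (P := @IsAffineHom) _ _ inferInstance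
    have hA : IsAffine (S.at' (h₁.trans hm₁) U).left := isAffine_of_isAffineHom (S.pr (h₁.trans hm₁) U)
    let q := toAt S (h₁.trans hm₁) U ≫ pullback.fst (S.at' (h₁.trans hm₁) U).hom (S.u m)
    have hq : ∀ {l₃ : ι} (h₃ : l ≤ l₃) (h₄ : l₃ ≤ m) (z : Γ((S.at' h₃ U).left, ⊤)),
        q.appTop ((atMap S h₃ h₄ U).appTop z) =
          (toAt S h₃ U ≫ pullback.fst (S.at' h₃ U).hom (S.u l₃)).appTop z := fun {l₃} h₃ h₄ z => by
      refine appTop_comp_apply q (atMap S h₃ h₄ U) _ ?_ z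
      show (toAt S (h₁.trans hm₁) U ≫ _) ≫ _ = _
      rw [toAt_fst_eq, toAt_fst_eq]
      apply pullback.hom_ext <;> simp [atMap, S.u_t]
    have hbv : q.appTop b' = v.val := (hq h₁ hm₁ b).trans hb
    have hcv : q.appTop c' = v.inv := (hq h₂ hm₂ c).trans hc
    let d : Γ((S.at' (h₁.trans hm₁) U).left, ⊤) := b' * c' - 1
    have hz : q.appTop d = 0 := by
      show q.appTop.hom d = 0
      simp only [d]
      erw [map_sub, map_mul, map_one, hbv, hcv, v.val_inv, sub_self]
    have hz' : (pullback.fst (S.at' (h₁.trans hm₁) U).hom (S.u m)).appTop d = 0 := by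
      have hid : (bcTo (S.pr (h₁.trans hm₁) U) (S.pr_w (h₁.trans hm₁) U)).left ≫ q =
          pullback.fst (S.at' (h₁.trans hm₁) U).hom (S.u m) := by
        show _ ≫ toAt S (h₁.trans hm₁) U ≫ _ = _
        rw [toAt_fst_eq]
        apply pullback.hom_ext
        · simp [bcTo, Sys.pr]
        · simp [bcTo]
          exact pullback.condition.symm
      rw [← hid, Scheme.Hom.comp_appTop, CommRingCat.comp_apply, hz, map_zero]
    obtain ⟨m', hm', e⟩ := exists_appTop_eq_zero S m (S.at' (h₁.trans hm₁) U) hA _ hz'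
    let π := atMap S (h₁.trans hm₁) hm' U
    have hsplit : ∀ z, (S.pr hm' (S.at' (h₁.trans hm₁) U)).appTop z = 0 → π.appTop z = 0 := fun z hz0 => by
      let r : (S.at' ((h₁.trans hm₁).trans hm') U).left ⟶ (S.at' hm' (S.at' (h₁.trans hm₁) U)).left :=
        pullback.lift π (S.at' ((h₁.trans hm₁).trans hm') U).hom (atMap_w _ _ U)
      rw [show π = r ≫ S.pr hm' (S.at' (h₁.trans hm₁) U) from (pullback.lift_fst _ _ _).symm,
        Scheme.Hom.comp_appTop, CommRingCat.comp_apply, hz0, map_zero]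
    have e' := hsplit _ e
    simp only [d] at e'
    erw [map_sub, map_mul, map_one, sub_eq_zero] at e'
    let w : Γ((S.at' ((h₁.trans hm₁).trans hm') U).left, ⊤)ˣ :=
      ⟨π.appTop b', π.appTop c', e', (mul_comm _ _).trans e'⟩
    refine ⟨m', (h₁.trans hm₁).trans hm', ⟨Additive.ofMul w⟩, ?_⟩
    refine congrArg ULift.up ?_
    refine congrArg Additive.ofMul (Units.ext ?_)
    show (toAt S ((h₁.trans hm₁).trans hm') U ≫ _).appTop (π.appTop b') = v.val
    refine (appTop_comp_apply _ π q ?_ b').trans hbv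
    show _ = toAt S (h₁.trans hm₁) U ≫ _
    rw [toAt_fst_eq, toAt_fst_eq]
    apply pullback.hom_ext <;> simp [π, atMap, S.u_t]
  inj l U hU a ha := by
    obtain ⟨a⟩ := a
    let v : Γ(U.left, ⊤)ˣ := Additive.toMul a
    have hv : (pullback.fst U.hom (S.u l)).appTop v.val = 1 :=
      congrArg (fun z => (Additive.toMul (ULift.down z)).val) ha
    obtain ⟨l', h', e⟩ := exists_appTop_eq_zero S l U hU (v.val - 1) (by rw [map_sub, map_one, hv, sub_self])
    rw [map_sub, map_one, sub_eq_zero] at e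
    exact ⟨l', h', congrArg ULift.up (congrArg Additive.ofMul (Units.ext e))⟩

end Groth.Agent.EtLimLib
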