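import Groth.Agent.EtLimLib.Seq

/-!
# Cohomology of a limit is the colimit of the cohomology of the stages

`Continuity M κ n`: classes of degree `n` on the limit come from stages, and vanish iff they vanish
at a later stage. It holds in every degree when `κ` is a colimit at the points.
-/

set_option autoImplicit false
set_option linter.unusedSectionVars false
set_option linter.style.haveILetI false
set_option backward.isDefEq.respectTransparency false
set_option backward.isDefEq.respectTransparency.types false
set_option maxHeartbeats 1000000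

universe u

open CategoryTheory CategoryTheory.Limits AlgebraicGeometry Opposite Abelian

noncomputable section

namespace Groth.Agent.EtLimLib

variable {ι : Type u} [Preorder ι] [Nonempty ι] [IsDirected ι (· ≤ ·)] {S : Sys ι}

attribute [local instance] hasColimits

theorem exists_lift_stage (M : SysSh S) (n : ℕ) (ihQ : Continuity (coker M) (canon (coker M)) n)
    (ihE : Continuity (embed M) (canon (embed M)) n) (i : ι) (y : EtCoh.H (S.X i) ((coker M).F i) n)
    (w : EtCoh.H S.c.pt (colimit (embed M).diag.G) n)
    (hw : Sheaf.H.map (colimSeq M).g n w =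
      EtLim.HpullThen (S.u i) ((coker M).F i) (colimit.ι (coker M).diag.G i) n y) :
    ∃ (j : ι) (h : i ≤ j) (z : EtCoh.H (S.X j) ((embed M).F j) n),
      EtLim.HpullThen (S.t h) ((coker M).F i) ((coker M).mate h) n y =
        Sheaf.H.map (cokernel.π (embedMap M j)) n z := by
  obtain ⟨-, ihQi⟩ := ihQ
  obtain ⟨ihGs, -⟩ := ihE
  obtain ⟨k, v, rfl⟩ := ihGs w
  obtain ⟨m, him, hkm⟩ := directed_of (α := ι) (· ≤ ·) i k
  let y' := EtLim.HpullThen (S.t him) _ ((coker M).mate him) n y
  let v' := EtLim.HpullThen (S.t hkm) _ ((embed M).mate hkm) n v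
  let v'' : EtCoh.H (S.X m) ((coker M).F m) n := Sheaf.H.map (cokernel.π (embedMap M m)) n v'
  have hcomm : (canon (embed M)).mate _ m ≫ (colimSeq M).g =
      (EtCoh.pull (S.u m)).map (cokernel.π (embedMap M m)) ≫ (canon (coker M)).mate _ m :=
    (congrArg (fun z => z ≫ (colimSeq M).g) (mate_canon _ m)).trans ((embToColim M m).comm₂₃.trans
      (congrArg (fun z => (EtCoh.pull (S.u m)).map (cokernel.π (embedMap M m)) ≫ z) (mate_canon _ m)).symm)
  have e1 := HpullThen_natural (S.u m) ((canon (embed M)).mate _ m) ((canon (coker M)).mate _ m)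
    (cokernel.π (embedMap M m)) (colimSeq M).g hcomm n v'
  have hy' : EtLim.HpullThen (S.u m) _ ((canon (coker M)).mate _ m) n (y' - v'') = 0 := by
    refine (map_sub _ _ _).trans (sub_eq_zero.2 ?_)
    refine (HpullThen_trans (canon (coker M)) him n y).trans ?_
    refine Eq.trans ?_ e1
    refine Eq.trans ?_ (congrArg (Sheaf.H.map (colimSeq M).g n) (HpullThen_trans (canon (embed M)) hkm n v)).symm
    exact (congrArg (fun a => EtLim.HpullThen (S.u i) _ a n y) (mate_canon _ i)).trans hw.symm
  obtain ⟨j, hmj, hj⟩ := ihQi m _ hy'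
  exact ⟨j, him.trans hmj, EtLim.HpullThen (S.t hmj) _ ((embed M).mate hmj) n v',
    (HpullThen_mate_trans (coker M) him hmj n y).symm.trans
      ((sub_eq_zero.1 ((map_sub _ _ _).symm.trans hj)).trans (HpullThen_natural (S.t hmj) ((embed M).mate hmj)
        ((coker M).mate hmj) _ _ (mate_comm_coker M hmj) n v').symm)⟩

theorem step_inj (M : SysSh S) (n : ℕ) (ihQ : Continuity (coker M) (canon (coker M)) n)
    (ihE : Continuity (embed M) (canon (embed M)) n) (i : ι) (x : EtCoh.H (S.X i) (M.F i) (n + 1))
    (hx : EtLim.HpullThen (S.u i) (M.F i) ((canon M).mate M i) (n + 1) x = 0) :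
    ∃ (j : ι) (h : i ≤ j), EtLim.HpullThen (S.t h) (M.F i) (M.mate h) (n + 1) x = 0 := by
  haveI : Injective (embSC M i).X₂ := injective_embedObj M i
  obtain ⟨y, hy⟩ := Ext.covariant_sequence_exact₁ _ (shortExact_embSC M i) x (Ext.eq_zero_of_injective _)
    (rfl : n + 1 = n + 1)
  rw [mate_canon, ← hy] at hx
  obtain ⟨w, hw⟩ := exists_lift_of_HpullThen_eq_zero (S.u i) (shortExact_embSC M i) (shortExact_colimSeq M)
    (embToColim M i) y hx
  obtain ⟨j, h, z, hz⟩ := exists_lift_stage M n ihQ ihE i y w hw
  refine ⟨j, h, ?_⟩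
  rw [← hy]
  exact HpullThen_eq_zero_of_lift (S.t h) (shortExact_embSC M i) (shortExact_embSC M j) (embTrans M h) y z hz

theorem continuity_canon : ∀ (n : ℕ) (M : SysSh S), Continuity M (canon M) n := by
  intro n
  induction n with
  | zero => intro M; exact continuity_zero (isColim_cocone M.diag (colimit.isColimit _))
  | succ n ih =>
    intro M
    exact ⟨step_surj M n (ih (coker M)), step_inj M n (ih (coker M)) (ih (embed M))⟩

end Groth.Agent.EtLimLib
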