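import Groth.Agent.EtLimLib.General
import Groth.Agent.EtLimLib.Bridge

/-!
# The system of direct images of a sheaf on the limit
-/

set_option autoImplicit false
set_option linter.unusedSectionVars false
set_option linter.style.haveILetI false
set_option backward.isDefEq.respectTransparency false
set_option backward.isDefEq.respectTransparency.types false
set_option maxHeartbeats 1000000

universe u

open CategoryTheory CategoryTheory.Limits AlgebraicGeometry Opposite

noncomputable section

namespace Groth.Agent.EtLimLib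

variable {ι : Type u} [Preorder ι] [Nonempty ι] [IsDirected ι (· ≤ ·)] (S : Sys ι) (F : EtCoh.Ab S.c.pt)

/-- The direct images to the stages. -/
def pushSys : SysSh S where
  F i := (EtCoh.push (S.u i)).obj F
  φ i j h := (pushSp (S.t h) (S.u j) (S.u i) (S.u_t h)).app F
  cocycle i j k h h' := pushSp_assoc (S.t h) (S.t h') (S.u k) (S.t (h.trans h')) (S.u j) (S.u i) (S.t_t h h')
    (S.u_t h') (S.u_t (h.trans h')) (S.u_t h) F
  refl i W s := by
    show F.obj.map (bcSp (S.t (le_refl i)) (S.u i) (S.u i) (S.u_t (le_refl i)) W).op s =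
      F.obj.map ((EtCoh.bc (S.u i)).map (prSelf S i W)).op s
    congr 3

/-- The tautological cocone. -/
def pushCocone : CoconeSh (pushSys S F) F where
  ψ i := 𝟙 ((EtCoh.push (S.u i)).obj F)
  comm i j h := by
    refine Eq.trans ?_ (congrArg (fun a => (pushSys S F).φ h ≫ a) ((EtCoh.push (S.t h)).map_id _)).symm
    exact (Category.id_comp _).trans (Category.comp_id _).symm

theorem isColim_pushCocone : IsColim (pushCocone S F) := by
  constructor
  · intro i W s x hx
    obtain ⟨V, g, v, e, hv⟩ := (mem_agree_iff _ _ _ _).1 hx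
    obtain ⟨l, hl, U, _, m, hm, b, p, hp, hb⟩ := exists_refine S W g v
    refine ⟨l, hl, ?_⟩
    have hxp : (bcTo m hm).left p = x := by
      rw [← hb, ← hv, ← hp]
      exact Scheme.Hom.comp_apply b.left g.left p
    rw [← hxp, atPt_bcTo]
    refine (HensH0.mem_agree_map_iff ((pushSys S F).F l) (mkHom m hm) ((pushSys S F).res hl s) 0
      (pullback.fst U.hom (S.u l) p)).1 ?_
    refine (mem_agree_iff _ _ _ _).2 ⟨_, 𝟙 _, pullback.fst U.hom (S.u l) p, ?_, rfl⟩
    have h0 : (pushSys S F).resTo m hm s = 0 := by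
      refine ((pushCocone S F).app_resTo m hm s).trans ?_
      rw [← hb, op_comp, Functor.map_comp_apply]
      refine (congrArg (F.obj.map b.op) e).trans ?_
      rw [map_zero]
      exact map_zero _
    exact congrArg _ (h0.trans (map_zero _).symm)
  · intro V t v
    obtain ⟨k⟩ := ‹Nonempty ι›
    let g : V ⟶ (EtCoh.bc (S.u k)).obj (EtCoh.top (S.X k)) := (EtCore.bcTopIsTerminal (S.u k)).from V
    obtain ⟨l, hl, U, _, m, hm, b, p, hp, -⟩ := exists_refine S (EtCoh.top (S.X k)) g v
    exact ⟨l, U, F.obj.map b.op t, b, p, hp, (mem_agree_iff _ _ _ _).2 ⟨_, 𝟙 _, p, rfl, rfl⟩⟩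

theorem pushCocone_mate (i : ι) :
    (pushCocone S F).mate (pushSys S F) i = (EtCoh.pullPushAdj (S.u i)).counit.app F := by
  rw [CoconeSh.mate, Adjunction.homEquiv_counit]
  show (EtCoh.pull (S.u i)).map (𝟙 _) ≫ _ = _
  rw [(EtCoh.pull (S.u i)).map_id]
  exact Category.id_comp _

end Groth.Agent.EtLimLib
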