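import Groth.Agent.EtLimLib.Acyclic
import Groth.Agent.EtLimLib.Hpull
import Groth.Prelude.Def_EtLim

/-!
# Cohomology of a limit is the colimit of the cohomology of the stages

`Continuity M κ n`: classes of degree `n` on the limit come from stages, and vanish iff they vanish
at a later stage. It holds in every degree when `κ` is a colimit at the points.
-/

set_option autoImplicit false
set_option linter.unusedSectionVars false
set_option linter.style.haveILetI false
set_option backward.isDefEq.respectTransparency false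
set_option backward.isDefEq.respectTransparency.types false
set_option maxHeartbeats 1000000

universe u

open CategoryTheory CategoryTheory.Limits AlgebraicGeometry Opposite Abelian

noncomputable section

namespace Groth.Agent.EtLimLib



variable {ι : Type u} [Preorder ι] [Nonempty ι] [IsDirected ι (· ≤ ·)] {S : Sys ι}

/-- The hypotheses recording exactness of inverse images. -/
instance preservesFiniteLimits_pull_t {i j : ι} (h : i ≤ j) : PreservesFiniteLimits (EtCoh.pull (S.t h)) :=
  S0101.result _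

instance preservesFiniteLimits_pull_u (i : ι) : PreservesFiniteLimits (EtCoh.pull (S.u i)) := S0101.result _

variable (M : SysSh S) {E : EtCoh.Ab S.c.pt} (κ : CoconeSh M E)

/-- The adjoint of a component of a cocone. -/
abbrev CoconeSh.mate (i : ι) : (EtCoh.pull (S.u i)).obj (M.F i) ⟶ E :=
  ((EtCoh.pullPushAdj (S.u i)).homEquiv _ _).symm (κ.ψ i)

/-- The adjoint of a transition map. -/
abbrev SysSh.mate {i j : ι} (h : i ≤ j) : (EtCoh.pull (S.t h)).obj (M.F i) ⟶ M.F j :=
  ((EtCoh.pullPushAdj (S.t h)).homEquiv _ _).symm (M.φ h)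

/-- Classes on the limit come from stages and vanish at a stage. -/
def Continuity (n : ℕ) : Prop :=
  (∀ ξ : EtCoh.H S.c.pt E n, ∃ (i : ι) (x : EtCoh.H (S.X i) (M.F i) n),
    EtLim.HpullThen (S.u i) (M.F i) (κ.mate M i) n x = ξ) ∧
  (∀ (i : ι) (x : EtCoh.H (S.X i) (M.F i) n), EtLim.HpullThen (S.u i) (M.F i) (κ.mate M i) n x = 0 →
    ∃ (j : ι) (h : i ≤ j), EtLim.HpullThen (S.t h) (M.F i) (M.mate h) n x = 0)

variable {M κ}

theorem equiv₀_mate (i : ι) (x : EtCoh.H (S.X i) (M.F i) 0) :
    Sheaf.H.equiv₀ E (EtCore.topIsTerminal S.c.pt) (EtLim.HpullThen (S.u i) (M.F i) (κ.mate M i) 0 x) =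
      E.obj.map (EtCore.bcTopIso (S.u i)).inv.op (κ.app (Sheaf.H.equiv₀ (M.F i) (EtCore.topIsTerminal (S.X i)) x)) := by
  rw [equiv₀_HpullThen, Equiv.apply_symm_apply]

theorem equiv₀_trans {i j : ι} (h : i ≤ j) (x : EtCoh.H (S.X i) (M.F i) 0) :
    Sheaf.H.equiv₀ (M.F j) (EtCore.topIsTerminal (S.X j)) (EtLim.HpullThen (S.t h) (M.F i) (M.mate h) 0 x) =
      (M.F j).obj.map (EtCore.bcTopIso (S.t h)).inv.op (M.res h (Sheaf.H.equiv₀ (M.F i) (EtCore.topIsTerminal (S.X i)) x)) := by
  rw [equiv₀_HpullThen, Equiv.apply_symm_apply]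

theorem HpullThen_trans (κ : CoconeSh M E) {i j : ι} (h : i ≤ j) (n : ℕ) (x : EtCoh.H (S.X i) (M.F i) n) :
    EtLim.HpullThen (S.u j) (M.F j) (κ.mate M j) n (EtLim.HpullThen (S.t h) (M.F i) (M.mate h) n x) =
      EtLim.HpullThen (S.u i) (M.F i) (κ.mate M i) n x := by
  refine (HpullThen_comp (S.t h) (S.u j) (S.u i) (S.u_t h) (M.mate h) (κ.mate M j) (κ.mate M i) ?_ n x).symm
  rw [Equiv.apply_symm_apply, Equiv.apply_symm_apply, Equiv.apply_symm_apply]
  rw [← Category.assoc, ← κ.comm h, Category.assoc, pushSp_pushJoin]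
  exact (Category.comp_id _).symm

theorem HpullThen_mate_trans (M : SysSh S) {i j k : ι} (h : i ≤ j) (h' : j ≤ k) (n : ℕ)
    (x : EtCoh.H (S.X i) (M.F i) n) :
    EtLim.HpullThen (S.t h') (M.F j) (M.mate h') n (EtLim.HpullThen (S.t h) (M.F i) (M.mate h) n x) =
      EtLim.HpullThen (S.t (h.trans h')) (M.F i) (M.mate (h.trans h')) n x := by
  refine (HpullThen_comp (S.t h) (S.t h') (S.t (h.trans h')) (S.t_t h h') (M.mate h) (M.mate h')
    (M.mate (h.trans h')) ?_ n x).symm
  rw [Equiv.apply_symm_apply, Equiv.apply_symm_apply, Equiv.apply_symm_apply]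
  rw [← Category.assoc, ← M.cocycle h h', Category.assoc, pushSp_pushJoin]
  exact (Category.comp_id _).symm

theorem continuity_zero (hκ : IsColim κ) : Continuity M κ 0 := by
  haveI : ∀ i, CompactSpace (EtCoh.top (S.X i)).left := fun i => S.qc (op i)
  haveI : ∀ i, QuasiSeparatedSpace (EtCoh.top (S.X i)).left := fun i => S.qs (op i)
  constructor
  · intro ξ
    obtain ⟨k⟩ := ‹Nonempty ι›
    let T := EtCoh.top (S.X k)
    obtain ⟨j, h, s, hs⟩ := exists_app_eq hκ T
      (E.obj.map (EtCore.bcTopIso (S.u k)).hom.op (Sheaf.H.equiv₀ E (EtCore.topIsTerminal S.c.pt) ξ))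
    let x := (Sheaf.H.equiv₀ (M.F j) (EtCore.topIsTerminal (S.X j))).symm
      ((M.F j).obj.map (EtCore.bcTopIso (S.t h)).inv.op s)
    refine ⟨j, x, (Sheaf.H.equiv₀ E (EtCore.topIsTerminal S.c.pt)).injective ?_⟩
    rw [equiv₀_mate, AddEquiv.apply_symm_apply, κ.app_map, hs, ← Functor.map_comp_apply, ← Functor.map_comp_apply,
      ← Functor.map_comp_apply, ← op_comp, ← op_comp, ← op_comp]
    refine (congrArg (fun q : EtCoh.top S.c.pt ⟶ EtCoh.top S.c.pt => E.obj.map q.op _)
      ((EtCore.topIsTerminal S.c.pt).hom_ext _ (𝟙 _))).trans ?_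
    rw [op_id, CategoryTheory.Functor.map_id]
    rfl
  · intro i x hx
    have hs : κ.app (Sheaf.H.equiv₀ (M.F i) (EtCore.topIsTerminal (S.X i)) x) = 0 := by
      have h0 := equiv₀_mate (κ := κ) i x
      rw [hx, map_zero] at h0
      have := congrArg (E.obj.map (EtCore.bcTopIso (S.u i)).hom.op) h0.symm
      rw [← Functor.map_comp_apply, ← op_comp, Iso.hom_inv_id, op_id, CategoryTheory.Functor.map_id, map_zero] at this
      exact this
    obtain ⟨j, h, e⟩ := exists_res_eq_zero hκ _ _ hs
    refine ⟨j, h, (Sheaf.H.equiv₀ (M.F j) (EtCore.topIsTerminal (S.X j))).injective ?_⟩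
    rw [equiv₀_trans, e, map_zero, map_zero]

/-- The short complex of systems given by the embedding, on a stage. -/
abbrev embSC (M : SysSh S) (i : ι) : ShortComplex (EtCoh.Ab (S.X i)) :=
  ShortComplex.mk (embedMap M i) (cokernel.π (embedMap M i)) (cokernel.condition _)

theorem shortExact_embSC (M : SysSh S) (i : ι) : (embSC M i).ShortExact :=
  { exact := ShortComplex.exact_cokernel _, mono_f := mono_embedMap M i }

/-- The map of diagrams of inverse images of the embedding. -/
def embDiag (M : SysSh S) : M.diag.G ⟶ (embed M).diag.G where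
  app i := (EtCoh.pull (S.u i)).map (embedMap M i)
  naturality i j f := by
    show M.diagMap (leOfHom f) ≫ _ = _ ≫ (embed M).diagMap (leOfHom f)
    apply ((EtCoh.pullPushAdj (S.u i)).homEquiv _ _).injective
    rw [Adjunction.homEquiv_naturality_right, Adjunction.homEquiv_naturality_left, SysSh.diagMap, SysSh.diagMap,
      Equiv.apply_symm_apply, Equiv.apply_symm_apply, ← Category.assoc (embedMap M i), embedMap_comm]
    simp only [Category.assoc]
    refine congrArg (M.φ (leOfHom f) ≫ ·) ?_
    rw [← Category.assoc ((EtCoh.push (S.t (leOfHom f))).map (embedMap M j)), ← Functor.map_comp]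
    have hn : embedMap M j ≫ (EtCoh.pullPushAdj (S.u j)).unit.app ((embed M).F j) =
        (EtCoh.pullPushAdj (S.u j)).unit.app (M.F j) ≫ (EtCoh.push (S.u j)).map ((EtCoh.pull (S.u j)).map (embedMap M j)) :=
      (EtCoh.pullPushAdj (S.u j)).unit.naturality (embedMap M j)
    rw [hn, Functor.map_comp, Category.assoc]
    refine congrArg (_ ≫ ·) ?_
    refine ObjectProperty.hom_ext _ (NatTrans.ext (funext fun W => ?_))
    exact (((EtCoh.pull (S.u j)).map (embedMap M j)).hom.naturality _)

/-- The map of diagrams of inverse images of the cokernels. -/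
def cokDiag (M : SysSh S) : (embed M).diag.G ⟶ (coker M).diag.G where
  app i := (EtCoh.pull (S.u i)).map (cokernel.π (embedMap M i))
  naturality i j f := by
    show (embed M).diagMap (leOfHom f) ≫ _ = _ ≫ (coker M).diagMap (leOfHom f)
    apply ((EtCoh.pullPushAdj (S.u i)).homEquiv _ _).injective
    rw [Adjunction.homEquiv_naturality_right, Adjunction.homEquiv_naturality_left, SysSh.diagMap, SysSh.diagMap,
      Equiv.apply_symm_apply, Equiv.apply_symm_apply]
    show _ = cokernel.π (embedMap M i) ≫ cokerφ M (leOfHom f) ≫ _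
    rw [← Category.assoc (cokernel.π (embedMap M i)), π_cokerφ]
    simp only [Category.assoc]
    refine congrArg ((embed M).φ (leOfHom f) ≫ ·) ?_
    rw [← Category.assoc ((EtCoh.push (S.t (leOfHom f))).map (cokernel.π (embedMap M j))), ← Functor.map_comp]
    have hn : cokernel.π (embedMap M j) ≫ (EtCoh.pullPushAdj (S.u j)).unit.app ((coker M).F j) =
        (EtCoh.pullPushAdj (S.u j)).unit.app ((embed M).F j) ≫
          (EtCoh.push (S.u j)).map ((EtCoh.pull (S.u j)).map (cokernel.π (embedMap M j))) :=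
      (EtCoh.pullPushAdj (S.u j)).unit.naturality (cokernel.π (embedMap M j))
    rw [hn, Functor.map_comp, Category.assoc]
    refine congrArg (_ ≫ ·) ?_
    refine ObjectProperty.hom_ext _ (NatTrans.ext (funext fun W => ?_))
    exact (((EtCoh.pull (S.u j)).map (cokernel.π (embedMap M j))).hom.naturality _)

/-- The canonical cocone of a system. -/
abbrev canon (M : SysSh S) [HasColimit M.diag.G] : CoconeSh M (colimit M.diag.G) :=
  M.diag.cocone (colimit.cocone M.diag.G)

theorem mate_cocone {M : SysSh S} (γ : Cocone M.diag.G) (i : ι) :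
    (M.diag.cocone γ).mate M i = γ.ι.app i := by
  apply ((EtCoh.pullPushAdj (S.u i)).homEquiv _ _).injective
  rw [Equiv.apply_symm_apply, Adjunction.homEquiv_unit]
  rfl

theorem mate_comm (M : SysSh S) {i j : ι} (h : i ≤ j) :
    M.mate h ≫ embedMap M j = (EtCoh.pull (S.t h)).map (embedMap M i) ≫ (embed M).mate h := by
  apply ((EtCoh.pullPushAdj (S.t h)).homEquiv _ _).injective
  rw [Adjunction.homEquiv_naturality_right, Adjunction.homEquiv_naturality_left, Equiv.apply_symm_apply,
    Equiv.apply_symm_apply, embedMap_comm]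

theorem mate_comm_coker (M : SysSh S) {i j : ι} (h : i ≤ j) :
    (embed M).mate h ≫ cokernel.π (embedMap M j) =
      (EtCoh.pull (S.t h)).map (cokernel.π (embedMap M i)) ≫ (coker M).mate h := by
  apply ((EtCoh.pullPushAdj (S.t h)).homEquiv _ _).injective
  rw [Adjunction.homEquiv_naturality_right, Adjunction.homEquiv_naturality_left, Equiv.apply_symm_apply]
  exact (π_cokerφ M h).symm.trans (congrArg (cokernel.π (embedMap M i) ≫ ·) (Equiv.apply_symm_apply _ _).symm)

/-- The transition of the short complexes. -/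
def embTrans (M : SysSh S) {i j : ι} (h : i ≤ j) : (embSC M i).map (EtCoh.pull (S.t h)) ⟶ embSC M j where
  τ₁ := M.mate h
  τ₂ := (embed M).mate h
  τ₃ := (coker M).mate h
  comm₁₂ := mate_comm M h
  comm₂₃ := mate_comm_coker M h

theorem hasExactColimits (ι : Type u) [Preorder ι] [Nonempty ι] [IsDirected ι (· ≤ ·)] (X : Scheme.{u}) :
    HasExactColimitsOfShape ι (EtCoh.Ab X) := by
  haveI : IsGrothendieckAbelian.{u + 1} (EtCoh.Ab X) := inferInstance
  haveI := AB5OfSize_shrink.{u, u, u + 1, u + 1} (EtCoh.Ab X)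
  infer_instance

theorem hasColimits (ι : Type u) [Preorder ι] (X : Scheme.{u}) : HasColimitsOfShape ι (EtCoh.Ab X) :=
  hasColimitsOfShape_of_equivalence (AsSmall.equiv : ι ≌ AsSmall.{u + 1} ι).symm

attribute [local instance] hasColimits

/-- The embedding as a short complex of diagrams of inverse images. -/
def embSeq (M : SysSh S) : ShortComplex (ι ⥤ EtCoh.Ab S.c.pt) :=
  ShortComplex.mk (embDiag M) (cokDiag M) (by
    refine NatTrans.ext (funext fun i => ?_)
    exact ((EtCoh.pull (S.u i)).map_comp _ _).symm.trans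
      ((congrArg (EtCoh.pull (S.u i)).map (cokernel.condition (embedMap M i))).trans ((EtCoh.pull (S.u i)).map_zero _ _)))

theorem shortExact_embSeq (M : SysSh S) : (embSeq M).ShortExact := by
  have hse : ∀ i, ((embSeq M).map ((evaluation ι (EtCoh.Ab S.c.pt)).obj i)).ShortExact := fun i =>
    (shortExact_embSC M i).map_of_exact (EtCoh.pull (S.u i))
  haveI : ∀ i, Mono ((embSeq M).f.app i) := fun i => (hse i).mono_f
  haveI : ∀ i, Epi ((embSeq M).g.app i) := fun i => (hse i).epi_g
  haveI : Mono (embSeq M).f := NatTrans.mono_of_mono_app _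
  haveI : Epi (embSeq M).g := NatTrans.epi_of_epi_app _
  refine ⟨?_⟩
  rw [ShortComplex.exact_iff_isZero_homology]
  exact Functor.isZero _ fun i => ((ShortComplex.exact_iff_isZero_homology _).1 (hse i).exact).of_iso
    ((embSeq M).mapHomologyIso ((evaluation ι (EtCoh.Ab S.c.pt)).obj i)).symm

/-- The colimit of the embedding. -/
abbrev colimSeq (M : SysSh S) : ShortComplex (EtCoh.Ab S.c.pt) :=
  (embSeq M).map (colim (J := ι) (C := EtCoh.Ab S.c.pt))

theorem shortExact_colimSeq (M : SysSh S) : (colimSeq M).ShortExact := by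
  haveI := hasExactColimits ι S.c.pt
  exact (shortExact_embSeq M).map_of_exact _

/-- The comparison with the colimit. -/
def embToColim (M : SysSh S) (i : ι) : (embSC M i).map (EtCoh.pull (S.u i)) ⟶ colimSeq M where
  τ₁ := colimit.ι M.diag.G i
  τ₂ := colimit.ι (embed M).diag.G i
  τ₃ := colimit.ι (coker M).diag.G i
  comm₁₂ := (ι_colimMap (embDiag M) i).trans rfl
  comm₂₃ := (ι_colimMap (cokDiag M) i).trans rfl

theorem subsingleton_colimSeq (M : SysSh S) (n : ℕ) : Subsingleton (EtCoh.H S.c.pt (colimSeq M).X₂ (n + 1)) :=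
  subsingleton_H_of_injective (isColim_cocone (embed M).diag (colimit.isColimit _))
    (fun i => injective_embedObj M i) n

theorem mate_canon (N : SysSh S) (i : ι) : (canon N).mate N i = colimit.ι N.diag.G i := mate_cocone _ i

theorem step_surj (M : SysSh S) (n : ℕ) (ihQ : Continuity (coker M) (canon (coker M)) n)
    (ξ : EtCoh.H S.c.pt (colimit M.diag.G) (n + 1)) :
    ∃ (i : ι) (x : EtCoh.H (S.X i) (M.F i) (n + 1)),
      EtLim.HpullThen (S.u i) (M.F i) ((canon M).mate M i) (n + 1) x = ξ := by
  obtain ⟨ihQs, -⟩ := ihQ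
  obtain ⟨η, rfl⟩ := Ext.covariant_sequence_exact₁ _ (shortExact_colimSeq M) ξ (@Subsingleton.elim _ (subsingleton_colimSeq M n) _ _) (rfl : n + 1 = n + 1)
  obtain ⟨i, y, rfl⟩ := ihQs η
  refine ⟨i, y.comp (shortExact_embSC M i).extClass rfl, ?_⟩
  rw [mate_canon]
  refine (HpullThen_extClass (S.u i) (shortExact_embSC M i) (shortExact_colimSeq M) (embToColim M i) y).trans ?_
  rw [mate_canon]
  rfl

end Groth.Agent.EtLimLib
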