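import Groth.Agent.EtLimLib.Stage

/-!
# Systems of abelian sheaves on the stages

`pushSp` is the identification `(t₃)_* → (t₁)_* (t₂)_*` for `t₂ ≫ t₁ = t₃`. `SysSh` is a system of
sheaves in the form `F i → (t_ij)_* F j`, `CoconeSh` a cocone `F i → (u_i)_* E` under it.
-/

set_option autoImplicit false
set_option linter.unusedSectionVars false
set_option linter.style.haveILetI false
set_option backward.isDefEq.respectTransparency false
set_option backward.isDefEq.respectTransparency.types false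
set_option maxHeartbeats 1000000

universe u

open CategoryTheory CategoryTheory.Limits AlgebraicGeometry Opposite

noncomputable section

namespace Groth.Agent.EtLimLib

theorem bc_map_fst {A B : Scheme.{u}} (f : B ⟶ A) {W W' : A.Etale} (g : W ⟶ W') :
    ((EtCoh.bc f).map g).left ≫ pullback.fst W'.hom f = pullback.fst W.hom f ≫ g.left :=
  (EtCoh.isPullback_bc_map f g).w

section Sp

variable {A B C : Scheme.{u}} (t₁ : B ⟶ A) (t₂ : C ⟶ B) (t₃ : C ⟶ A) (w : t₂ ≫ t₁ = t₃)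

/-- The iterated base change maps to the base change along the composite. -/
def bcSp (W : A.Etale) : (EtCoh.bc t₂).obj ((EtCoh.bc t₁).obj W) ⟶ (EtCoh.bc t₃).obj W :=
  MorphismProperty.Over.homMk
    (pullback.map ((EtCoh.bc t₁).obj W).hom t₂ W.hom t₃ (pullback.fst W.hom t₁) (𝟙 _) t₁
      pullback.condition.symm (by rw [Category.id_comp]; exact w))
    (by
      show pullback.map _ _ _ _ _ _ _ _ _ ≫ pullback.snd W.hom t₃ = pullback.snd ((EtCoh.bc t₁).obj W).hom t₂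
      simp)

theorem bcSp_fst (W : A.Etale) :
    (bcSp t₁ t₂ t₃ w W).left ≫ pullback.fst W.hom t₃ =
      pullback.fst ((EtCoh.bc t₁).obj W).hom t₂ ≫ pullback.fst W.hom t₁ :=
  pullback.lift_fst _ _ _

theorem bcSp_naturality {W W' : A.Etale} (g : W ⟶ W') :
    (EtCoh.bc t₂).map ((EtCoh.bc t₁).map g) ≫ bcSp t₁ t₂ t₃ w W' = bcSp t₁ t₂ t₃ w W ≫ (EtCoh.bc t₃).map g := by
  refine bc_ext t₃ ?_
  show (((EtCoh.bc t₂).map ((EtCoh.bc t₁).map g)).left ≫ (bcSp t₁ t₂ t₃ w W').left) ≫ _ =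
    ((bcSp t₁ t₂ t₃ w W).left ≫ ((EtCoh.bc t₃).map g).left) ≫ _
  rw [Category.assoc, Category.assoc, bcSp_fst, bc_map_fst, ← Category.assoc, bc_map_fst, Category.assoc,
    bc_map_fst, ← Category.assoc, ← bcSp_fst t₁ t₂ t₃ w W, Category.assoc]

/-- `t₃_* → t₁_* t₂_*` for `t₂ ≫ t₁ = t₃`. -/
def pushSp : EtCoh.push t₃ ⟶ EtCoh.push t₂ ⋙ EtCoh.push t₁ where
  app G := ObjectProperty.homMk
    { app := fun W => G.obj.map (bcSp t₁ t₂ t₃ w W.unop).op
      naturality := fun W W' g => by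
        show G.obj.map ((EtCoh.bc t₃).map g.unop).op ≫ G.obj.map (bcSp t₁ t₂ t₃ w W'.unop).op =
          G.obj.map (bcSp t₁ t₂ t₃ w W.unop).op ≫ G.obj.map ((EtCoh.bc t₂).map ((EtCoh.bc t₁).map g.unop)).op
        rw [← Functor.map_comp, ← Functor.map_comp, ← op_comp, ← op_comp, bcSp_naturality] }
  naturality G G' a := by
    refine ObjectProperty.hom_ext _ (NatTrans.ext (funext fun W => ?_))
    exact (a.hom.naturality _).symm

theorem pushSp_apply (G : EtCoh.Ab C) (W : A.Etale) (s : EtCoh.sect G ((EtCoh.bc t₃).obj W)) :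
    ((pushSp t₁ t₂ t₃ w).app G).hom.app (op W) s = G.obj.map (bcSp t₁ t₂ t₃ w W).op s := rfl

/-- Inverse of `bcSp`. -/
def bcSpInv (W : A.Etale) : (EtCoh.bc t₃).obj W ⟶ (EtCoh.bc t₂).obj ((EtCoh.bc t₁).obj W) :=
  MorphismProperty.Over.homMk
    (pullback.lift (pullback.lift (pullback.fst W.hom t₃) (pullback.snd W.hom t₃ ≫ t₂)
      (by rw [Category.assoc, w]; exact pullback.condition)) (pullback.snd W.hom t₃) (pullback.lift_snd _ _ _))
    (pullback.lift_snd _ _ _)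

theorem bcSpInv_fst (W : A.Etale) :
    (bcSpInv t₁ t₂ t₃ w W).left ≫ pullback.fst ((EtCoh.bc t₁).obj W).hom t₂ =
      pullback.lift (pullback.fst W.hom t₃) (pullback.snd W.hom t₃ ≫ t₂)
        (by rw [Category.assoc, w]; exact pullback.condition) :=
  pullback.lift_fst _ _ _

theorem bcSpInv_bcSp (W : A.Etale) : bcSpInv t₁ t₂ t₃ w W ≫ bcSp t₁ t₂ t₃ w W = 𝟙 _ := by
  refine bc_ext _ ?_
  show ((bcSpInv t₁ t₂ t₃ w W).left ≫ (bcSp t₁ t₂ t₃ w W).left) ≫ _ = 𝟙 _ ≫ _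
  rw [Category.assoc, bcSp_fst, ← Category.assoc, bcSpInv_fst, pullback.lift_fst, Category.id_comp]

theorem bcSp_bcSpInv (W : A.Etale) : bcSp t₁ t₂ t₃ w W ≫ bcSpInv t₁ t₂ t₃ w W = 𝟙 _ := by
  refine bc_ext _ (pullback.hom_ext ?_ ?_)
  · show (((bcSp t₁ t₂ t₃ w W).left ≫ (bcSpInv t₁ t₂ t₃ w W).left) ≫ _) ≫ _ = (𝟙 _ ≫ _) ≫ _
    rw [Category.assoc _ (bcSpInv t₁ t₂ t₃ w W).left, bcSpInv_fst, Category.assoc, pullback.lift_fst, bcSp_fst,
      Category.id_comp]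
  · have h2 : (bcSp t₁ t₂ t₃ w W).left ≫ pullback.snd W.hom t₃ = pullback.snd ((EtCoh.bc t₁).obj W).hom t₂ :=
      MorphismProperty.Over.w (bcSp t₁ t₂ t₃ w W)
    show (((bcSp t₁ t₂ t₃ w W).left ≫ (bcSpInv t₁ t₂ t₃ w W).left) ≫ _) ≫ _ = (𝟙 _ ≫ _) ≫ _
    rw [Category.assoc _ (bcSpInv t₁ t₂ t₃ w W).left, bcSpInv_fst, Category.assoc, pullback.lift_snd,
      reassoc_of% h2, Category.id_comp]
    exact pullback.condition.symm

theorem bcSpInv_naturality {W W' : A.Etale} (g : W ⟶ W') :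
    bcSpInv t₁ t₂ t₃ w W ≫ (EtCoh.bc t₂).map ((EtCoh.bc t₁).map g) = (EtCoh.bc t₃).map g ≫ bcSpInv t₁ t₂ t₃ w W' := by
  haveI : IsIso (bcSp t₁ t₂ t₃ w W') :=
    ⟨bcSpInv t₁ t₂ t₃ w W', bcSp_bcSpInv t₁ t₂ t₃ w W', bcSpInv_bcSp t₁ t₂ t₃ w W'⟩
  rw [← cancel_mono (bcSp t₁ t₂ t₃ w W'), Category.assoc, Category.assoc, bcSp_naturality,
    bcSpInv_bcSp, Category.comp_id, ← Category.assoc, bcSpInv_bcSp, Category.id_comp]

/-- `t₁_* t₂_* → t₃_*`. -/
def pushJoin (G : EtCoh.Ab C) :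
    (EtCoh.push t₁).obj ((EtCoh.push t₂).obj G) ⟶ (EtCoh.push t₃).obj G :=
  ObjectProperty.homMk
    { app := fun W => G.obj.map (bcSpInv t₁ t₂ t₃ w W.unop).op
      naturality := fun W W' g => by
        show G.obj.map ((EtCoh.bc t₂).map ((EtCoh.bc t₁).map g.unop)).op ≫ G.obj.map (bcSpInv t₁ t₂ t₃ w W'.unop).op =
          G.obj.map (bcSpInv t₁ t₂ t₃ w W.unop).op ≫ G.obj.map ((EtCoh.bc t₃).map g.unop).op
        rw [← Functor.map_comp, ← Functor.map_comp, ← op_comp, ← op_comp, bcSpInv_naturality] }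

theorem pushJoin_pushSp (G : EtCoh.Ab C) :
    pushJoin t₁ t₂ t₃ w G ≫ (pushSp t₁ t₂ t₃ w).app G = 𝟙 _ := by
  refine ObjectProperty.hom_ext _ (NatTrans.ext (funext fun W => ?_))
  show G.obj.map (bcSpInv t₁ t₂ t₃ w W.unop).op ≫ G.obj.map (bcSp t₁ t₂ t₃ w W.unop).op = 𝟙 _
  rw [← Functor.map_comp, ← op_comp, bcSp_bcSpInv, op_id, CategoryTheory.Functor.map_id]

theorem pushSp_pushJoin (G : EtCoh.Ab C) :
    (pushSp t₁ t₂ t₃ w).app G ≫ pushJoin t₁ t₂ t₃ w G = 𝟙 _ := by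
  refine ObjectProperty.hom_ext _ (NatTrans.ext (funext fun W => ?_))
  show G.obj.map (bcSp t₁ t₂ t₃ w W.unop).op ≫ G.obj.map (bcSpInv t₁ t₂ t₃ w W.unop).op = 𝟙 _
  rw [← Functor.map_comp, ← op_comp, bcSpInv_bcSp, op_id, CategoryTheory.Functor.map_id]

theorem mono_pushSp (G : EtCoh.Ab C) : Mono ((pushSp t₁ t₂ t₃ w).app G) :=
  mono_of_mono_fac (pushSp_pushJoin t₁ t₂ t₃ w G)

end Sp

/-- Associativity of `pushSp`. -/
theorem pushSp_assoc {A B C D : Scheme.{u}} (a : B ⟶ A) (b : C ⟶ B) (c : D ⟶ C) (ab : C ⟶ A) (bc : D ⟶ B)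
    (abc : D ⟶ A) (w₁ : b ≫ a = ab) (w₂ : c ≫ b = bc) (w₃ : c ≫ ab = abc) (w₄ : bc ≫ a = abc)
    (G : EtCoh.Ab D) :
    (pushSp ab c abc w₃).app G ≫ (pushSp a b ab w₁).app ((EtCoh.push c).obj G) =
      (pushSp a bc abc w₄).app G ≫ (EtCoh.push a).map ((pushSp b c bc w₂).app G) := by
  refine ObjectProperty.hom_ext _ (NatTrans.ext (funext fun W => ?_))
  obtain ⟨W⟩ := W
  show G.obj.map (bcSp ab c abc w₃ W).op ≫ G.obj.map ((EtCoh.bc c).map (bcSp a b ab w₁ W)).op =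
    G.obj.map (bcSp a bc abc w₄ W).op ≫ G.obj.map (bcSp b c bc w₂ ((EtCoh.bc a).obj W)).op
  rw [← Functor.map_comp, ← Functor.map_comp, ← op_comp, ← op_comp]
  congr 2
  refine bc_ext abc ?_
  show (((EtCoh.bc c).map (bcSp a b ab w₁ W)).left ≫ (bcSp ab c abc w₃ W).left) ≫ _ =
    ((bcSp b c bc w₂ ((EtCoh.bc a).obj W)).left ≫ (bcSp a bc abc w₄ W).left) ≫ _
  rw [Category.assoc, Category.assoc, bcSp_fst, bcSp_fst, ← Category.assoc, bc_map_fst, Category.assoc, bcSp_fst,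
    ← Category.assoc, ← Category.assoc, ← bcSp_fst b c bc w₂ ((EtCoh.bc a).obj W)]

variable {ι : Type u} [Preorder ι] [Nonempty ι] [IsDirected ι (· ≤ ·)] (S : Sys ι)

/-- The projection of the base change along the identity transition. -/
def prSelf (i : ι) (W : (S.X i).Etale) : S.at' (le_refl i) W ⟶ W :=
  MorphismProperty.Over.homMk (S.pr (le_refl i) W) (by
    show pullback.fst W.hom (S.t (le_refl i)) ≫ W.hom = pullback.snd W.hom (S.t (le_refl i))
    rw [pullback.condition, show S.t (le_refl i) = 𝟙 _ from S.Xs.map_id (op i)]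
    exact Category.comp_id _)

/-- A compatible system of abelian sheaves on the stages. -/
structure SysSh where
  F : ∀ i : ι, EtCoh.Ab (S.X i)
  φ : ∀ ⦃i j : ι⦄ (h : i ≤ j), F i ⟶ (EtCoh.push (S.t h)).obj (F j)
  cocycle : ∀ ⦃i j k : ι⦄ (h : i ≤ j) (h' : j ≤ k),
    φ (h.trans h') ≫ (pushSp (S.t h) (S.t h') (S.t (h.trans h')) (S.t_t h h')).app (F k) =
      φ h ≫ (EtCoh.push (S.t h)).map (φ h')
  refl : ∀ (i : ι) (W : (S.X i).Etale) (s : EtCoh.sect (F i) W),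
    (φ (le_refl i)).hom.app (op W) s = (F i).obj.map (prSelf S i W).op s

variable {S} (M : SysSh S)

/-- A cocone under a system. -/
structure CoconeSh (E : EtCoh.Ab S.c.pt) where
  ψ : ∀ i : ι, M.F i ⟶ (EtCoh.push (S.u i)).obj E
  comm : ∀ ⦃i j : ι⦄ (h : i ≤ j),
    ψ i ≫ (pushSp (S.t h) (S.u j) (S.u i) (S.u_t h)).app E = M.φ h ≫ (EtCoh.push (S.t h)).map (ψ j)

/-- Restriction to a later stage. -/
abbrev SysSh.res {i j : ι} (h : i ≤ j) {W : (S.X i).Etale} (s : EtCoh.sect (M.F i) W) :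
    EtCoh.sect (M.F j) (S.at' h W) := (M.φ h).hom.app (op W) s

theorem SysSh.res_map {i j : ι} (h : i ≤ j) {W W' : (S.X i).Etale} (g : W' ⟶ W) (s : EtCoh.sect (M.F i) W) :
    M.res h ((M.F i).obj.map g.op s) = (M.F j).obj.map ((EtCoh.bc (S.t h)).map g).op (M.res h s) :=
  congr($((M.φ h).hom.naturality g.op) s)

theorem SysSh.res_res {i j k : ι} (h : i ≤ j) (h' : j ≤ k) {W : (S.X i).Etale} (s : EtCoh.sect (M.F i) W) :
    M.res h' (M.res h s) =
      (M.F k).obj.map (bcSp (S.t h) (S.t h') (S.t (h.trans h')) (S.t_t h h') W).op (M.res (h.trans h') s) :=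
  congr(($(M.cocycle h h')).hom.app (op W) s).symm

variable {M} {E : EtCoh.Ab S.c.pt} (κ : CoconeSh M E)

/-- The image of a section of a stage on the limit. -/
abbrev CoconeSh.app {i : ι} {W : (S.X i).Etale} (s : EtCoh.sect (M.F i) W) :
    EtCoh.sect E ((EtCoh.bc (S.u i)).obj W) := (κ.ψ i).hom.app (op W) s

theorem CoconeSh.app_map {i : ι} {W W' : (S.X i).Etale} (g : W' ⟶ W) (s : EtCoh.sect (M.F i) W) :
    κ.app ((M.F i).obj.map g.op s) = E.obj.map ((EtCoh.bc (S.u i)).map g).op (κ.app s) :=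
  congr($((κ.ψ i).hom.naturality g.op) s)

theorem CoconeSh.app_res {i j : ι} (h : i ≤ j) {W : (S.X i).Etale} (s : EtCoh.sect (M.F i) W) :
    κ.app (M.res h s) = E.obj.map (bcSp (S.t h) (S.u j) (S.u i) (S.u_t h) W).op (κ.app s) :=
  congr(($(κ.comm h)).hom.app (op W) s).symm

/-- A map to a scheme over an earlier stage, as a map to its pullback. -/
def mkHom {k l : ι} {h : k ≤ l} {U : (S.X l).Etale} {W : (S.X k).Etale} (m : U.left ⟶ W.left)
    (hm : m ≫ W.hom = U.hom ≫ S.t h) : U ⟶ S.at' h W :=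
  MorphismProperty.Over.homMk (pullback.lift m U.hom hm) (pullback.lift_snd _ _ _)

theorem bc_map_mkHom {k l : ι} {h : k ≤ l} {U : (S.X l).Etale} {W : (S.X k).Etale} (m : U.left ⟶ W.left)
    (hm : m ≫ W.hom = U.hom ≫ S.t h) :
    (EtCoh.bc (S.u l)).map (mkHom m hm) ≫ bcSp (S.t h) (S.u l) (S.u k) (S.u_t h) W = bcTo m hm := by
  refine bc_ext _ ?_
  show (((EtCoh.bc (S.u l)).map (mkHom m hm)).left ≫ (bcSp (S.t h) (S.u l) (S.u k) (S.u_t h) W).left) ≫ _ = _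
  rw [Category.assoc, bcSp_fst, ← Category.assoc, bc_map_fst, Category.assoc, bcTo_left_fst]
  exact congrArg (_ ≫ ·) (pullback.lift_fst _ _ _)

/-- The restriction of a section along a map to an earlier stage. -/
abbrev SysSh.resTo (M : SysSh S) {k l : ι} {h : k ≤ l} {U : (S.X l).Etale} {W : (S.X k).Etale} (m : U.left ⟶ W.left)
    (hm : m ≫ W.hom = U.hom ≫ S.t h) (s : EtCoh.sect (M.F k) W) : EtCoh.sect (M.F l) U :=
  (M.F l).obj.map (mkHom m hm).op (M.res h s)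

theorem CoconeSh.app_resTo {k l : ι} {h : k ≤ l} {U : (S.X l).Etale} {W : (S.X k).Etale} (m : U.left ⟶ W.left)
    (hm : m ≫ W.hom = U.hom ≫ S.t h) (s : EtCoh.sect (M.F k) W) :
    κ.app (M.resTo m hm s) = E.obj.map (bcTo m hm).op (κ.app s) := by
  rw [κ.app_map, κ.app_res, ← bc_map_mkHom, op_comp, Functor.map_comp_apply]

theorem SysSh.resTo_resTo (M : SysSh S) {i j k : ι} {h : i ≤ j} {h' : j ≤ k} {U : (S.X i).Etale}
    {V : (S.X j).Etale} {W : (S.X k).Etale} (m : V.left ⟶ U.left) (hm : m ≫ U.hom = V.hom ≫ S.t h)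
    (m' : W.left ⟶ V.left) (hm' : m' ≫ V.hom = W.hom ≫ S.t h') (m'' : W.left ⟶ U.left)
    (hm'' : m'' ≫ U.hom = W.hom ≫ S.t (h.trans h')) (e : m' ≫ m = m'') (s : EtCoh.sect (M.F i) U) :
    M.resTo m' hm' (M.resTo m hm s) = M.resTo m'' hm'' s := by
  subst e
  show (M.F k).obj.map _ (M.res h' ((M.F j).obj.map _ _)) = _
  rw [M.res_map, M.res_res, ← Functor.map_comp_apply, ← Functor.map_comp_apply, ← op_comp, ← op_comp]
  congr 3
  refine congrArg Quiver.Hom.op (bc_ext _ ?_)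
  show ((mkHom m' hm').left ≫ ((EtCoh.bc (S.t h')).map (mkHom m hm)).left ≫
    (bcSp (S.t h) (S.t h') (S.t (h.trans h')) (S.t_t h h') U).left) ≫ _ = (mkHom (m' ≫ m) hm'').left ≫ _
  rw [Category.assoc, Category.assoc, bcSp_fst, reassoc_of% bc_map_fst (S.t h') (mkHom m hm)]
  refine Eq.trans ?_ (pullback.lift_fst _ _ hm'').symm
  rw [show (mkHom m hm).left ≫ pullback.fst U.hom (S.t h) = m from pullback.lift_fst _ _ _]
  exact pullback.lift_fst_assoc _ _ hm' m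

end Groth.Agent.EtLimLib
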