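import Groth.Agent.EtLimLib.ConstSys

/-!
# Systems given by maps of inverse images

A system given by maps `pull (t h) F i ⟶ F j` satisfying the cocycle condition becomes a `SysSh` after
thickening the index set by `ℕ`.
-/

set_option autoImplicit false
set_option linter.unusedSectionVars false
set_option linter.style.haveILetI false
set_option backward.isDefEq.respectTransparency false
set_option backward.isDefEq.respectTransparency.types false
set_option maxHeartbeats 1000000

universe u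

open CategoryTheory CategoryTheory.Limits AlgebraicGeometry Opposite

noncomputable section

namespace Groth.Agent.EtLimLib

theorem homEquiv_comparePull {A B C : Scheme.{u}} (g : B ⟶ A) (f : C ⟶ B) (h : C ⟶ A) (w : f ≫ g = h)
    {F : EtCoh.Ab A} {M : EtCoh.Ab B} {N : EtCoh.Ab C} (α : (EtCoh.pull g).obj F ⟶ M)
    (β : (EtCoh.pull f).obj M ⟶ N) :
    (EtCoh.pullPushAdj h).homEquiv _ _ ((comparePull g f h w).app F ≫ (EtCoh.pull f).map α ≫ β) =
      (EtCoh.pullPushAdj g).homEquiv _ _ α ≫ (EtCoh.push g).map ((EtCoh.pullPushAdj f).homEquiv _ _ β) ≫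
        pushJoin g f h w N := by
  rw [Adjunction.homEquiv_naturality_right]
  rw [show (EtCoh.pullPushAdj h).homEquiv _ _ ((comparePull g f h w).app F) = _ from Equiv.apply_symm_apply _ _]
  rw [Category.assoc, Category.assoc, ← pushJoin_natural g f h w, ← Functor.map_comp_assoc,
    Adjunction.homEquiv_unit, Adjunction.homEquiv_unit, Category.assoc, ← Functor.map_comp_assoc]
  have hm : α ≫ (EtCoh.pullPushAdj f).unit.app M =
      (EtCoh.pullPushAdj f).unit.app ((EtCoh.pull g).obj F) ≫ (EtCoh.push f).map ((EtCoh.pull f).map α) :=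
    (EtCoh.pullPushAdj f).unit.naturality α
  simp only [Functor.map_comp, ← Category.assoc, hm]

/-- The index set, thickened. -/
structure Thick (ι : Type u) : Type u where
  fst : ι
  snd : ℕ

variable {ι : Type u} [Preorder ι]

instance : Preorder (Thick ι) where
  le p q := p = q ∨ (p.1 ≤ q.1 ∧ p.2 < q.2)
  le_refl p := Or.inl rfl
  le_trans p q r h h' := by
    rcases h with rfl | h
    · exact h'
    · rcases h' with rfl | h'
      · exact Or.inr h
      · exact Or.inr ⟨h.1.trans h'.1, h.2.trans h'.2⟩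

theorem Thick.fst_le {p q : Thick ι} (h : p ≤ q) : p.1 ≤ q.1 := by
  rcases h with rfl | h
  · exact le_refl _
  · exact h.1

theorem Thick.snd_le {p q : Thick ι} (h : p ≤ q) : p.2 ≤ q.2 := by
  rcases h with rfl | h
  · exact le_refl _
  · exact h.2.le

theorem Thick.fst_mono : Monotone (Thick.fst : Thick ι → ι) := fun _ _ h => Thick.fst_le h

instance [Nonempty ι] : Nonempty (Thick ι) := ⟨⟨Classical.arbitrary ι, 0⟩⟩

variable [IsDirected ι (· ≤ ·)]

instance : IsDirected (Thick ι) (· ≤ ·) where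
  directed p q := by
    obtain ⟨m, hm, hm'⟩ := directed_of (α := ι) (· ≤ ·) p.1 q.1
    exact ⟨⟨m, max p.2 q.2 + 1⟩, Or.inr ⟨hm, Nat.lt_succ_of_le (le_max_left _ _)⟩,
      Or.inr ⟨hm', Nat.lt_succ_of_le (le_max_right _ _)⟩⟩

instance final_fst [Nonempty ι] : (Thick.fst_mono (ι := ι)).functor.Final :=
  (Monotone.final_functor_iff _).2 fun j => ⟨⟨j, 0⟩, le_refl j⟩

variable [Nonempty ι] (S : Sys ι)

/-- The system over the thickened index set. -/
def Sys.thick : Sys (Thick ι) where
  Xs := (Thick.fst_mono (ι := ι)).functor.op ⋙ S.Xs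
  aff a b h := S.aff _
  qc a := S.qc _
  qs a := S.qs _
  c := S.c.whisker (Thick.fst_mono (ι := ι)).functor.op
  hc := (Functor.Initial.isLimitWhiskerEquiv (Thick.fst_mono (ι := ι)).functor.op S.c).symm S.hc

variable (F : ∀ i : ι, EtCoh.Ab (S.X i)) (φ : ∀ ⦃i j : ι⦄ (h : i ≤ j), (EtCoh.pull (S.t h)).obj (F i) ⟶ F j)
  (hφ : ∀ ⦃i j k : ι⦄ (h : i ≤ j) (h' : j ≤ k), φ (h.trans h') =
    (comparePull (S.t h) (S.t h') (S.t (h.trans h')) (S.t_t h h')).app (F i) ≫ (EtCoh.pull (S.t h')).map (φ h) ≫ φ h')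

open scoped Classical in
/-- The transition maps over the thickened index set. -/
def thickφ {p q : Thick ι} (h : p ≤ q) : F p.1 ⟶ (EtCoh.push ((S.thick).t h)).obj (F q.1) :=
  if e : p = q then by
    subst e
    exact (selfMap S.thick p).app (F p.1)
  else (EtCoh.pullPushAdj (S.t (Thick.fst_le h))).homEquiv _ _ (φ (Thick.fst_le h))

theorem thickφ_self (p : Thick ι) : thickφ S F φ (le_refl p) = (selfMap S.thick p).app (F p.1) :=
  dif_pos rfl

theorem thickφ_ne {p q : Thick ι} (h : p ≤ q) (hn : p ≠ q) :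
    thickφ S F φ h = (EtCoh.pullPushAdj (S.t (Thick.fst_le h))).homEquiv _ _ (φ (Thick.fst_le h)) :=
  dif_neg hn

theorem pushSp_self_right {p q : Thick ι} (h : p ≤ q) (G : EtCoh.Ab (S.thick.X q)) :
    (pushSp (S.thick.t h) (S.thick.t (le_refl q)) (S.thick.t (h.trans (le_refl q))) (S.thick.t_t _ _)).app G =
      (EtCoh.push (S.thick.t h)).map ((selfMap S.thick q).app G) := by
  refine ObjectProperty.hom_ext _ (NatTrans.ext (funext fun W => ?_))
  show G.obj.map _ = G.obj.map _
  congr 2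
  refine bc_ext _ ?_
  rw [bcSp_fst]
  rfl

include hφ in
theorem thickφ_cocycle {p q r : Thick ι} (h : p ≤ q) (h' : q ≤ r) :
    thickφ S F φ (h.trans h') ≫
      (pushSp (S.thick.t h) (S.thick.t h') (S.thick.t (h.trans h')) (S.thick.t_t h h')).app (F r.1) =
      thickφ S F φ h ≫ (EtCoh.push (S.thick.t h)).map (thickφ S F φ h') := by
  by_cases e₁ : p = q
  · subst e₁
    refine (congrArg (fun a => thickφ S F φ h' ≫ a) (pushSp_self (S := S.thick) h' (F r.1))).trans ?_
    rw [thickφ_self]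
    exact (selfMap S.thick p).naturality (thickφ S F φ h')
  by_cases e₂ : q = r
  · subst e₂
    refine (congrArg (fun a => thickφ S F φ h ≫ a) (pushSp_self_right S h (F q.1))).trans ?_
    rw [thickφ_self]
  have hlt : p.2 < r.2 := (h.resolve_left e₁).2.trans (h'.resolve_left e₂).2
  rw [thickφ_ne S F φ _ (fun e => by subst e; exact lt_irrefl _ hlt), thickφ_ne S F φ h e₁, thickφ_ne S F φ h' e₂]
  rw [show φ (Thick.fst_le (h.trans h')) = _ from hφ (Thick.fst_le h) (Thick.fst_le h'), homEquiv_comparePull]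
  simp only [Category.assoc]
  refine congrArg (fun a => (EtCoh.pullPushAdj (S.t (Thick.fst_le h))).homEquiv _ _ (φ (Thick.fst_le h)) ≫ a) ?_
  refine Eq.trans ?_ (Category.comp_id _)
  exact congrArg (fun a => _ ≫ a) (pushJoin_pushSp (S.t (Thick.fst_le h)) (S.t (Thick.fst_le h'))
    (S.t ((Thick.fst_le h).trans (Thick.fst_le h'))) (S.t_t _ _) (F r.1))

/-- The system over the thickened index set. -/
def thickSys : SysSh S.thick where
  F p := F p.1
  φ p q h := thickφ S F φ h
  cocycle p q r h h' := thickφ_cocycle S F φ hφ h h'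
  refl p W s := congr(($(thickφ_self S F φ p)).hom.app (op W) s)

theorem thickSys_mate {p q : Thick ι} (h : p ≤ q) (hn : p ≠ q) :
    (thickSys S F φ hφ).mate h = φ (Thick.fst_le h) :=
  (congrArg ((EtCoh.pullPushAdj (S.t (Thick.fst_le h))).homEquiv _ _).symm (thickφ_ne S F φ h hn)).trans
    (Equiv.symm_apply_apply _ _)

variable (G : ι ⥤ EtCoh.Ab S.c.pt) (ψ : ∀ i, (EtCoh.pull (S.u i)).obj (F i) ≅ G.obj i)
  (hψ : ∀ ⦃i j : ι⦄ (h : i ≤ j), (ψ i).hom ≫ G.map (homOfLE h) =
    (comparePull (S.t h) (S.u j) (S.u i) (S.u_t h)).app (F i) ≫ (EtCoh.pull (S.u j)).map (φ h) ≫ (ψ j).hom)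

/-- The diagram of inverse images over the thickened index set. -/
def thickDiag : PullDiag (thickSys S F φ hφ) where
  G := (Thick.fst_mono (ι := ι)).functor ⋙ G
  η p := (EtCoh.pullPushAdj (S.u p.1)).homEquiv _ _ (ψ p.1).hom
  isIso p := by
    show IsIso (((EtCoh.pullPushAdj (S.u p.1)).homEquiv _ _).symm _)
    rw [Equiv.symm_apply_apply]
    infer_instance
  comm p q h := by
    by_cases e : p = q
    · subst e
      have e1 : G.map (homOfLE (Thick.fst_le h)) = 𝟙 _ := G.map_id p.1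
      have e2 : (pushSp (S.thick.t h) (S.thick.u p) (S.thick.u p) (S.thick.u_t h)).app (G.obj p.1) =
          (selfMap S.thick p).app ((EtCoh.push (S.thick.u p)).obj (G.obj p.1)) := by
        refine ObjectProperty.hom_ext _ (NatTrans.ext (funext fun W => ?_))
        show (G.obj p.1).obj.map _ = (G.obj p.1).obj.map _
        congr 2
      show _ ≫ (EtCoh.push (S.u p.1)).map (G.map (homOfLE (Thick.fst_le h))) ≫ _ = thickφ S F φ h ≫ _
      rw [e1, CategoryTheory.Functor.map_id, thickφ_self]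
      refine (congrArg (fun a => _ ≫ 𝟙 _ ≫ a) e2).trans ?_
      refine (congrArg (fun a => _ ≫ a) (Category.id_comp _)).trans ?_
      exact (selfMap S.thick p).naturality ((EtCoh.pullPushAdj (S.u p.1)).homEquiv _ _ (ψ p.1).hom)
    · show _ ≫ (EtCoh.push (S.u p.1)).map (G.map (homOfLE (Thick.fst_le h))) ≫ _ = thickφ S F φ h ≫ _
      rw [thickφ_ne S F φ h e, ← Category.assoc]
      refine (congrArg (fun a => a ≫ _) ((EtCoh.pullPushAdj (S.u p.1)).homEquiv_naturality_right (ψ p.1).hom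
        (G.map (homOfLE (Thick.fst_le h)))).symm).trans ?_
      rw [hψ (Thick.fst_le h), homEquiv_comparePull]
      simp only [Category.assoc]
      refine congrArg (fun a => (EtCoh.pullPushAdj (S.t (Thick.fst_le h))).homEquiv _ _ (φ (Thick.fst_le h)) ≫ a) ?_
      refine Eq.trans ?_ (Category.comp_id _)
      exact congrArg (fun a => _ ≫ a) (pushJoin_pushSp (S.t (Thick.fst_le h)) (S.u q.1) (S.u p.1) (S.u_t _) (G.obj q.1))

/-- Continuity for a system given by maps of inverse images. -/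
theorem continuity_pull [HasColimit G] (hψ : ∀ ⦃i j : ι⦄ (h : i ≤ j), (ψ i).hom ≫ G.map (homOfLE h) =
      (comparePull (S.t h) (S.u j) (S.u i) (S.u_t h)).app (F i) ≫ (EtCoh.pull (S.u j)).map (φ h) ≫ (ψ j).hom)
    (hφ : ∀ ⦃i j k : ι⦄ (h : i ≤ j) (h' : j ≤ k), φ (h.trans h') =
      (comparePull (S.t h) (S.t h') (S.t (h.trans h')) (S.t_t h h')).app (F i) ≫
        (EtCoh.pull (S.t h')).map (φ h) ≫ φ h')
    (n : ℕ) :
    (∀ ξ : EtCoh.H S.c.pt (colimit G) n, ∃ (j : ι) (x : EtCoh.H (S.X j) (F j) n),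
      EtLim.HpullThen (S.u j) (F j) ((ψ j).hom ≫ colimit.ι G j) n x = ξ) ∧
    (∀ (j : ι) (x : EtCoh.H (S.X j) (F j) n), EtLim.HpullThen (S.u j) (F j) ((ψ j).hom ≫ colimit.ι G j) n x = 0 →
      ∃ (k : ι) (hk : j ≤ k), EtLim.HpullThen (S.t hk) (F j) (φ hk) n x = 0) := by
  let P := thickDiag S F φ hφ G ψ hψ
  let γ : Cocone P.G := (colimit.cocone G).whisker (Thick.fst_mono (ι := ι)).functor
  have hγ : IsColimit γ :=
    (Functor.Final.isColimitWhiskerEquiv (Thick.fst_mono (ι := ι)).functor (colimit.cocone G)).symm (colimit.isColimit G)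
  have hmate : ∀ p : Thick ι, (P.cocone γ).mate (thickSys S F φ hφ) p = (ψ p.1).hom ≫ colimit.ι G p.1 := fun p => by
    apply ((EtCoh.pullPushAdj (S.u p.1)).homEquiv _ _).injective
    refine (Equiv.apply_symm_apply _ _).trans ?_
    exact ((EtCoh.pullPushAdj (S.u p.1)).homEquiv_naturality_right (ψ p.1).hom (colimit.ι G p.1)).symm
  obtain ⟨hs, hi⟩ := continuity (isColim_cocone P hγ) n
  constructor
  · intro ξ
    obtain ⟨p, x, hx⟩ := hs ξ
    refine ⟨p.1, x, Eq.trans ?_ hx⟩
    rw [hmate]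
    rfl
  · intro j x hx
    obtain ⟨q, hq, e⟩ := hi ⟨j, 0⟩ x (by rw [hmate]; exact hx)
    let r : Thick ι := ⟨q.1, q.2 + 1⟩
    have hqr : q ≤ r := Or.inr ⟨le_refl _, Nat.lt_succ_self _⟩
    have hne : (⟨j, 0⟩ : Thick ι) ≠ r := fun h => Nat.succ_ne_zero q.2 (congrArg Thick.snd h).symm
    have e' := (HpullThen_mate_trans (thickSys S F φ hφ) hq hqr n x).symm.trans
      ((congrArg _ e).trans (map_zero _))
    rw [thickSys_mate S F φ hφ (hq.trans hqr) hne] at e'
    exact ⟨r.1, Thick.fst_le (hq.trans hqr), e'⟩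

end Groth.Agent.EtLimLib
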